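import Mathlib.LinearAlgebra.CrossProduct
import Cfsg.Agent.Lib.Classical.PThree.Basic
import Cfsg.Agent.Lib.Classical.LinBasic

/-!
# Groups generated by transvections of the plane in characteristic two: vocabulary
-/

set_option autoImplicit false
set_option linter.unusedSectionVars false

namespace Cfsg.Agent.PThree.TEven

open Matrix Cfsg Cfsg.Geo
open scoped MatrixGroups commutatorElement

variable {F : Type*} [Field F]

local notation "G3" => GL (Fin 3) F
local notation "M3" => Matrix (Fin 3) (Fin 3) F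
local notation "V3" => (Fin 3 → F)

/-- The matrix of a transvection. -/
def tv (v φ : V3) : M3 := 1 + vecMulVec v φ

theorem tv_det (v φ : V3) : (tv v φ).det = 1 + φ ⬝ᵥ v := by
  simp [tv, Matrix.det_fin_three, vecMulVec, dotProduct, Fin.sum_univ_three]
  ring

theorem tv_mul (v φ w ψ : V3) :
    tv v φ * tv w ψ = 1 + vecMulVec v φ + vecMulVec w ψ + (φ ⬝ᵥ w) • vecMulVec v ψ := by
  simp only [tv, add_mul, one_mul, mul_add, mul_one, vecMulVec_mul_vecMulVec, ← smul_vecMulVec,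
    vecMulVec_smul]
  abel

theorem tv_mulVec (v φ u : V3) : tv v φ *ᵥ u = u + (φ ⬝ᵥ u) • v := by
  simp [tv, add_mulVec, vecMulVec_mulVec]

theorem vecMul_tv (v φ θ : V3) : θ ᵥ* tv v φ = θ + (θ ⬝ᵥ v) • φ := by
  simp [tv, vecMul_add, vecMul_vecMulVec]

theorem tv_smul (s : F) (v φ : V3) : tv (s • v) φ = tv v (s • φ) := by
  simp [tv, smul_vecMulVec, vecMulVec_smul]

theorem vmv_ne_zero {v φ : V3} (hv : v ≠ 0) (hφ : φ ≠ 0) : vecMulVec v φ ≠ 0 := fun e => by
  obtain ⟨i, hi⟩ := Function.ne_iff.1 hv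
  obtain ⟨j, hj⟩ := Function.ne_iff.1 hφ
  exact mul_ne_zero hi hj (congrFun (congrFun e i) j)

theorem tv_eq_one {v φ : V3} (h : tv v φ = 1) : v = 0 ∨ φ = 0 := by
  by_contra hno
  push Not at hno
  exact vmv_ne_zero hno.1 hno.2 (add_eq_left.mp h)

/-- Two transvection matrices agree only if centre and axis agree. -/
theorem tv_inj {v φ w ψ : V3} (hv : v ≠ 0) (hφ : φ ≠ 0) (h : tv v φ = tv w ψ) :
    ∃ s : F, s ≠ 0 ∧ w = s • v ∧ φ = s • ψ := by
  have e : vecMulVec v φ = vecMulVec w ψ := add_left_cancel h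
  obtain ⟨i, hi⟩ := Function.ne_iff.1 hv
  obtain ⟨j, hj⟩ := Function.ne_iff.1 hφ
  have eij : v i * φ j = w i * ψ j := congrFun (congrFun e i) j
  have hwi : w i ≠ 0 := fun e0 => mul_ne_zero hi hj (by rw [eij, e0, zero_mul])
  have hψj : ψ j ≠ 0 := fun e0 => mul_ne_zero hi hj (by rw [eij, e0, mul_zero])
  refine ⟨φ j / ψ j, div_ne_zero hj hψj, funext fun k => ?_, funext fun k => ?_⟩
  · have ek : v k * φ j = w k * ψ j := congrFun (congrFun e k) j
    show w k = φ j / ψ j * v k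
    field_simp
    linear_combination -ek
  · have ek : v i * φ k = w i * ψ k := congrFun (congrFun e i) k
    show φ k = φ j / ψ j * ψ k
    field_simp
    refine mul_left_cancel₀ hi ?_
    linear_combination ψ j * ek - ψ k * eij

theorem par_of_cross {a b : V3} (hb : b ≠ 0) (h : a ⨯₃ b = 0) : ∃ s : F, a = s • b := by
  obtain ⟨k, hk⟩ := Function.ne_iff.1 hb
  simp only [Pi.zero_apply] at hk
  have h0 := congrFun h 0
  have h1 := congrFun h 1
  have h2 := congrFun h 2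
  simp [cross_apply] at h0 h1 h2
  refine ⟨a k / b k, funext fun i => ?_⟩
  show a i = a k / b k * b i
  field_simp
  fin_cases k <;> fin_cases i <;> simp <;>
    first | linear_combination h0 | linear_combination h1 | linear_combination h2 | linear_combination -h0 | linear_combination -h1 | linear_combination -h2

theorem cross_ne {v w : V3} (hw : w ≠ 0) (h : ∀ s : F, v ≠ s • w) : v ⨯₃ w ≠ 0 := fun e => by
  obtain ⟨s, hs⟩ := par_of_cross hw e
  exact h s hs

theorem ne_of_indep {v w : V3} (h : ∀ s : F, v ≠ s • w) : v ≠ 0 := fun e => h 0 (by simp [e])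

/-- The functionals killing two independent vectors form a line. -/
theorem par_cross_of_zero {v w φ : V3} (hw : w ≠ 0) (h : ∀ s : F, v ≠ s • w) (hv : φ ⬝ᵥ v = 0)
    (hφw : φ ⬝ᵥ w = 0) : ∃ s : F, φ = s • (v ⨯₃ w) := by
  refine par_of_cross (cross_ne hw h) ?_
  simp [dotProduct, Fin.sum_univ_three] at hv hφw
  funext i
  fin_cases i <;> simp [cross_apply]
  · linear_combination v 0 * hφw - w 0 * hv
  · linear_combination v 1 * hφw - w 1 * hv
  · linear_combination v 2 * hφw - w 2 * hv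

theorem axes_par {v w φ ψ : V3} (hw : w ≠ 0) (h : ∀ s : F, v ≠ s • w) (hψ : ψ ≠ 0)
    (h1 : φ ⬝ᵥ v = 0) (h2 : φ ⬝ᵥ w = 0) (h3 : ψ ⬝ᵥ v = 0) (h4 : ψ ⬝ᵥ w = 0) :
    ∃ s : F, φ = s • ψ := by
  obtain ⟨a, rfl⟩ := par_cross_of_zero hw h h1 h2
  obtain ⟨b, rfl⟩ := par_cross_of_zero hw h h3 h4
  have hb : b ≠ 0 := fun e => hψ (by rw [e, zero_smul])
  exact ⟨a / b, by rw [smul_smul, div_mul_cancel₀ _ hb]⟩

theorem exists_perp (a b : V3) : ∃ u : V3, u ≠ 0 ∧ a ⬝ᵥ u = 0 ∧ b ⬝ᵥ u = 0 := by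
  by_cases hb : b = 0
  · subst hb
    by_cases ha : a = 0
    · subst ha; exact ⟨Pi.single 0 1, by simp, by simp, by simp⟩
    · obtain ⟨k, hk⟩ := Function.ne_iff.1 ha
      obtain ⟨l, hl⟩ : ∃ l : Fin 3, l ≠ k := exists_ne k
      refine ⟨Pi.single l (a k) - Pi.single k (a l), fun e => hk ?_, ?_, by simp⟩
      · simpa [hl, hl.symm] using congrFun e l
      · simp [dotProduct_sub, mul_comm]
  by_cases h : ∃ s : F, a = s • b
  · obtain ⟨s, rfl⟩ := h
    obtain ⟨k, hk⟩ := Function.ne_iff.1 hb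
    obtain ⟨l, hl⟩ : ∃ l : Fin 3, l ≠ k := exists_ne k
    refine ⟨Pi.single l (b k) - Pi.single k (b l), fun e => hk ?_, ?_, ?_⟩
    · simpa [hl, hl.symm] using congrFun e l
    · simp [dotProduct_sub, mul_comm, mul_left_comm]
    · simp [dotProduct_sub, mul_comm]
  · push Not at h
    exact ⟨a ⨯₃ b, cross_ne hb h, dot_self_cross _ _, dot_cross_self _ _⟩

/-! ## Transvections of a group -/

/-- The transvection matrix with centre `v` and axis `φ` lies in `P`. -/
def Mem (P : Subgroup G3) (v φ : V3) : Prop := ∃ g ∈ P, (g : M3) = tv v φ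

/-- A genuine transvection of `P`. -/
def Tv (P : Subgroup G3) (v φ : V3) : Prop := v ≠ 0 ∧ φ ≠ 0 ∧ Mem P v φ

/-- A root group with at least four elements. -/
def Big (P : Subgroup G3) (v φ : V3) : Prop :=
  Tv P v φ ∧ ∃ s : F, s ≠ 0 ∧ s ≠ 1 ∧ Mem P v (s • φ)

/-- The standing hypotheses on a group generated by transvections. -/
structure Gen (P : Subgroup G3) : Prop where
  two : (2 : F) = 0
  le_sl : P ≤ specialLinear (Fin 3) F
  gen : P ≤ Subgroup.closure {g : G3 | ∃ v φ, Tv P v φ ∧ (g : M3) = tv v φ}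
  moves : ∀ u : V3, u ≠ 0 → ∃ w ψ, Tv P w ψ ∧ ψ ⬝ᵥ u ≠ 0
  spans : ∀ θ : V3, θ ≠ 0 → ∃ w ψ, Tv P w ψ ∧ θ ⬝ᵥ w ≠ 0

theorem add_self (h2 : (2 : F) = 0) {M : Type*} [AddCommGroup M] [Module F M] (x : M) : x + x = 0 := by
  rw [← two_smul F x, h2, zero_smul]

theorem mem_zero (P : Subgroup G3) (v : V3) : Mem P v 0 := ⟨1, one_mem P, by simp [tv]⟩

theorem mem_smul_iff {P : Subgroup G3} {s : F} {v φ : V3} : Mem P (s • v) φ ↔ Mem P v (s • φ) := by
  simp [Mem, tv_smul]

variable {P : Subgroup (GL (Fin 3) F)}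

theorem det_one (h : P ≤ specialLinear (Fin 3) F) {g : G3} (hg : g ∈ P) : (g : M3).det = 1 := by
  have := h hg
  rwa [specialLinear, MonoidHom.mem_ker, Units.ext_iff] at this

theorem Mem.orth {v φ : V3} (hP : P ≤ specialLinear (Fin 3) F) (h : Mem P v φ) : φ ⬝ᵥ v = 0 := by
  obtain ⟨g, hg, e⟩ := h
  have := det_one hP hg
  rw [e, tv_det] at this
  exact add_eq_left.mp this

theorem Mem.add {v φ ψ : V3} (hP : P ≤ specialLinear (Fin 3) F) (h : Mem P v φ) (h' : Mem P v ψ) :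
    Mem P v (φ + ψ) := by
  have ho := h.orth hP
  obtain ⟨g, hg, e⟩ := h
  obtain ⟨g', hg', e'⟩ := h'
  refine ⟨g * g', mul_mem hg hg', ?_⟩
  rw [Units.val_mul, e, e', tv_mul, ho, zero_smul, add_zero, tv, vecMulVec_add]
  abel

theorem Mem.addLeft {u w φ : V3} (hP : P ≤ specialLinear (Fin 3) F) (h : Mem P u φ) (h' : Mem P w φ) :
    Mem P (u + w) φ := by
  have ho := h'.orth hP
  obtain ⟨g, hg, e⟩ := h
  obtain ⟨g', hg', e'⟩ := h'
  refine ⟨g * g', mul_mem hg hg', ?_⟩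
  rw [Units.val_mul, e, e', tv_mul, ho, zero_smul, add_zero, tv, add_vecMulVec]
  abel

theorem Mem.conj {v φ : V3} (h : Mem P v φ) {g : G3} (hg : g ∈ P) :
    Mem P ((g : M3) *ᵥ v) (φ ᵥ* ((g⁻¹ : G3) : M3)) := by
  obtain ⟨x, hx, e⟩ := h
  refine ⟨g * x * g⁻¹, mul_mem (mul_mem hg hx) (inv_mem hg), ?_⟩
  rw [Units.val_mul, Units.val_mul, e, tv, tv, mul_add, mul_one, add_mul, Units.mul_inv, mul_vecMulVec,
    vecMulVec_mul]

theorem inv_eq_self {w ψ : V3} (h2 : (2 : F) = 0) {g : G3} (e : (g : M3) = tv w ψ) (ho : ψ ⬝ᵥ w = 0) :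
    g⁻¹ = g := by
  refine inv_eq_of_mul_eq_one_right (Units.ext ?_)
  rw [Units.val_mul, e, tv_mul, ho, zero_smul, add_zero, add_assoc, add_self h2, add_zero, Units.val_one]

/-- Conjugation of one transvection by another. -/
theorem Mem.conjTv (h2 : (2 : F) = 0) (hP : P ≤ specialLinear (Fin 3) F) {v φ w ψ : V3}
    (h : Mem P v φ) (h' : Mem P w ψ) :
    Mem P (v + (ψ ⬝ᵥ v) • w) (φ + (φ ⬝ᵥ w) • ψ) := by
  have ho := h'.orth hP
  obtain ⟨g, hg, e⟩ := h'
  have := h.conj hg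
  rwa [inv_eq_self h2 e ho, e, tv_mulVec, vecMul_tv] at this

theorem Tv.conj {v φ : V3} (h : Tv P v φ) {g : G3} (hg : g ∈ P) :
    Tv P ((g : M3) *ᵥ v) (φ ᵥ* ((g⁻¹ : G3) : M3)) := by
  refine ⟨fun e => h.1 ?_, fun e => h.2.1 ?_, h.2.2.conj hg⟩
  · rw [← Cfsg.Agent.Classical.gl_inv_mulVec_cancel g v, e, mulVec_zero]
  · rw [← vecMul_one φ, ← Units.inv_mul g, ← vecMul_vecMul, e, zero_vecMul]

theorem Tv.ne_one {v φ : V3} (h : Tv P v φ) {g : G3} (e : (g : M3) = tv v φ) : g ≠ 1 := fun e1 => by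
  rw [e1, Units.val_one] at e
  rcases tv_eq_one e.symm with h0 | h0
  · exact h.1 h0
  · exact h.2.1 h0

/-- Commuting transvections annihilate each other's centres. -/
theorem zero_of_comm {v φ w ψ : V3} (hv : v ≠ 0) (hφ : φ ≠ 0) (hw : w ≠ 0) (hψ : ψ ≠ 0)
    (hov : φ ⬝ᵥ v = 0) (how : ψ ⬝ᵥ w = 0) (h : tv v φ * tv w ψ = tv w ψ * tv v φ) :
    φ ⬝ᵥ w = 0 ∧ ψ ⬝ᵥ v = 0 := by
  rw [tv_mul, tv_mul, add_right_comm (1 : M3) (vecMulVec w ψ)] at h
  have e : (φ ⬝ᵥ w) • vecMulVec v ψ = (ψ ⬝ᵥ v) • vecMulVec w φ := add_left_cancel h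
  have key : φ ⬝ᵥ w = 0 := by
    by_contra hne
    have h' := congrArg (fun M : M3 => φ ᵥ* M) e
    simp [vecMul_smul, vecMul_vecMulVec, hov] at h'
    rw [(smul_eq_zero.1 h'.symm).resolve_right (smul_ne_zero hne hφ), zero_smul] at e
    exact smul_ne_zero hne (vmv_ne_zero hv hψ) e
  refine ⟨key, ?_⟩
  rw [key, zero_smul] at e
  rcases smul_eq_zero.1 e.symm with h0 | h0
  · exact h0
  · exact absurd h0 (vmv_ne_zero hw hφ)

/-! ## Duality and change of coordinates -/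

/-- Inverse transpose. -/
def dualHom : G3 →* G3 where
  toFun g := ⟨((g⁻¹ : G3) : M3)ᵀ, (g : M3)ᵀ, by rw [← transpose_mul, Units.mul_inv, transpose_one],
    by rw [← transpose_mul, Units.inv_mul, transpose_one]⟩
  map_one' := Units.ext (by simp)
  map_mul' a b := Units.ext (by simp [transpose_mul])

theorem dualHom_dualHom (g : G3) : dualHom (dualHom g) = g := Units.ext (by
  show (((dualHom g)⁻¹ : G3) : M3)ᵀ = g
  show ((g : M3)ᵀ)ᵀ = g
  rw [transpose_transpose])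

/-- The group acting on functionals. -/
def dual (P : Subgroup G3) : Subgroup G3 := P.map dualHom

theorem dual_dual (P : Subgroup G3) : dual (dual P) = P := by
  rw [dual, dual, Subgroup.map_map]
  conv_rhs => rw [← Subgroup.map_id P]
  congr 1

theorem Mem.dual' (h2 : (2 : F) = 0) (hP : P ≤ specialLinear (Fin 3) F) {v φ : V3} (h : Mem P v φ) :
    Mem (dual P) φ v := by
  have ho := h.orth hP
  obtain ⟨g, hg, e⟩ := h
  refine ⟨dualHom g, Subgroup.mem_map_of_mem _ hg, ?_⟩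
  show ((g⁻¹ : G3) : M3)ᵀ = _
  rw [inv_eq_self h2 e ho, e, tv, tv, transpose_add, transpose_one, transpose_vecMulVec]

theorem dual_le_sl (hP : P ≤ specialLinear (Fin 3) F) : dual P ≤ specialLinear (Fin 3) F := by
  rintro _ ⟨g, hg, rfl⟩
  rw [specialLinear, MonoidHom.mem_ker, Units.ext_iff]
  show (((g⁻¹ : G3) : M3)ᵀ).det = 1
  rw [det_transpose, det_one hP (inv_mem hg)]

theorem Gen.mem_dual (hG : Gen P) {v φ : V3} : Mem (dual P) φ v ↔ Mem P v φ :=
  ⟨fun h => dual_dual P ▸ h.dual' hG.two (dual_le_sl hG.le_sl), fun h => h.dual' hG.two hG.le_sl⟩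

theorem Gen.tv_dual (hG : Gen P) {v φ : V3} : Tv (dual P) φ v ↔ Tv P v φ := by
  simp only [Tv, hG.mem_dual]
  tauto

theorem Gen.dual' (hG : Gen P) : Gen (dual P) where
  two := hG.two
  le_sl := dual_le_sl hG.le_sl
  gen := by
    refine Subgroup.map_le_iff_le_comap.2 (hG.gen.trans ?_)
    rw [Subgroup.closure_le]
    rintro g ⟨v, φ, h, e⟩
    refine Subgroup.subset_closure ⟨φ, v, hG.tv_dual.2 h, ?_⟩
    show ((g⁻¹ : G3) : M3)ᵀ = _
    rw [inv_eq_self hG.two e (h.2.2.orth hG.le_sl), e, tv, tv, transpose_add, transpose_one,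
      transpose_vecMulVec]
  moves := fun u hu => by
    obtain ⟨w, ψ, h, h'⟩ := hG.spans u hu
    exact ⟨ψ, w, hG.tv_dual.2 h, by rwa [dotProduct_comm]⟩
  spans := fun θ hθ => by
    obtain ⟨w, ψ, h, h'⟩ := hG.moves θ hθ
    exact ⟨ψ, w, hG.tv_dual.2 h, by rwa [dotProduct_comm]⟩

/-- Change of basis. -/
def cj (P : Subgroup G3) (B : G3) : Subgroup G3 := P.map (MulAut.conj B⁻¹).toMonoidHom

theorem mem_cj {B g : G3} : g ∈ cj P B ↔ B * g * B⁻¹ ∈ P := by
  constructor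
  · rintro ⟨x, hx, rfl⟩
    simpa [mul_assoc] using hx
  · intro h
    exact ⟨_, h, by simp [mul_assoc]⟩

theorem mem_cj_tv {B : G3} {v φ : V3} :
    Mem (cj P B) v φ ↔ Mem P ((B : M3) *ᵥ v) (φ ᵥ* ((B⁻¹ : G3) : M3)) := by
  constructor
  · rintro ⟨g, hg, e⟩
    refine ⟨_, mem_cj.1 hg, ?_⟩
    rw [Units.val_mul, Units.val_mul, e, tv, tv, mul_add, mul_one, add_mul, Units.mul_inv, mul_vecMulVec,
      vecMulVec_mul]
  · rintro ⟨g, hg, e⟩
    refine ⟨B⁻¹ * g * B, mem_cj.2 (by simpa [mul_assoc] using hg), ?_⟩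
    rw [Units.val_mul, Units.val_mul, e, tv, tv, mul_add, mul_one, add_mul, Units.inv_mul, mul_vecMulVec,
      vecMulVec_mul, vecMul_vecMul, Units.inv_mul, vecMul_one, mulVec_mulVec, Units.inv_mul, one_mulVec]

theorem tv_cj {B : G3} {v φ : V3} :
    Tv (cj P B) v φ ↔ Tv P ((B : M3) *ᵥ v) (φ ᵥ* ((B⁻¹ : G3) : M3)) := by
  simp only [Tv, mem_cj_tv]
  refine and_congr ?_ (and_congr ?_ Iff.rfl) <;> refine not_congr ⟨fun e => by simp [e], fun e => ?_⟩
  · rw [← Cfsg.Agent.Classical.gl_inv_mulVec_cancel B v, e, mulVec_zero]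
  · rw [← vecMul_one φ, ← Units.inv_mul B, ← vecMul_vecMul, e, zero_vecMul]

theorem Gen.cj' (hG : Gen P) (B : G3) : Gen (cj P B) where
  two := hG.two
  le_sl := by
    intro g hg
    have := hG.le_sl (mem_cj.1 hg)
    rw [specialLinear, MonoidHom.mem_ker, map_mul, map_mul, map_inv, mul_right_comm, mul_inv_cancel,
      one_mul] at this
    exact this
  gen := by
    refine Subgroup.map_le_iff_le_comap.2 (hG.gen.trans ?_)
    rw [Subgroup.closure_le]
    rintro g ⟨v, φ, h, e⟩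
    refine Subgroup.subset_closure ⟨((B⁻¹ : G3) : M3) *ᵥ v, φ ᵥ* (B : M3), tv_cj.2 ?_, ?_⟩
    · rwa [mulVec_mulVec, Units.mul_inv, one_mulVec, vecMul_vecMul, Units.mul_inv, vecMul_one]
    · simp only [MulEquiv.coe_toMonoidHom, MulAut.conj_apply, inv_inv, Units.val_mul, e]
      rw [tv, tv, mul_add, mul_one, add_mul, Units.inv_mul, mul_vecMulVec, vecMulVec_mul]
  moves := fun u hu => by
    have hBu : (B : M3) *ᵥ u ≠ 0 := fun e => hu (by
      rw [← Cfsg.Agent.Classical.gl_inv_mulVec_cancel B u, e, mulVec_zero])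
    obtain ⟨w, ψ, h, h'⟩ := hG.moves _ hBu
    refine ⟨((B⁻¹ : G3) : M3) *ᵥ w, ψ ᵥ* (B : M3), tv_cj.2 ?_, ?_⟩
    · rwa [mulVec_mulVec, Units.mul_inv, one_mulVec, vecMul_vecMul, Units.mul_inv, vecMul_one]
    · rwa [← dotProduct_mulVec]
  spans := fun θ hθ => by
    have hBu : θ ᵥ* ((B⁻¹ : G3) : M3) ≠ 0 := fun e => hθ (by
      rw [← vecMul_one θ, ← Units.inv_mul B, ← vecMul_vecMul, e, zero_vecMul])
    obtain ⟨w, ψ, h, h'⟩ := hG.spans _ hBu
    refine ⟨((B⁻¹ : G3) : M3) *ᵥ w, ψ ᵥ* (B : M3), tv_cj.2 ?_, ?_⟩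
    · rwa [mulVec_mulVec, Units.mul_inv, one_mulVec, vecMul_vecMul, Units.mul_inv, vecMul_one]
    · rwa [dotProduct_mulVec]

/-- An involution is a transvection. -/
theorem isTransvection_of_sq (h2 : (2 : F) = 0) {M : M3} (hsq : M * M = 1) (hne : M ≠ 1) :
    ∃ v φ : V3, v ≠ 0 ∧ φ ≠ 0 ∧ M = tv v φ := by
  have hN : ∀ i j, M i j + (1 : M3) i j = (M + 1) i j := fun i j => rfl
  set N := M + 1 with hNd
  have hMN : M = 1 + N := by rw [hNd, add_comm M, ← add_assoc, add_self h2, zero_add]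
  have hNN : N * N = 0 := by
    rw [hNd]
    simp only [add_mul, mul_add, hsq, mul_one, one_mul]
    rw [show (1 : M3) + M + (M + 1) = (M + M) + (1 + 1) by abel, add_self h2, add_self h2, add_zero]
  have hN0 : N ≠ 0 := fun e => hne (by rw [hMN, e, add_zero])
  obtain ⟨j₀, hj₀⟩ : ∃ j, N.col j ≠ 0 := by
    by_contra hno
    push Not at hno
    exact hN0 (Matrix.ext fun i j => congrFun (hno j) i)
  by_cases hcols : ∀ j, ∃ s : F, N.col j = s • N.col j₀
  · choose s hs using hcols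
    refine ⟨N.col j₀, s, hj₀, fun e => hN0 (Matrix.ext fun i j => ?_), ?_⟩
    · have := congrFun (hs j) i
      simp [e] at this
      exact this
    · rw [hMN, tv]
      congr 1
      ext i j
      have := congrFun (hs j) i
      simp [vecMulVec] at this ⊢
      rw [this, mul_comm]
  · push Not at hcols
    obtain ⟨j₁, hj₁⟩ := hcols
    have hrow : ∀ i, ∃ s : F, N.row i = s • (N.col j₁ ⨯₃ N.col j₀) := fun i => by
      refine par_cross_of_zero hj₀ hj₁ ?_ ?_
      · exact congrFun (congrFun hNN i) j₁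
      · exact congrFun (congrFun hNN i) j₀
    choose s hs using hrow
    refine ⟨s, N.col j₁ ⨯₃ N.col j₀, fun e => hN0 (Matrix.ext fun i j => ?_), cross_ne hj₀ hj₁, ?_⟩
    · have := congrFun (hs i) j
      simp [e] at this
      exact this
    · rw [hMN, tv]
      congr 1
      ext i j
      have := congrFun (hs i) j
      simp [vecMulVec] at this ⊢
      exact this

variable [Fintype F]

/-- A perfect group, simple modulo scalars, with a transvection is generated by its transvections. -/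
theorem gen_of_ctx (h : Ctx P) (h2 : (2 : F) = 0) {x : G3} (hx : x ∈ P) (ht : IsTransvection x) :
    Gen P := by
  obtain ⟨v₀, φ₀, hv₀, hφ₀, -, e₀⟩ := ht
  have hT₀ : Tv P v₀ φ₀ := ⟨hv₀, hφ₀, x, hx, e₀⟩
  set T : Set G3 := {g : G3 | ∃ v φ, Tv P v φ ∧ (g : M3) = tv v φ}
  set N := Subgroup.closure T
  have hNP : N ≤ P := by
    rw [Subgroup.closure_le]
    rintro g ⟨v, φ, ⟨-, -, g', hg', e'⟩, e⟩
    rwa [show g = g' from Units.ext (e.trans e'.symm)]
  have hnorm : ∀ g ∈ P, ∀ n ∈ N, g * n * g⁻¹ ∈ N := by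
    intro g hg
    suffices N ≤ N.comap (MulAut.conj g).toMonoidHom from fun n hn => this hn
    rw [Subgroup.closure_le]
    rintro t ⟨v, φ, hTv, e⟩
    refine Subgroup.subset_closure ⟨_, _, hTv.conj hg, ?_⟩
    simp only [MulEquiv.coe_toMonoidHom, MulAut.conj_apply, Units.val_mul, e]
    rw [tv, tv, mul_add, mul_one, add_mul, Units.mul_inv, mul_vecMulVec, vecMulVec_mul]
  set S := (scalars (Fin 3) F).subgroupOf P
  have hNn : (N.subgroupOf P).Normal := ⟨fun n hn g => hnorm _ g.2 _ hn⟩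
  haveI := h.simple
  haveI : ((N.subgroupOf P).map (QuotientGroup.mk' S)).Normal :=
    hNn.map _ (QuotientGroup.mk'_surjective S)
  have hgen : P ≤ N := by
    rcases IsSimpleGroup.eq_bot_or_eq_top_of_normal _ this with hb | ht
    · exfalso
      have hxN : (⟨x, hx⟩ : P) ∈ N.subgroupOf P :=
        Subgroup.mem_subgroupOf.2 (Subgroup.subset_closure ⟨v₀, φ₀, hT₀, e₀⟩)
      have := Subgroup.mem_map_of_mem (QuotientGroup.mk' S) hxN
      rw [hb, Subgroup.mem_bot, QuotientGroup.mk'_apply, QuotientGroup.eq_one_iff] at this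
      obtain ⟨c, hc⟩ := (mem_scalars_iff x).1 (Subgroup.mem_subgroupOf.1 this)
      rw [e₀] at hc
      obtain ⟨i, hi⟩ := Function.ne_iff.1 hv₀
      obtain ⟨j, hj⟩ := Function.ne_iff.1 hφ₀
      by_cases hij : i = j
      · subst hij
        obtain ⟨k, hk⟩ : ∃ k : Fin 3, k ≠ i := exists_ne i
        have e1 := congrFun (congrFun hc i) k
        have e2 := congrFun (congrFun hc k) i
        have e3 := congrFun (congrFun hc k) k
        have e4 := congrFun (congrFun hc i) i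
        simp [vecMulVec, hk, hk.symm] at e1 e2 e3 e4 hi hj
        rcases e1 with e1 | e1
        · exact hi e1
        rcases e2 with e2 | e2
        · rw [e1, mul_zero, add_zero] at e3
          rw [← e3] at e4
          exact mul_ne_zero hi hj (by linear_combination e4)
        · exact hj e2
      · have e1 := congrFun (congrFun hc i) j
        simp [vecMulVec, hij] at e1 hi hj
        rcases e1 with e1 | e1
        · exact hi e1
        · exact hj e1
    · have hcov : ∀ p ∈ P, ∃ n ∈ N, n⁻¹ * p ∈ scalars (Fin 3) F := fun p hp => by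
        have hp' : QuotientGroup.mk' S ⟨p, hp⟩ ∈ (N.subgroupOf P).map (QuotientGroup.mk' S) :=
          ht ▸ Subgroup.mem_top _
        obtain ⟨n, hn, en⟩ := hp'
        exact ⟨n, hn, Subgroup.mem_subgroupOf.1 (QuotientGroup.eq.1 en)⟩
      conv_lhs => rw [← h.perfect]
      rw [Subgroup.commutator_le]
      intro a ha b hb
      obtain ⟨n, hn, hza⟩ := hcov a ha
      obtain ⟨m, hm, hzb⟩ := hcov b hb
      have c1 := Cfsg.Agent.Classical.scalars_commute hza
      have c2 := Cfsg.Agent.Classical.scalars_commute hzb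
      have eab : ⁅a, b⁆ = n * m * n⁻¹ * m⁻¹ := by
        obtain ⟨z, rfl⟩ : ∃ z, a = n * z := ⟨n⁻¹ * a, by group⟩
        obtain ⟨z', rfl⟩ : ∃ z', b = m * z' := ⟨m⁻¹ * b, by group⟩
        simp only [inv_mul_cancel_left] at c1 c2
        rw [commutatorElement_def]
        calc n * z * (m * z') * (n * z)⁻¹ * (m * z')⁻¹
            = n * (z * m) * z' * z⁻¹ * n⁻¹ * z'⁻¹ * m⁻¹ := by group
          _ = n * (m * z) * z' * z⁻¹ * n⁻¹ * z'⁻¹ * m⁻¹ := by rw [c1]
          _ = n * m * (z * z') * z⁻¹ * n⁻¹ * z'⁻¹ * m⁻¹ := by group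
          _ = n * m * (z' * z) * z⁻¹ * n⁻¹ * z'⁻¹ * m⁻¹ := by rw [c1 z']
          _ = n * m * (z' * n⁻¹) * z'⁻¹ * m⁻¹ := by group
          _ = n * m * (n⁻¹ * z') * z'⁻¹ * m⁻¹ := by rw [c2 n⁻¹]
          _ = n * m * n⁻¹ * m⁻¹ := by group
      rw [eab]
      exact mul_mem (mul_mem (mul_mem hn hm) (inv_mem hn)) (inv_mem hm)
  have inv : ∀ W : Submodule F V3, (∀ v φ, Tv P v φ → ∀ u ∈ W, tv v φ *ᵥ u ∈ W) →
      W = ⊥ ∨ W = ⊤ := by
    intro W hW
    refine h.absIrred.1 W ?_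
    rintro _ ⟨g, hg, rfl⟩ _ ⟨u, hu, rfl⟩
    rw [Matrix.toLin'_apply]
    refine (Subgroup.closure_induction (p := fun (g : G3) _ => ∀ u ∈ W, (g : M3) *ᵥ u ∈ W) ?_ ?_ ?_ ?_
      (hgen hg)) u hu
    · rintro t ⟨v, φ, hTv, e⟩
      rw [e]; exact hW v φ hTv
    · simp
    · intro a b _ _ ha hb w hw
      rw [Units.val_mul, ← mulVec_mulVec]
      exact ha _ (hb w hw)
    · intro a _ ha w hw
      have hinj : Function.Injective ((a : M3).mulVecLin.restrict ha) := fun p q hpq => by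
        have := congrArg Subtype.val hpq
        exact Subtype.ext (Cfsg.Agent.Classical.gl_mulVec_injective a this)
      obtain ⟨⟨w', hw'⟩, e⟩ := LinearMap.surjective_of_injective hinj ⟨w, hw⟩
      have e' : (a : M3) *ᵥ w' = w := congrArg Subtype.val e
      rw [← e', Cfsg.Agent.Classical.gl_inv_mulVec_cancel]
      exact hw'
  refine ⟨h2, h.le_sl, hgen, fun u hu => ?_, fun θ hθ => ?_⟩
  · by_contra hno
    push Not at hno
    rcases inv (F ∙ u) (fun v φ hTv w hw => by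
      obtain ⟨c, rfl⟩ := Submodule.mem_span_singleton.1 hw
      rw [tv_mulVec, dotProduct_smul, hno v φ hTv, smul_zero, zero_smul, add_zero]
      exact Submodule.smul_mem _ _ (Submodule.mem_span_singleton_self u)) with hW | hW
    · exact hu ((Submodule.span_singleton_eq_bot).1 hW)
    · have := finrank_span_singleton (K := F) hu
      rw [hW, finrank_top, Module.finrank_fin_fun] at this
      omega
  · by_contra hno
    push Not at hno
    let W : Submodule F V3 := LinearMap.ker (dotProductBilin F F θ)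
    rcases inv W (fun v φ hTv w hw => by
      show θ ⬝ᵥ _ = 0
      rw [tv_mulVec, dotProduct_add, dotProduct_smul, hno v φ hTv, smul_zero, add_zero]
      exact hw) with hW | hW
    · obtain ⟨u, hu, h1, -⟩ := exists_perp θ θ
      exact hu ((Submodule.mem_bot F).1 (hW ▸ (show u ∈ W from h1)))
    · refine hθ (funext fun k => ?_)
      have : θ ⬝ᵥ Pi.single k 1 = 0 := (show Pi.single k (1 : F) ∈ W from hW ▸ trivial)
      simpa using this

/-- Rational traces and one transvection give a twist. -/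
theorem twist_of_traces (h : Ctx P) {v φ : V3} (hT : Tv P v φ) (τ : F ≃+* F)
    (htr : ∀ a ∈ P, τ (a : M3).trace = (a : M3).trace) : Twist P τ := by
  obtain ⟨hv, hφ, x, hx, ex⟩ := hT
  have hfix : ∀ a ∈ P, τ (φ ⬝ᵥ ((a : M3) *ᵥ v)) = φ ⬝ᵥ ((a : M3) *ᵥ v) := by
    intro a ha
    have e : (((x * a : G3)) : M3).trace = (a : M3).trace + φ ⬝ᵥ ((a : M3) *ᵥ v) := by
      rw [Units.val_mul, ex, tv, add_mul, one_mul, trace_add, vecMulVec_mul, trace_vecMulVec,
        dotProduct_comm v, ← dotProduct_mulVec]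
    have := htr _ (mul_mem hx ha)
    rw [e, map_add, htr a ha] at this
    exact add_left_cancel this
  have hcol : ∀ θ : V3, θ ≠ 0 → ∃ a ∈ P, θ ⬝ᵥ ((a : M3) *ᵥ v) ≠ 0 := by
    intro θ hθ
    by_contra hno
    push Not at hno
    let W : Submodule F V3 :=
      { carrier := {u | ∀ a ∈ P, θ ⬝ᵥ ((a : M3) *ᵥ u) = 0}
        zero_mem' := fun a _ => by simp
        add_mem' := fun {p q} hp hq a ha => by rw [mulVec_add, dotProduct_add, hp a ha, hq a ha, add_zero]
        smul_mem' := fun c p hp a ha => by rw [mulVec_smul, dotProduct_smul, hp a ha, smul_zero] }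
    rcases h.absIrred.1 W (by
      rintro _ ⟨g, hg, rfl⟩ _ ⟨u, hu, rfl⟩ a ha
      rw [Matrix.toLin'_apply, mulVec_mulVec]
      exact hu (a * g) (mul_mem ha hg)) with hW | hW
    · exact hv ((Submodule.mem_bot F).1 (hW ▸ (show v ∈ W from hno)))
    · refine hθ (funext fun k => ?_)
      have := (show Pi.single k (1 : F) ∈ W from hW ▸ trivial) 1 (one_mem P)
      rwa [Units.val_one, one_mulVec, dotProduct_single, mul_one] at this
  have hrow : ∀ u : V3, u ≠ 0 → ∃ a ∈ P, φ ⬝ᵥ ((a : M3) *ᵥ u) ≠ 0 := by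
    intro u hu
    by_contra hno
    push Not at hno
    let W : Submodule F V3 :=
      { carrier := {u | ∀ a ∈ P, φ ⬝ᵥ ((a : M3) *ᵥ u) = 0}
        zero_mem' := fun a _ => by simp
        add_mem' := fun {p q} hp hq a ha => by rw [mulVec_add, dotProduct_add, hp a ha, hq a ha, add_zero]
        smul_mem' := fun c p hp a ha => by rw [mulVec_smul, dotProduct_smul, hp a ha, smul_zero] }
    rcases h.absIrred.1 W (by
      rintro _ ⟨g, hg, rfl⟩ _ ⟨u, hu, rfl⟩ a ha
      rw [Matrix.toLin'_apply, mulVec_mulVec]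
      exact hu (a * g) (mul_mem ha hg)) with hW | hW
    · exact hu ((Submodule.mem_bot F).1 (hW ▸ (show u ∈ W from hno)))
    · refine hφ (funext fun k => ?_)
      have := (show Pi.single k (1 : F) ∈ W from hW ▸ trivial) 1 (one_mem P)
      rwa [Units.val_one, one_mulVec, dotProduct_single, mul_one] at this
  -- three rows and three columns
  obtain ⟨a₂, ha₂, hr₂⟩ := hrow v hv
  obtain ⟨u₃, hu₃, hu₃a, hu₃b⟩ := exists_perp φ (φ ᵥ* (a₂ : M3))
  obtain ⟨a₃, ha₃, hr₃⟩ := hrow u₃ hu₃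
  obtain ⟨θ₂, hθ₂, hθ₂v, -⟩ := exists_perp v v
  obtain ⟨p₂, hp₂, hc₂⟩ := hcol θ₂ hθ₂
  obtain ⟨θ₃, hθ₃, hθ₃a, hθ₃b⟩ := exists_perp v ((p₂ : M3) *ᵥ v)
  obtain ⟨p₃, hp₃, hc₃⟩ := hcol θ₃ hθ₃
  set r : Fin 3 → G3 := ![1, a₂, a₃]
  set p : Fin 3 → G3 := ![1, p₂, p₃]
  have hr : ∀ i, r i ∈ P := fun i => by fin_cases i <;> simp [r, ha₂, ha₃]
  have hp : ∀ i, p i ∈ P := fun i => by fin_cases i <;> simp [p, hp₂, hp₃]
  set B : M3 := Matrix.of fun i => φ ᵥ* (r i : M3) with hB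
  set D : M3 := (Matrix.of fun j => (p j : M3) *ᵥ v)ᵀ with hD
  have hφv : φ ⬝ᵥ v = 0 := Mem.orth h.le_sl ⟨x, hx, ex⟩
  have hBu : IsUnit B := by
    refine Matrix.vecMul_injective_iff_isUnit.1 fun c c' hcc => sub_eq_zero.1 ?_
    set d := c - c'
    have hd : d ᵥ* B = 0 := by rw [sub_vecMul]; exact sub_eq_zero.2 hcc
    have e : d 0 • φ + d 1 • (φ ᵥ* (a₂ : M3)) + d 2 • (φ ᵥ* (a₃ : M3)) = 0 := by
      rw [← hd]
      conv_rhs => rw [vecMul_eq_sum, Fin.sum_univ_three]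
      funext k
      simp [B, r]
    have e3 := congrArg (· ⬝ᵥ u₃) e
    simp [add_dotProduct, smul_dotProduct, hu₃a, hu₃b, ← dotProduct_mulVec, hr₃] at e3
    have e2 := congrArg (· ⬝ᵥ v) e
    simp [add_dotProduct, smul_dotProduct, hφv, ← dotProduct_mulVec, hr₂, e3] at e2
    have e1 : d 0 • φ = 0 := by simpa [e2, e3] using e
    funext k
    fin_cases k
    · exact (smul_eq_zero.1 e1).resolve_right hφ
    · exact e2
    · exact e3
  have hDu : IsUnit D := by
    refine Matrix.mulVec_injective_iff_isUnit.1 fun c c' hcc => sub_eq_zero.1 ?_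
    set d := c - c'
    have hd : D *ᵥ d = 0 := by rw [mulVec_sub]; exact sub_eq_zero.2 hcc
    have e : d 0 • v + d 1 • ((p₂ : M3) *ᵥ v) + d 2 • ((p₃ : M3) *ᵥ v) = 0 := by
      rw [← hd]
      conv_rhs => rw [mulVec_eq_sum, Fin.sum_univ_three]
      funext k
      simp [D, p]
    have e3 := congrArg (θ₃ ⬝ᵥ ·) e
    simp [dotProduct_add, dotProduct_smul, dotProduct_comm θ₃ v, hθ₃a] at e3
    rw [dotProduct_comm θ₃ ((p₂ : M3) *ᵥ v), hθ₃b, mul_zero, zero_add] at e3
    replace e3 := (mul_eq_zero.1 e3).resolve_right hc₃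
    have e2 := congrArg (θ₂ ⬝ᵥ ·) e
    simp [dotProduct_add, dotProduct_smul, dotProduct_comm θ₂ v, hθ₂v, e3, hc₂] at e2
    have e1 : d 0 • v = 0 := by simpa [e2, e3] using e
    funext k
    fin_cases k
    · exact (smul_eq_zero.1 e1).resolve_right hv
    · exact e2
    · exact e3
  have hrat : ∀ g ∈ P, (B * (g : M3) * D).map τ = B * (g : M3) * D := by
    intro g hg
    ext i j
    have e : (B * (g : M3) * D) i j = φ ⬝ᵥ ((((r i * g * p j : G3)) : M3) *ᵥ v) := by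
      rw [Units.val_mul, Units.val_mul, ← mulVec_mulVec, ← mulVec_mulVec,
        dotProduct_mulVec φ (r i : M3), dotProduct_mulVec _ (g : M3)]
      simp [B, D, Matrix.mul_apply, vecMul, mulVec, dotProduct]
    rw [Matrix.map_apply, e]
    exact hfix _ (mul_mem (mul_mem (hr i) hg) (hp j))
  have hBD : (B * D).map τ = B * D := by simpa using hrat 1 (one_mem P)
  have hBτ : IsUnit (B.map τ) := hBu.map (RingHom.mapMatrix (τ : F →+* F))
  have hDτ : IsUnit (D.map τ) := hDu.map (RingHom.mapMatrix (τ : F →+* F))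
  obtain ⟨Bu, hBu'⟩ := hBu
  rw [← hBu'] at hrat hBD hBτ
  refine ⟨((Bu⁻¹ : G3) : M3) * (Bu : M3).map τ, Bu⁻¹.isUnit.mul hBτ, fun g hg => ?_⟩
  refine hDτ.mul_right_cancel ?_
  simp only [Matrix.mul_assoc]
  have mm : ∀ A C : M3, (A * C).map τ = A.map τ * C.map τ := fun A C =>
    Matrix.map_mul (f := (τ : F →+* F))
  rw [← mm, ← mm, ← mm]
  simp only [← Matrix.mul_assoc (Bu : M3)]
  rw [hrat g hg, hBD]
  simp only [Matrix.mul_assoc]
  rw [← Matrix.mul_assoc ((Bu⁻¹ : G3) : M3) (Bu : M3), ← Matrix.mul_assoc ((Bu⁻¹ : G3) : M3) (Bu : M3),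
    Units.inv_mul, Matrix.one_mul, Matrix.one_mul]

end Cfsg.Agent.PThree.TEven
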