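import Cfsg.Agent.Lib.Classical.SL2PlaneField
import Cfsg.Agent.Lib.Classical.PThree.TEven.Trans

/-!
# Two opposite centres: the group of the plane they span
-/

set_option autoImplicit false
set_option linter.unusedSectionVars false

namespace Cfsg.Agent.PThree.TEven

open Matrix Cfsg Cfsg.Geo
open scoped MatrixGroups
open Cfsg.Agent.Small (PSL2.uS PSL2.vS)

variable {F : Type*} [Field F] [Fintype F]

local notation "G3" => GL (Fin 3) F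
local notation "M3" => Matrix (Fin 3) (Fin 3) F
local notation "V3" => (Fin 3 → F)
local notation "SL2" => Matrix.SpecialLinearGroup (Fin 2) F

theorem tv_e0 (k b : F) : tv ![1, 0, 0] ![0, k, b] = !![1, k, b; 0, 1, 0; 0, 0, 1] := by
  ext i j; fin_cases i <;> fin_cases j <;> simp [tv, vecMulVec]

theorem tv_e1 (c : F) : tv ![0, 1, 0] ![c, 0, 0] = !![1, 0, 0; c, 1, 0; 0, 0, 1] := by
  ext i j; fin_cases i <;> fin_cases j <;> simp [tv, vecMulVec]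

theorem tv_col (m₀ m₁ : F) : tv ![m₀, m₁, 0] ![0, 0, 1] = !![1, 0, m₀; 0, 1, m₁; 0, 0, 1] := by
  ext i j; fin_cases i <;> fin_cases j <;> simp [tv, vecMulVec]

/-- The stabiliser of the last coordinate functional in `P`. -/
def colStab (P : Subgroup G3) : Subgroup G3 where
  carrier := {g | g ∈ P ∧ (![0, 0, 1] : V3) ᵥ* (g : M3) = ![0, 0, 1]}
  one_mem' := ⟨one_mem P, by simp⟩
  mul_mem' := fun {a b} ha hb => ⟨mul_mem ha.1 hb.1, by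
    rw [Units.val_mul, ← vecMul_vecMul, ha.2, hb.2]⟩
  inv_mem' := fun {a} ha => ⟨inv_mem ha.1, by
    conv_lhs => rw [← ha.2]
    rw [vecMul_vecMul, Units.mul_inv, vecMul_one]⟩

theorem colStab_row {P : Subgroup G3} {g : G3} (h : g ∈ colStab P) :
    (g : M3) 2 0 = 0 ∧ (g : M3) 2 1 = 0 ∧ (g : M3) 2 2 = 1 := by
  have e := h.2
  have e0 := congrFun e 0
  have e1 := congrFun e 1
  have e2 := congrFun e 2
  simp [vecMul, dotProduct, Fin.sum_univ_three] at e0 e1 e2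
  exact ⟨e0, e1, e2⟩

/-- The action of `colStab` on the plane of the first two coordinates. -/
def blockHom {P : Subgroup G3} (hP : P ≤ specialLinear (Fin 3) F) : colStab P →* SL2 where
  toFun g := ⟨!![(g : G3).1 0 0, (g : G3).1 0 1; (g : G3).1 1 0, (g : G3).1 1 1], by
    obtain ⟨h0, h1, h2⟩ := colStab_row g.2
    have := det_one hP g.2.1
    rw [det_fin_three] at this
    rw [det_fin_two]
    simp only [h0, h1, h2] at this
    simpa [mul_comm] using this⟩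
  map_one' := Subtype.ext (by simp [Matrix.one_fin_two])
  map_mul' g g' := Subtype.ext (by
    obtain ⟨h0, h1, h2⟩ := colStab_row g'.2
    show _ = !![(g : G3).1 0 0, (g : G3).1 0 1; (g : G3).1 1 0, (g : G3).1 1 1] *
      !![(g' : G3).1 0 0, (g' : G3).1 0 1; (g' : G3).1 1 0, (g' : G3).1 1 1]
    rw [Matrix.mul_fin_two]
    simp [Matrix.mul_apply, Fin.sum_univ_three, h0, h1])

theorem blockHom_val {P : Subgroup G3} (hP : P ≤ specialLinear (Fin 3) F) (g : colStab P) :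
    (blockHom hP g).1 =
      !![(g : G3).1 0 0, (g : G3).1 0 1; (g : G3).1 1 0, (g : G3).1 1 1] := rfl

section Frame

variable {P : Subgroup (GL (Fin 3) F)}

theorem mem_block (hP : P ≤ specialLinear (Fin 3) F) {g : G3} (hg : g ∈ P) {a b c d m₀ m₁ : F}
    (e : (g : M3) = !![a, b, m₀; c, d, m₁; 0, 0, 1]) :
    ∃ A ∈ (blockHom hP).range, (A : Matrix (Fin 2) (Fin 2) F) = !![a, b; c, d] := by
  have h : g ∈ colStab P := ⟨hg, by rw [e]; funext j; fin_cases j <;> simp [vecMul, dotProduct, Fin.sum_univ_three]⟩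
  exact ⟨_, ⟨⟨g, h⟩, rfl⟩, by simp [blockHom_val, e]⟩

theorem of_block (hP : P ≤ specialLinear (Fin 3) F) {A : SL2} (hA : A ∈ (blockHom hP).range) :
    ∃ g ∈ P, ∃ m₀ m₁ : F, (g : M3) = !![A.1 0 0, A.1 0 1, m₀; A.1 1 0, A.1 1 1, m₁; 0, 0, 1] := by
  obtain ⟨⟨g, hg⟩, rfl⟩ := hA
  obtain ⟨h0, h1, h2⟩ := colStab_row hg
  refine ⟨g, hg.1, (g : M3) 0 2, (g : M3) 1 2, ?_⟩
  ext i j; fin_cases i <;> fin_cases j <;> simp [blockHom_val, h0, h1, h2]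

/-- The column group is invariant under the block group. -/
theorem col_conj (hP : P ≤ specialLinear (Fin 3) F) {A : SL2} (hA : A ∈ (blockHom hP).range) {m₀ m₁ : F}
    (hm : Mem P ![m₀, m₁, 0] ![0, 0, 1]) :
    Mem P ![A.1 0 0 * m₀ + A.1 0 1 * m₁, A.1 1 0 * m₀ + A.1 1 1 * m₁, 0] ![0, 0, 1] := by
  obtain ⟨g, hg, n₀, n₁, e⟩ := of_block hP hA
  have h := hm.conj hg
  have e1 : (g : M3) *ᵥ ![m₀, m₁, 0] = ![A.1 0 0 * m₀ + A.1 0 1 * m₁, A.1 1 0 * m₀ + A.1 1 1 * m₁, 0] := by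
    rw [e]; funext i; fin_cases i <;> simp [mulVec, dotProduct, Fin.sum_univ_three]
  have e2 : (![0, 0, 1] : V3) ᵥ* ((g⁻¹ : G3) : M3) = ![0, 0, 1] := by
    have : (![0, 0, 1] : V3) ᵥ* (g : M3) = ![0, 0, 1] := by
      rw [e]; funext i; fin_cases i <;> simp [vecMul, dotProduct, Fin.sum_univ_three]
    conv_lhs => rw [← this]
    rw [vecMul_vecMul, Units.mul_inv, vecMul_one]
  rwa [e1, e2] at h

theorem smul_e0 (b : F) : (![b, 0, 0] : V3) = b • ![1, 0, 0] := by simp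

theorem mem_top_iff {b : F} : Mem P ![b, 0, 0] ![0, 0, 1] ↔ Mem P ![1, 0, 0] ![0, 0, b] := by
  rw [smul_e0, mem_smul_iff, show (b • ![0, 0, 1] : V3) = ![0, 0, b] by simp]

/-- The data of a plane in standard position. -/
structure FrameData (P : Subgroup G3) (c : F) (K : Subfield F) : Prop where
  sl : P ≤ specialLinear (Fin 3) F
  shift : ∀ φ : V3, Mem P ![1, 0, 0] φ → φ 1 ∈ K
  lift : ∀ k ∈ K, ∃ b : F, Mem P ![1, 0, 0] ![0, k, b]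
  mem : c ∈ K
  four : ∃ k ∈ K, k ≠ 0 ∧ k ≠ 1
  block : ∀ k ∈ K, (PSL2.uS k : SL2) ∈ (blockHom sl).range ∧ (PSL2.vS k : SL2) ∈ (blockHom sl).range
  ker : ∀ b : F, Mem P ![1, 0, 0] ![0, 0, b] → ∀ k ∈ K, Mem P ![1, 0, 0] ![0, 0, k * b]
  line : (∀ b : F, Mem P ![1, 0, 0] ![0, 0, b] → b = 0) →
    ∀ φ₁, Big P ![1, 0, 0] φ₁ → ∀ φ, Mem P ![1, 0, 0] φ → ∃ s : F, φ = s • φ₁

theorem mem_e0_zero (hP : P ≤ specialLinear (Fin 3) F) {φ : V3} (h : Mem P ![1, 0, 0] φ) :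
    φ = ![0, φ 1, φ 2] := by
  have := h.orth hP
  simp [dotProduct, Fin.sum_univ_three] at this
  funext i; fin_cases i <;> simp [this]

/-- Two opposite centres with at least three shifts: a field, and the block group over it. -/
theorem plane_frame (hG : Gen P) {c a₀ : F} (hc : c ≠ 0) (hy : Mem P ![0, 1, 0] ![c, 0, 0])
    (hx : Mem P ![1, 0, 0] ![0, 1, 0]) {φa : V3} (ha : Mem P ![1, 0, 0] φa) (hφa : φa 1 = a₀)
    (ha0 : a₀ ≠ 0) (ha1 : a₀ ≠ 1) : ∃ K : Subfield F, FrameData P c K := by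
  classical
  have hP := hG.le_sl
  have h2 := hG.two
  haveI : CharP F 2 := CharTwo.of_one_ne_zero_of_two_eq_zero one_ne_zero h2
  set G := (blockHom hP).range with hGdef
  -- shifts of transvections at the first centre
  have hu : ∀ φ, Mem P ![1, 0, 0] φ → (PSL2.uS (φ 1) : SL2) ∈ G := by
    intro φ hφ
    have e := mem_e0_zero hP hφ
    obtain ⟨g, hg, eg⟩ := hφ
    rw [e, tv_e0] at eg
    obtain ⟨A, hA, eA⟩ := mem_block hP hg eg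
    rwa [show (PSL2.uS (φ 1) : SL2) = A from Subtype.ext (by rw [eA]; rfl)]
  have hv : (PSL2.vS c : SL2) ∈ G := by
    obtain ⟨g, hg, eg⟩ := hy
    rw [tv_e1] at eg
    obtain ⟨A, hA, eA⟩ := mem_block hP hg eg
    rwa [show (PSL2.vS c : SL2) = A from Subtype.ext (by rw [eA]; rfl)]
  let S : AddSubgroup F :=
    { carrier := {k | ∃ φ, Mem P ![1, 0, 0] φ ∧ φ 1 = k}
      zero_mem' := ⟨0, mem_zero P _, rfl⟩
      add_mem' := fun {x y} => by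
        rintro ⟨φ, hφ, rfl⟩ ⟨ψ, hψ, rfl⟩
        exact ⟨φ + ψ, hφ.add hP hψ, rfl⟩
      neg_mem' := fun {x} hx => by rwa [CharTwo.neg_eq] }
  have hS1 : (1 : F) ∈ S := ⟨_, hx, rfl⟩
  let T : AddSubgroup F :=
    { carrier := {k | k = 0 ∨ k = 1}
      zero_mem' := Or.inl rfl
      add_mem' := fun {x y} hx hy => by
        rcases hx with rfl | rfl <;> rcases hy with rfl | rfl <;>
          simp [CharTwo.add_self_eq_zero]
      neg_mem' := fun {x} hx => by rwa [CharTwo.neg_eq] }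
  obtain ⟨F₀, hF₀⟩ := Cfsg.Agent.Classical.Dickson.exists_subfield T (Or.inr rfl) (by
    rintro a (rfl | rfl) <;> [exact Or.inl _root_.inv_zero; exact Or.inr inv_one])
  have hF₀' : ∀ x, x ∈ F₀ ↔ x = 0 ∨ x = 1 := hF₀
  -- transvections from block elements
  have hlift : ∀ k : F, k ≠ 0 → (PSL2.uS k : SL2) ∈ G → (PSL2.vS k⁻¹ : SL2) ∈ G →
      ∃ φ, Mem P ![1, 0, 0] φ ∧ φ 1 = k := by
    intro k hk hku hkv
    obtain ⟨g, hg, m₀, m₁, eg⟩ := of_block hP hku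
    have hsq : Mem P ![k * m₁, 0, 0] ![0, 0, 1] := by
      refine ⟨g * g, mul_mem hg hg, ?_⟩
      rw [Units.val_mul, eg, tv_col]
      ext i j
      fin_cases i <;> fin_cases j <;> simp [Matrix.mul_apply, Fin.sum_univ_three, add_comm,
        CharTwo.add_self_eq_zero, ← add_assoc]
    have hlow : Mem P ![0, m₁, 0] ![0, 0, 1] := by
      have h := (col_conj hP hkv hsq).addLeft hP hsq
      convert h using 1
      simp [CharTwo.add_self_eq_zero, hk]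
    obtain ⟨t, ht, et⟩ := hlow
    refine ⟨![0, k, m₀ + k * m₁], ⟨g * t, mul_mem hg ht, ?_⟩, rfl⟩
    rw [Units.val_mul, eg, et, tv_col, tv_e0]
    ext i j
    fin_cases i <;> fin_cases j <;> simp [Matrix.mul_apply, Fin.sum_univ_three, add_comm,
      CharTwo.add_self_eq_zero]
  have hfield : ∀ a ∈ S, a ≠ 0 → a ≠ 1 → ∃ K₁ : Subfield F, a ∈ K₁ ∧ c ∈ K₁ ∧
      (∀ μ ∈ K₁, (PSL2.uS μ : SL2) ∈ G ∧ (PSL2.vS μ : SL2) ∈ G) ∧ ∀ μ ∈ K₁, μ ∈ S := by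
    intro a ha h0 h1
    obtain ⟨K₁, -, haK, hcK, hK⟩ := Cfsg.Agent.Classical.SL2Plane.shifts_field (F₀ := F₀) (G := G) (a := a) hc hv
      (fun x hx y hy => by
        have hxa : x * a + y ∈ S := by
          refine add_mem ?_ ?_
          · rcases (hF₀' x).1 hx with rfl | rfl <;> simp [ha]
          · rcases (hF₀' y).1 hy with rfl | rfl <;> simp [hS1]
        obtain ⟨φ, hφ, e⟩ := hxa
        exact e ▸ hu φ hφ)
      (fun hmem => by rcases (hF₀' a).1 hmem with h | h <;> contradiction)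
    refine ⟨K₁, haK, hcK, hK, fun μ hμ => ?_⟩
    by_cases hμ0 : μ = 0
    · exact hμ0 ▸ zero_mem S
    · exact hlift μ hμ0 (hK μ hμ).1 (hK _ (inv_mem hμ)).2
  have haS : a₀ ∈ S := ⟨φa, ha, hφa⟩
  obtain ⟨K₀, haK₀, hcK₀, hK₀, hK₀S⟩ := hfield a₀ haS ha0 ha1
  obtain ⟨K, hK⟩ := Cfsg.Agent.Classical.Dickson.exists_subfield S hS1 (by
    intro a ha
    by_cases h0 : a = 0
    · rw [h0, _root_.inv_zero]; exact zero_mem S
    by_cases h1 : a = 1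
    · rw [h1, inv_one]; exact hS1
    obtain ⟨K₁, haK, -, -, hKS⟩ := hfield a ha h0 h1
    exact hKS _ (inv_mem haK))
  have hblock : ∀ k ∈ K, (PSL2.uS k : SL2) ∈ G ∧ (PSL2.vS k : SL2) ∈ G := by
    intro k hk
    by_cases h0 : k = 0
    · exact hK₀ k (h0 ▸ zero_mem K₀)
    by_cases h1 : k = 1
    · exact hK₀ k (h1 ▸ one_mem K₀)
    obtain ⟨K₁, haK, -, hK₁, -⟩ := hfield k ((hK k).1 hk) h0 h1
    exact hK₁ k haK
  have hshift : ∀ φ, Mem P ![1, 0, 0] φ → φ 1 ∈ K := fun φ hφ => (hK _).2 ⟨φ, hφ, rfl⟩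
  have hliftK : ∀ k ∈ K, ∃ b : F, Mem P ![1, 0, 0] ![0, k, b] := fun k hk => by
    obtain ⟨φ, hφ, rfl⟩ := (hK k).1 hk
    exact ⟨φ 2, mem_e0_zero hP hφ ▸ hφ⟩
  have hker : ∀ b : F, Mem P ![1, 0, 0] ![0, 0, b] → ∀ k ∈ K, Mem P ![1, 0, 0] ![0, 0, k * b] := by
    intro b hb k hk
    rw [← mem_top_iff] at hb ⊢
    have h1 := (col_conj hP (hblock k hk).2 hb).addLeft hP hb
    have h2' : Mem P ![0, k * b, 0] ![0, 0, 1] := by
      convert h1 using 1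
      simp [CharTwo.add_self_eq_zero]
    have h3 := (col_conj hP (hblock 1 (one_mem K)).1 h2').addLeft hP h2'
    convert h3 using 1
    simp [CharTwo.add_self_eq_zero]
  refine ⟨K, hP, hshift, hliftK, (hK c).2 (hK₀S c hcK₀), ⟨a₀, (hK a₀).2 haS, ha0, ha1⟩, hblock, hker, ?_⟩
  intro hinj φ₁ hφ₁ φ hφ
  -- the graph
  choose! f hf using hliftK
  have huniq : ∀ k ∈ K, ∀ b, Mem P ![1, 0, 0] ![0, k, b] → b = f k := by
    intro k hk b hb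
    have h := hb.add hP (hf k hk)
    have e : (![0, k, b] + ![0, k, f k] : V3) = ![0, 0, b + f k] := by
      simp [CharTwo.add_self_eq_zero]
    rw [e] at h
    exact CharTwo.add_eq_zero.1 (hinj _ h)
  have hadd : ∀ k ∈ K, ∀ l ∈ K, f (k + l) = f k + f l := fun k hk l hl =>
    (huniq _ (add_mem hk hl) _ (by simpa using (hf k hk).add hP (hf l hl))).symm
  have htorus : ∀ μ ∈ K, μ ≠ 0 → ∃ m : F, ∀ k ∈ K, f (μ ^ 2 * k) = μ * f k + μ ^ 2 * k * m := by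
    intro μ hμ hμ0
    set A : SL2 := PSL2.uS μ * PSL2.vS μ⁻¹ * PSL2.uS μ * (PSL2.uS 1 * PSL2.vS 1 * PSL2.uS 1) with hA
    have hAG : A ∈ G :=
      mul_mem (mul_mem (mul_mem (hblock μ hμ).1 (hblock _ (inv_mem hμ)).2) (hblock μ hμ).1)
        (mul_mem (mul_mem (hblock 1 (one_mem K)).1 (hblock 1 (one_mem K)).2) (hblock 1 (one_mem K)).1)
    have eA : (A : Matrix (Fin 2) (Fin 2) F) = !![μ, 0; 0, μ⁻¹] := by
      rw [hA]
      ext i j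
      fin_cases i <;> fin_cases j <;> simp [Cfsg.Agent.Small.PSL2.val_mul, Cfsg.Agent.Small.PSL2.uS_val,
        Cfsg.Agent.Small.PSL2.vS_val, Matrix.mul_apply, Fin.sum_univ_two, hμ0, CharTwo.add_self_eq_zero]
    obtain ⟨g, hg, m₀, m₁, eg⟩ := of_block hP hAG
    rw [eA] at eg
    refine ⟨m₁, fun k hk => (huniq _ (mul_mem (pow_mem hμ 2) hk) _ ?_).symm⟩
    have h := (hf k hk).conj hg
    have ec : (g : M3) *ᵥ ![1, 0, 0] = μ • ![1, 0, 0] := by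
      rw [eg]; funext i; fin_cases i <;> simp [mulVec, dotProduct, Fin.sum_univ_three]
    rw [ec, mem_smul_iff, ← smul_vecMul] at h
    have er : (![0, μ ^ 2 * k, μ * f k + μ ^ 2 * k * m₁] : V3) ᵥ* (g : M3) = μ • ![0, k, f k] := by
      rw [eg]
      funext i
      fin_cases i <;> simp [vecMul, dotProduct, Fin.sum_univ_three]
      · field_simp
      · linear_combination (μ ^ 2 * k * m₁) * h2
    rw [← er, vecMul_vecMul, Units.mul_inv, vecMul_one] at h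
    exact h
  obtain ⟨a₁, ha₁K, ha₁0, ha₁1⟩ : ∃ a ∈ K, a ≠ 0 ∧ a ≠ 1 := ⟨a₀, (hK a₀).2 haS, ha0, ha1⟩
  set β := f 1
  set H : F → F := fun ν => f (ν ^ 2) + ν * β with hH
  have hsym : ∀ μ ∈ K, ∀ ν ∈ K, μ ≠ 0 → ν ≠ 0 → (μ + μ ^ 2) * H ν = (ν + ν ^ 2) * H μ := by
    intro μ hμ ν hν hμ0 hν0
    obtain ⟨m, hm⟩ := htorus μ hμ hμ0
    obtain ⟨n, hn⟩ := htorus ν hν hν0
    have e1 := hm 1 (one_mem K)
    have e2 := hn 1 (one_mem K)
    have e3 := hm _ (pow_mem hν 2)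
    have e4 := hn _ (pow_mem hμ 2)
    rw [mul_comm (μ ^ 2) (ν ^ 2)] at e3
    simp only [mul_one] at e1 e2
    simp only [hH]
    linear_combination -e3 + e4 + μ ^ 2 * e2 - ν ^ 2 * e1 + (μ * f (ν ^ 2) + ν ^ 2 * μ * β - μ * f (ν ^ 2) - 2 * μ * ν ^ 2 * β + μ ^ 2 * ν * β + μ ^ 2 * ν ^ 2 * n - μ ^ 2 * ν ^ 2 * m) * h2
  have ha₁s : a₁ + a₁ ^ 2 ≠ 0 := by
    rw [show a₁ + a₁ ^ 2 = a₁ * (1 + a₁) by ring]
    exact mul_ne_zero ha₁0 fun e => ha₁1 (CharTwo.add_eq_zero.1 e).symm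
  set δ := H a₁ / (a₁ + a₁ ^ 2)
  have hform : ∀ ν ∈ K, f (ν ^ 2) = δ * ν ^ 2 + (δ + β) * ν := by
    intro ν hν
    by_cases hν0 : ν = 0
    · subst hν0
      have := huniq 0 (zero_mem K) 0 (by
        rw [show (![0, 0, 0] : V3) = 0 by simp]
        exact mem_zero P _)
      simp [← this]
    have e := hsym a₁ ha₁K ν hν ha₁0 hν0
    have e' : H ν = (ν + ν ^ 2) * δ := by
      rw [mul_div_assoc']
      rw [eq_div_iff ha₁s]
      linear_combination e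
    simp only [hH] at e'
    linear_combination e' - (ν * β) * h2
  have hsq : ∀ φ, Mem P ![1, 0, 0] φ → ∃ ν ∈ K, φ = ![0, ν ^ 2, δ * ν ^ 2 + (δ + β) * ν] := by
    intro φ hφ
    haveI : CharP K 2 := CharTwo.of_one_ne_zero_of_two_eq_zero one_ne_zero (Subtype.ext h2)
    obtain ⟨r, hr⟩ := FiniteField.isSquare_of_char_two (F := K) (ringChar.eq K 2) ⟨φ 1, hshift φ hφ⟩
    have hr' : φ 1 = (r : F) ^ 2 := by rw [sq]; exact congrArg Subtype.val hr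
    refine ⟨r, r.2, ?_⟩
    have e := mem_e0_zero hP hφ
    rw [e] at hφ
    have e2 := huniq _ (hr' ▸ pow_mem r.2 2) _ hφ
    rw [e, e2, hr', hform _ r.2]
  obtain ⟨hT₁, s, hs0, hs1, hsφ⟩ := hφ₁
  obtain ⟨ν, hν, rfl⟩ := hsq φ₁ hT₁.2.2
  obtain ⟨ρ, hρ, eρ⟩ := hsq _ hsφ
  have hν0 : ν ≠ 0 := fun e => hT₁.2.1 (by subst e; simp)
  have eρ1 := congrFun eρ 1
  have eρ2 := congrFun eρ 2
  simp at eρ1 eρ2
  have hε : δ + β = 0 := by
    by_contra hne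
    have e : (δ + β) * (s * ν) = (δ + β) * ρ := by linear_combination eρ2 - δ * eρ1
    have e' := mul_left_cancel₀ hne e
    rw [← e'] at eρ1
    have : s * ν ^ 2 * (1 - s) = 0 := by linear_combination eρ1
    simp [hs0, hν0] at this
    exact hs1 (sub_eq_zero.1 this).symm
  obtain ⟨ν', hν', rfl⟩ := hsq φ hφ
  refine ⟨ν' ^ 2 / ν ^ 2, ?_⟩
  have h20 : ν ^ 2 ≠ 0 := pow_ne_zero 2 hν0
  funext i; fin_cases i <;> simp [hε]
  · field_simp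
  · field_simp

end Frame

/-- The data of a plane spanned by two opposite centres. -/
structure PlaneData (P : Subgroup G3) (v w φ₀ ψ : V3) (K : Subfield F) : Prop where
  shift : ∀ φ, Mem P v φ → φ ⬝ᵥ w / (φ₀ ⬝ᵥ w) ∈ K
  lift : ∀ k ∈ K, ∃ φ, Mem P v φ ∧ φ ⬝ᵥ w = k * (φ₀ ⬝ᵥ w)
  mem : (φ₀ ⬝ᵥ w) * (ψ ⬝ᵥ v) ∈ K
  four : ∃ k ∈ K, k ≠ 0 ∧ k ≠ 1
  ker : ∀ φ, Mem P v φ → φ ⬝ᵥ w = 0 → ∀ k ∈ K, Mem P v (k • φ)
  line : (∀ φ, Mem P v φ → φ ⬝ᵥ w = 0 → φ = 0) →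
    ∀ φ₁, Big P v φ₁ → ∀ φ, Mem P v φ → ∃ s : F, φ = s • φ₁

/-- A basis adapted to two opposite transvections. -/
theorem exists_frame {v w φ₀ ψ : V3} (h1 : φ₀ ⬝ᵥ v = 0) (h4 : ψ ⬝ᵥ w = 0) (ha : φ₀ ⬝ᵥ w ≠ 0)
    (hc : ψ ⬝ᵥ v ≠ 0) : ∃ (B : G3) (u : V3), φ₀ ⬝ᵥ u = 0 ∧ ψ ⬝ᵥ u = 0 ∧
      (B : M3) *ᵥ ![1, 0, 0] = v ∧ (B : M3) *ᵥ ![0, 1, 0] = (φ₀ ⬝ᵥ w)⁻¹ • w ∧
      φ₀ ᵥ* (B : M3) = ![0, 1, 0] ∧ ψ ᵥ* (B : M3) = ![ψ ⬝ᵥ v, 0, 0] := by
  obtain ⟨u, hu, hu1, hu2⟩ := exists_perp φ₀ ψ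
  set a := φ₀ ⬝ᵥ w
  set M : M3 := (Matrix.of ![v, a⁻¹ • w, u])ᵀ with hM
  have hMv : ∀ d : V3, M *ᵥ d = d 0 • v + d 1 • (a⁻¹ • w) + d 2 • u := fun d => by
    funext k; simp [M, mulVec, dotProduct, Fin.sum_univ_three]; ring
  have hMu : IsUnit M := Matrix.mulVec_injective_iff_isUnit.1 fun p q hpq => sub_eq_zero.1 (by
    set d := p - q
    have e : d 0 • v + d 1 • (a⁻¹ • w) + d 2 • u = 0 := by rw [← hMv, mulVec_sub]; exact sub_eq_zero.2 hpq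
    have e1 := congrArg (φ₀ ⬝ᵥ ·) e
    simp [dotProduct_add, dotProduct_smul, h1, hu1, a] at e1
    have e1' : d 1 = 0 := by
      rcases e1 with h | h
      · exact h
      · exact absurd h ha
    have e2 := congrArg (ψ ⬝ᵥ ·) e
    simp [dotProduct_add, dotProduct_smul, hu2, e1'] at e2
    have e2' : d 0 = 0 := e2.resolve_right hc
    have e3 : d 2 • u = 0 := by simpa [e1', e2'] using e
    funext k; fin_cases k
    · exact e2'
    · exact e1'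
    · exact (smul_eq_zero.1 e3).resolve_right hu)
  obtain ⟨B, hB⟩ := hMu
  refine ⟨B, u, hu1, hu2, ?_, ?_, ?_, ?_⟩
  · rw [hB, hMv]; simp
  · rw [hB, hMv]; simp
  · funext k
    have : (φ₀ ᵥ* M) k = φ₀ ⬝ᵥ (M *ᵥ Pi.single k 1) := by rw [dotProduct_mulVec, dotProduct_single, mul_one]
    rw [hB, this, hMv]
    fin_cases k <;> simp [dotProduct_smul, h1, hu1, a, ha]
  · funext k
    have : (ψ ᵥ* M) k = ψ ⬝ᵥ (M *ᵥ Pi.single k 1) := by rw [dotProduct_mulVec, dotProduct_single, mul_one]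
    rw [hB, this, hMv]
    fin_cases k <;> simp [dotProduct_smul, h4, hu2]

theorem frame_pair {P : Subgroup G3} {v w φ₀ ψ : V3} {B : G3} (hx : Mem P v φ₀) (hy : Mem P w ψ)
    (hBv : (B : M3) *ᵥ ![1, 0, 0] = v) (hBw : (B : M3) *ᵥ ![0, 1, 0] = (φ₀ ⬝ᵥ w)⁻¹ • w)
    (hBφ : φ₀ ᵥ* (B : M3) = ![0, 1, 0]) (hBψ : ψ ᵥ* (B : M3) = ![ψ ⬝ᵥ v, 0, 0])
    (ha : φ₀ ⬝ᵥ w ≠ 0) :
    Mem (cj P B) ![1, 0, 0] ![0, 1, 0] ∧ Mem (cj P B) ![0, 1, 0] ![(φ₀ ⬝ᵥ w) * (ψ ⬝ᵥ v), 0, 0] := by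
  constructor <;> rw [mem_cj_tv]
  · rwa [hBv, ← hBφ, vecMul_vecMul, Units.mul_inv, vecMul_one]
  · rwa [hBw, mem_smul_iff, show (![(φ₀ ⬝ᵥ w) * (ψ ⬝ᵥ v), 0, 0] : V3) = (φ₀ ⬝ᵥ w) • ![ψ ⬝ᵥ v, 0, 0] by simp,
      ← hBψ, smul_vecMul, vecMul_vecMul, Units.mul_inv, vecMul_one, smul_smul, inv_mul_cancel₀ ha, one_smul]

theorem plane {P : Subgroup G3} (hG : Gen P) {v w φ₀ ψ φa : V3} (hx : Mem P v φ₀) (hy : Mem P w ψ)
    (ha : φ₀ ⬝ᵥ w ≠ 0) (hc : ψ ⬝ᵥ v ≠ 0) (hA : Mem P v φa) (ha0 : φa ⬝ᵥ w ≠ 0)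
    (ha1 : φa ⬝ᵥ w ≠ φ₀ ⬝ᵥ w) : ∃ K : Subfield F, PlaneData P v w φ₀ ψ K := by
  obtain ⟨B, u, hu1, hu2, hBv, hBw, hBφ, hBψ⟩ :=
    exists_frame (hx.orth hG.le_sl) (hy.orth hG.le_sl) ha hc
  obtain ⟨hx', hy'⟩ := frame_pair hx hy hBv hBw hBφ hBψ ha
  have hmem : ∀ φ, Mem P v φ ↔ Mem (cj P B) ![1, 0, 0] (φ ᵥ* (B : M3)) := fun φ => by
    rw [mem_cj_tv, hBv, vecMul_vecMul, Units.mul_inv, vecMul_one]
  have h1 : ∀ φ : V3, (φ ᵥ* (B : M3)) 1 = φ ⬝ᵥ w / (φ₀ ⬝ᵥ w) := fun φ => by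
    have : (φ ᵥ* (B : M3)) ⬝ᵥ ![0, 1, 0] = (φ ᵥ* (B : M3)) 1 := by
      simp [dotProduct, Fin.sum_univ_three]
    rw [← this, ← dotProduct_mulVec, hBw, dotProduct_smul, smul_eq_mul, div_eq_inv_mul]
  obtain ⟨K, hK⟩ := plane_frame (hG.cj' B) (mul_ne_zero ha hc) hy' hx' ((hmem φa).1 hA) (h1 φa)
    (div_ne_zero ha0 ha) (fun e => ha1 ((div_eq_one_iff_eq ha).1 e))
  have back : ∀ x : V3, (x ᵥ* ((B⁻¹ : G3) : M3)) ᵥ* (B : M3) = x := fun x => by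
    rw [vecMul_vecMul, Units.inv_mul, vecMul_one]
  have hk0 : ∀ φ, Mem P v φ → φ ⬝ᵥ w = 0 → φ ᵥ* (B : M3) = ![0, 0, (φ ᵥ* (B : M3)) 2] := fun φ hφ e => by
    conv_lhs => rw [mem_e0_zero (hG.cj' B).le_sl ((hmem φ).1 hφ)]
    rw [h1, e, zero_div]
  refine ⟨K, fun φ hφ => h1 φ ▸ hK.shift _ ((hmem φ).1 hφ), fun k hk => ?_, hK.mem, hK.four, ?_, ?_⟩
  · obtain ⟨b, hb⟩ := hK.lift k hk
    refine ⟨![0, k, b] ᵥ* ((B⁻¹ : G3) : M3), (hmem _).2 (by rwa [back]), ?_⟩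
    have e := h1 (![0, k, b] ᵥ* ((B⁻¹ : G3) : M3))
    rw [back] at e
    simp [-Matrix.coe_units_inv] at e
    exact ((eq_div_iff ha).1 e).symm
  · intro φ hφ e k hk
    rw [hmem, smul_vecMul, hk0 φ hφ e]
    have := hK.ker _ (hk0 φ hφ e ▸ (hmem φ).1 hφ) k hk
    simpa using this
  · intro hinj φ₁ hφ₁ φ hφ
    obtain ⟨⟨hv0, hφ0, hm⟩, s, hs0, hs1, hs⟩ := hφ₁
    have hinj' : ∀ b, Mem (cj P B) ![1, 0, 0] ![0, 0, b] → b = 0 := fun b hb => by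
      have e := h1 (![0, 0, b] ᵥ* ((B⁻¹ : G3) : M3))
      rw [back] at e
      simp [-Matrix.coe_units_inv] at e
      have := hinj _ ((hmem _).2 (by rwa [back])) ((div_eq_zero_iff.1 e.symm).resolve_right ha)
      have h0 := congrArg (· ᵥ* (B : M3)) this
      simp only [back, zero_vecMul] at h0
      simpa using congrFun h0 2
    obtain ⟨t, ht⟩ := hK.line hinj' _ ⟨⟨by simp, fun e => hφ0 (by
      rw [← vecMul_one φ₁, ← Units.mul_inv B, ← vecMul_vecMul, e, zero_vecMul]), (hmem _).1 hm⟩,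
        s, hs0, hs1, by rw [← smul_vecMul]; exact (hmem _).1 hs⟩ _ ((hmem φ).1 hφ)
    refine ⟨t, ?_⟩
    rw [← vecMul_one φ, ← Units.mul_inv B, ← vecMul_vecMul, ht, smul_vecMul, vecMul_vecMul,
      Units.mul_inv, vecMul_one]

end Cfsg.Agent.PThree.TEven
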