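import Cfsg.Prelude.Def_TwoFusion
import Cfsg.Agent.Lib.Char.ZStar
import Cfsg.Agent.Lib.Classical.PThree.TEven.Trans

/-!
# All root groups of order two: the types of the transvections
-/

set_option autoImplicit false
set_option linter.unusedSectionVars false

namespace Cfsg.Agent.PThree.TEven

open Matrix Cfsg Cfsg.Geo
open scoped MatrixGroups

variable {F : Type*} [Field F] [Fintype F]

local notation "G3" => GL (Fin 3) F
local notation "M3" => Matrix (Fin 3) (Fin 3) F
local notation "V3" => (Fin 3 → F)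

/-- All root groups have order two. -/
def Thin (P : Subgroup G3) : Prop := ∀ v φ, ¬ Big P v φ

/-- No two centres on one axis. -/
def OneCentre (P : Subgroup G3) : Prop :=
  ∀ u w ψ : V3, Tv P u ψ → Tv P w ψ → u = w

/-- A transvection of `P` whose centre carries a second axis. -/
def SC (P : Subgroup G3) (g : G3) : Prop :=
  ∃ v φ φ', (g : M3) = tv v φ ∧ Tv P v φ ∧ Tv P v φ' ∧ φ' ≠ φ

/-- A transvection of `P` whose axis carries a second centre. -/
def SA (P : Subgroup G3) (g : G3) : Prop :=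
  ∃ v φ v', (g : M3) = tv v φ ∧ Tv P v φ ∧ Tv P v' φ ∧ v' ≠ v

variable {P : Subgroup (GL (Fin 3) F)}

theorem Thin.eq01 (hT : Thin P) {v φ : V3} {s : F} (h : Tv P v φ) (hs : Mem P v (s • φ)) : s = 0 ∨ s = 1 := by
  by_contra hno
  push Not at hno
  exact hT v φ ⟨h, s, hno.1, hno.2, hs⟩

theorem tv_smul_left {v φ : V3} {s : F} : Tv P (s • v) φ ↔ s ≠ 0 ∧ Tv P v (s • φ) := by
  refine ⟨fun h => ?_, fun ⟨hs, h⟩ => ⟨smul_ne_zero hs h.1, fun e => h.2.1 (by rw [e, smul_zero]), mem_smul_iff.2 h.2.2⟩⟩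
  have hs : s ≠ 0 := fun e => h.1 (by rw [e, zero_smul])
  exact ⟨hs, fun e => h.1 (by rw [e, smul_zero]), smul_ne_zero hs h.2.1, mem_smul_iff.1 h.2.2⟩

theorem SC.conj {g h : G3} (hs : SC P g) (hh : h ∈ P) : SC P (h * g * h⁻¹) := by
  obtain ⟨v, φ, φ', e, h1, h2, hne⟩ := hs
  refine ⟨_, _, _, ?_, h1.conj hh, h2.conj hh, fun e' => hne ?_⟩
  · rw [Units.val_mul, Units.val_mul, e, tv, tv, mul_add, mul_one, add_mul, Units.mul_inv, mul_vecMulVec,
      vecMulVec_mul]
  · have := congrArg (· ᵥ* (h : M3)) e'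
    simpa only [vecMul_vecMul, Units.inv_mul, vecMul_one] using this

theorem OneCentre.not_SA (hO : OneCentre P) {g : G3} : ¬ SA P g := fun ⟨_, _, _, _, h1, h2, hne⟩ =>
  hne (hO _ _ _ h2 h1)

theorem oneCentre_of_no_SA (h : ∀ g ∈ P, ¬ SA P g) : OneCentre P := by
  intro u w ψ hu hw
  by_contra hne
  obtain ⟨g, hg, e⟩ := hw.2.2
  exact h g hg ⟨w, ψ, u, e, hw, hu, hne⟩

/-- Two distinct commuting transvections share centre or axis. -/
theorem comm_share (hG : Gen P) {v φ w ψ : V3} {x y : G3} (ex : (x : M3) = tv v φ) (ey : (y : M3) = tv w ψ)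
    (h1 : Tv P v φ) (h2 : Tv P w ψ) (hcomm : x * y = y * x) (hne : x ≠ y) :
    (SC P x ∧ SC P y) ∨ (SA P x ∧ SA P y) := by
  obtain ⟨ha, hc⟩ := zero_of_comm h1.1 h1.2.1 h2.1 h2.2.1 (h1.2.2.orth hG.le_sl) (h2.2.2.orth hG.le_sl)
    (by rw [← ex, ← ey, ← Units.val_mul, ← Units.val_mul, hcomm])
  by_cases hp : ∃ s : F, w = s • v
  · left
    obtain ⟨s, rfl⟩ := hp
    obtain ⟨hs, h2'⟩ := tv_smul_left.1 h2
    have hne' : s • ψ ≠ φ := fun e => hne (Units.ext (by rw [ex, ey, tv_smul, e]))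
    exact ⟨⟨v, φ, s • ψ, ex, h1, h2', hne'⟩, ⟨v, s • ψ, φ, by rw [ey, tv_smul], h2', h1, hne'.symm⟩⟩
  · right
    push Not at hp
    obtain ⟨s, hs⟩ := axes_par h1.1 hp h1.2.1 (h2.2.2.orth hG.le_sl) hc ha (h1.2.2.orth hG.le_sl)
    have hs0 : s ≠ 0 := fun e => h2.2.1 (by rw [hs, e, zero_smul])
    have h2' : Tv P (s • w) φ := tv_smul_left.2 ⟨hs0, h2.1, hs ▸ h2.2.1, hs ▸ h2.2.2⟩
    have hne' : s • w ≠ v := fun e => hp s⁻¹ (by rw [← e, smul_smul, inv_mul_cancel₀ hs0, one_smul])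
    exact ⟨⟨v, φ, s • w, ex, h1, h2', hne'⟩, ⟨s • w, φ, v, by rw [ey, tv_smul, hs], h2', h1, hne'.symm⟩⟩

theorem exists_tv (hG : Gen P) {g : G3} (hg : g ∈ P) (hsq : g * g = 1) (hne : g ≠ 1) :
    ∃ v φ, Tv P v φ ∧ (g : M3) = tv v φ := by
  obtain ⟨v, φ, hv, hφ, e⟩ := isTransvection_of_sq hG.two (M := (g : M3))
    (by rw [← Units.val_mul, hsq, Units.val_one]) (fun e => hne (Units.ext e))
  exact ⟨v, φ, ⟨hv, hφ, g, hg, e⟩, e⟩

/-- Two involutions are conjugate or centralise a common involution. -/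
theorem conj_or_invol {G : Type*} [Group G] [Finite G] (H : Subgroup G) {x y : G} (hx : x ∈ H) (hy : y ∈ H)
    (hx2 : x * x = 1) (hy2 : y * y = 1) (hxy : x ≠ y) :
    (∃ k : ℕ, (x * y) ^ k * x * ((x * y) ^ k)⁻¹ = y ∧ (x * y) ^ k * x ∈ H) ∨
      ∃ z ∈ H, z * z = 1 ∧ z ≠ 1 ∧ z * x = x * z ∧ z * y = y * z := by
  have hinv : ∀ n : ℕ, x * (x * y) ^ n * x = ((x * y) ^ n)⁻¹ := by
    intro n
    induction n with
    | zero => simp [hx2]
    | succ n ih =>
      have hxi : x⁻¹ = x := inv_eq_of_mul_eq_one_right hx2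
      have hyi : y⁻¹ = y := inv_eq_of_mul_eq_one_right hy2
      rw [pow_succ, _root_.mul_inv_rev, ← ih, _root_.mul_inv_rev x y, hxi, hyi]
      calc x * ((x * y) ^ n * (x * y)) * x = x * (x * y) ^ n * x * y * x := by group
        _ = _ := by
          rw [ih]
          have : ∀ m : ℕ, (x * y) ^ m * (x * y) = (x * y) * (x * y) ^ m := fun m => (pow_succ _ _).symm.trans (pow_succ' _ _)
          have e2 := congrArg (·⁻¹) (this n)
          simp only [_root_.mul_inv_rev, hxi, hyi] at e2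
          rw [mul_assoc, ← e2]
  set d := orderOf (x * y)
  have hd : 0 < d := orderOf_pos _
  rcases Nat.even_or_odd' d with ⟨m, hm | hm⟩
  · right
    set z := (x * y) ^ m
    have hz2 : z * z = 1 := by rw [← pow_add, ← two_mul, ← hm, pow_orderOf_eq_one]
    have hzi : z⁻¹ = z := inv_eq_of_mul_eq_one_right hz2
    have hz1 : z ≠ 1 := pow_ne_one_of_lt_orderOf (by omega) (by omega)
    have hzx : z * x = x * z := by
      calc z * x = (x * x) * z * x := by rw [hx2, one_mul]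
        _ = x * (x * z * x) := by group
        _ = x * z := by rw [hinv m, hzi]
    refine ⟨z, pow_mem (mul_mem hx hy) m, hz2, hz1, hzx, ?_⟩
    have hc : z * (x * y) = (x * y) * z := (pow_succ _ _).symm.trans (pow_succ' _ _)
    rw [← mul_assoc, hzx, mul_assoc, mul_assoc] at hc
    exact mul_left_cancel hc
  · left
    refine ⟨m, ?_, mul_mem (pow_mem (mul_mem hx hy) m) hx⟩
    have e : (x * y) ^ m * x * ((x * y) ^ m)⁻¹ = (x * y) ^ (2 * m) * x := by
      rw [← hinv m]
      calc (x * y) ^ m * x * (x * (x * y) ^ m * x) = (x * y) ^ m * (x * x) * (x * y) ^ m * x := by group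
        _ = _ := by rw [hx2, mul_one, two_mul, pow_add]
    rw [e]
    have h1 : (x * y) ^ (2 * m) = (x * y)⁻¹ := by
      rw [eq_inv_iff_mul_eq_one, ← pow_succ, ← hm, pow_orderOf_eq_one]
    rw [h1, _root_.mul_inv_rev, inv_eq_of_mul_eq_one_right hx2, inv_eq_of_mul_eq_one_right hy2, mul_assoc,
      hx2, mul_one]

/-- Without a transvection of both types, the two types do not both occur. -/
theorem no_mixed (hG : Gen P) (hno : ∀ g, SC P g → SA P g → False) {x y : G3} (hx : x ∈ P) (hy : y ∈ P)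
    (hSx : SC P x) (hSy : SA P y) : False := by
  have hP := hG.le_sl
  obtain ⟨v, φ, φ', ex, h1, h1', hφ'⟩ := hSx
  obtain ⟨w, ψ, w', ey, h2, h2', hw'⟩ := hSy
  have hSx' : SC P x := ⟨v, φ, φ', ex, h1, h1', hφ'⟩
  have hSy' : SA P y := ⟨w, ψ, w', ey, h2, h2', hw'⟩
  have hxy : x ≠ y := fun e => hno x hSx' (e ▸ hSy')
  have hx2 : x * x = 1 := by
    have := inv_eq_self hG.two ex (h1.2.2.orth hP)
    conv_lhs => arg 1; rw [← this]
    exact inv_mul_cancel x
  have hy2 : y * y = 1 := by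
    have := inv_eq_self hG.two ey (h2.2.2.orth hP)
    conv_lhs => arg 1; rw [← this]
    exact inv_mul_cancel y
  have ncomm : x * y ≠ y * x := fun e => by
    rcases comm_share hG ex ey h1 h2 e hxy with ⟨-, h⟩ | ⟨h, -⟩
    · exact hno y h hSy'
    · exact hno x hSx' h
  by_cases hc : ψ ⬝ᵥ v = 0
  · by_cases ha : φ ⬝ᵥ w = 0
    · refine ncomm (Units.ext ?_)
      rw [Units.val_mul, Units.val_mul, ex, ey, tv_mul, tv_mul, hc, ha]
      simp only [zero_smul, add_zero]
      abel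
    · -- the commutator has both types
      have hm := h1.2.2.conjTv hG.two hP h2.2.2
      rw [hc, zero_smul, add_zero] at hm
      have hz := hm.add hP h1.2.2
      rw [add_right_comm, add_self hG.two, zero_add] at hz
      have hzT : Tv P v ((φ ⬝ᵥ w) • ψ) := ⟨h1.1, smul_ne_zero ha h2.2.1, hz⟩
      obtain ⟨z, hzP, ez⟩ := hz
      have hne : φ ≠ (φ ⬝ᵥ w) • ψ := fun e => ha (by
        rw [e, smul_dotProduct, h2.2.2.orth hP, smul_zero])
      refine hno z ⟨v, _, φ, ez, hzT, h1, hne⟩ ⟨(φ ⬝ᵥ w) • v, ψ, w, by rw [ez, tv_smul],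
        tv_smul_left.2 ⟨ha, hzT⟩, h2, fun e => ha (by rw [e, dotProduct_smul, h1.2.2.orth hP, smul_zero])⟩
  · by_cases ha : φ ⬝ᵥ w = 0
    · have hm := h1.2.2.conjTv hG.two hP h2.2.2
      rw [ha, zero_smul, add_zero] at hm
      have hz := hm.addLeft hP h1.2.2
      rw [add_right_comm, add_self hG.two, zero_add] at hz
      refine hno x hSx' ⟨v, φ, (ψ ⬝ᵥ v) • w, ex, h1, ⟨smul_ne_zero hc h2.1, h1.2.1, hz⟩,
        fun e => hc (by rw [← e, dotProduct_smul, h2.2.2.orth hP, smul_zero])⟩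
    · rcases conj_or_invol P hx hy hx2 hy2 hxy with ⟨k, hk, hkP⟩ | ⟨z, hzP, hz2, hz1, hzx, hzy⟩
      · have := hSx'.conj (pow_mem (mul_mem hx hy) k)
        rw [hk] at this
        exact hno y this hSy'
      · obtain ⟨u, θ, h3, ez⟩ := exists_tv hG hzP hz2 hz1
        have hzx' : z ≠ x := fun e => ncomm (by rw [e] at hzy; exact hzy)
        have hzy' : z ≠ y := fun e => ncomm (by rw [e] at hzx; exact hzx.symm)
        rcases comm_share hG ez ex h3 h1 hzx hzx' with ⟨hz, -⟩ | ⟨-, h⟩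
        · rcases comm_share hG ez ey h3 h2 hzy hzy' with ⟨-, h⟩ | ⟨h, -⟩
          · exact hno y h hSy'
          · exact hno z hz h
        · exact hno x hSx' h

variable [Fintype F]

/-- Glauberman: a transvection commutes with a different conjugate of itself. -/
theorem exists_comm (h : Ctx P) (hG : Gen P) {v φ : V3} (hT : Tv P v φ) {x : G3} (hx : x ∈ P)
    (ex : (x : M3) = tv v φ) : ∃ g ∈ P, g * x * g⁻¹ ≠ x ∧ x * (g * x * g⁻¹) = g * x * g⁻¹ * x := by
  by_contra hno
  push Not at hno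
  have hP := hG.le_sl
  set x' : P := ⟨x, hx⟩
  have hx2 : x * x = 1 := by
    have := inv_eq_self hG.two ex (hT.2.2.orth hP)
    conv_lhs => arg 1; rw [← this]
    exact inv_mul_cancel x
  have hx1 : x ≠ 1 := hT.ne_one ex
  haveI : Fact (Nat.Prime 2) := ⟨Nat.prime_two⟩
  have ho : orderOf x' = 2 := orderOf_eq_prime (Subtype.ext (by simp [x', sq, hx2]))
    (fun e => hx1 (congrArg Subtype.val e))
  have hiso : Cfsg.IsIsolatedInvolution x' := ⟨ho, fun g hg => Subtype.ext (by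
    by_contra hne
    exact hno g g.2 hne (congrArg Subtype.val hg))⟩
  have hz := Cfsg.Agent.Char.zStar_isolated hiso
  set S := (scalars (Fin 3) F).subgroupOf P
  haveI := h.simple
  haveI : ((oddCore P).map (QuotientGroup.mk' S)).Normal :=
    Subgroup.Normal.map inferInstance _ (QuotientGroup.mk'_surjective S)
  have hscal : ∀ g : G3, g ∈ scalars (Fin 3) F → g ∈ P → g ^ 3 = 1 := by
    intro g hg hgP
    obtain ⟨c, hc⟩ := (mem_scalars_iff g).1 hg
    have hd := det_one hP hgP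
    rw [hc, det_smul, Matrix.det_one, mul_one, Fintype.card_fin] at hd
    refine Units.ext ?_
    rw [Units.val_pow_eq_pow_val, hc, smul_pow, one_pow, hd, one_smul, Units.val_one]
  rcases IsSimpleGroup.eq_bot_or_eq_top_of_normal _ this with hb | ht
  · obtain ⟨w, ψ, hw, hψ⟩ := hG.moves v hT.1
    obtain ⟨y, hy, ey⟩ := hw.2.2
    have hc : x * y * x⁻¹ * y⁻¹ ∈ scalars (Fin 3) F := by
      have hm := Subgroup.mem_map_of_mem (QuotientGroup.mk' S) (hz ⟨y, hy⟩)
      rw [hb, Subgroup.mem_bot, QuotientGroup.mk'_apply, QuotientGroup.eq_one_iff] at hm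
      exact Subgroup.mem_subgroupOf.1 hm
    set s := x * y * x⁻¹ * y⁻¹ with hs
    have hyi := inv_eq_self hG.two ey (hw.2.2.orth hP)
    have hy2 : y * y = 1 := by
      conv_lhs => arg 1; rw [← hyi]
      exact inv_mul_cancel y
    have e : x * y * x⁻¹ = s * y := by rw [hs]; group
    have h3 := hscal s hc (mul_mem (mul_mem (mul_mem hx hy) (inv_mem hx)) (inv_mem hy))
    have h2 : s * s = 1 := by
      have hsq : (x * y * x⁻¹) * (x * y * x⁻¹) = 1 := by
        calc _ = x * (y * y) * x⁻¹ := by group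
          _ = 1 := by rw [hy2]; group
      rw [e] at hsq
      calc s * s = s * s * (y * y) := by rw [hy2, mul_one]
        _ = s * (s * y) * y := by group
        _ = s * (y * s) * y := by rw [Cfsg.Agent.Classical.scalars_commute hc y]
        _ = s * y * (s * y) := by group
        _ = 1 := hsq
    have hs1 : s = 1 := by rw [← h3, pow_succ, sq, h2, one_mul]
    rw [hs1, one_mul, mul_inv_eq_iff_eq_mul] at e
    exact hψ (zero_of_comm hT.1 hT.2.1 hw.1 hw.2.1 (hT.2.2.orth hP) (hw.2.2.orth hP)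
      (by rw [← ex, ← ey, ← Units.val_mul, ← Units.val_mul, e])).2
  · obtain ⟨n, hn, en⟩ : QuotientGroup.mk' S x' ∈ (oddCore P).map (QuotientGroup.mk' S) := ht ▸ Subgroup.mem_top _
    have hs : (n : G3)⁻¹ * x ∈ scalars (Fin 3) F := Subgroup.mem_subgroupOf.1 (QuotientGroup.eq.1 en)
    have hn_odd : Odd (orderOf n) := by
      have hdvd : orderOf n ∣ Nat.card (oddCore P) := by
        rw [← Subgroup.orderOf_mk n hn]; exact orderOf_dvd_natCard _
      exact Odd.of_dvd_nat (Cfsg.Agent.Char.card_oddCore_odd _) hdvd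
    set N := orderOf n * 3
    have hN : Odd N := hn_odd.mul (by decide)
    have hc := Cfsg.Agent.Classical.scalars_commute hs (n : G3)
    have e : x = (n : G3) * ((n : G3)⁻¹ * x) := by group
    have hcm : Commute (n : G3) ((n : G3)⁻¹ * x) := hc.symm
    have hpow : x ^ N = 1 := by
      rw [e, hcm.mul_pow, pow_mul, ← Subgroup.coe_pow, pow_orderOf_eq_one, Subgroup.coe_one, one_pow, one_mul,
        show N = 3 * orderOf n from mul_comm _ _, pow_mul, hscal _ hs (mul_mem (inv_mem n.2) hx), one_pow]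
    obtain ⟨j, hj⟩ := hN
    rw [hj, pow_succ, pow_mul, sq, hx2, one_pow, one_mul] at hpow
    exact hx1 hpow

end Cfsg.Agent.PThree.TEven
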