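import Cfsg.Agent.Lib.Small.SL2.Classes
import Cfsg.Agent.Lib.Classical.PThree.TEven.Plane
import Cfsg.Agent.Lib.Classical.PThree.TEven.Thin

/-!
# Root groups of order two and one centre on every axis: no such group
-/

set_option autoImplicit false
set_option linter.unusedSectionVars false

namespace Cfsg.Agent.PThree.TEven

open Matrix Cfsg Cfsg.Geo
open scoped MatrixGroups

variable {F : Type*} [Field F] [Fintype F]

local notation "G3" => GL (Fin 3) F
local notation "M3" => Matrix (Fin 3) (Fin 3) F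
local notation "V3" => (Fin 3 → F)

variable {P : Subgroup (GL (Fin 3) F)}

/-- Two centres are opposite. -/
theorem OneCentre.sep (hO : OneCentre P) (hG : Gen P) {v φ w ψ : V3} (h1 : Tv P v φ) (h2 : Tv P w ψ)
    (hne : ∀ s : F, w ≠ s • v) : φ ⬝ᵥ w ≠ 0 ∧ ψ ⬝ᵥ v ≠ 0 := by
  have hP := hG.le_sl
  have side : ∀ {v φ w ψ : V3}, Tv P v φ → Tv P w ψ → φ ⬝ᵥ w = 0 → ψ ⬝ᵥ v ≠ 0 → False := by
    intro v φ w ψ h1 h2 ha hc
    have hm := h1.2.2.conjTv hG.two hP h2.2.2
    rw [ha, zero_smul, add_zero] at hm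
    have hz := hm.addLeft hP h1.2.2
    rw [add_right_comm, add_self hG.two, zero_add] at hz
    have := hO _ _ _ ⟨smul_ne_zero hc h2.1, h1.2.1, hz⟩ h1
    exact hc (by rw [← this, dotProduct_smul, h2.2.2.orth hP, smul_zero])
  constructor <;> intro h
  · by_cases hc : ψ ⬝ᵥ v = 0
    · obtain ⟨s, hs⟩ := axes_par h1.1 hne h1.2.1 (h2.2.2.orth hP) hc h (h1.2.2.orth hP)
      have hs0 : s ≠ 0 := fun e => h2.2.1 (by rw [hs, e, zero_smul])
      have := hO _ _ _ (tv_smul_left.2 ⟨hs0, h2.1, hs ▸ h2.2.1, hs ▸ h2.2.2⟩) h1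
      exact hne s⁻¹ (by rw [← this, smul_smul, inv_mul_cancel₀ hs0, one_smul])
    · exact side h1 h2 h hc
  · by_cases ha : φ ⬝ᵥ w = 0
    · obtain ⟨s, hs⟩ := axes_par h1.1 hne h1.2.1 (h2.2.2.orth hP) h ha (h1.2.2.orth hP)
      have hs0 : s ≠ 0 := fun e => h2.2.1 (by rw [hs, e, zero_smul])
      have := hO _ _ _ (tv_smul_left.2 ⟨hs0, h2.1, hs ▸ h2.2.1, hs ▸ h2.2.2⟩) h1
      exact hne s⁻¹ (by rw [← this, smul_smul, inv_mul_cancel₀ hs0, one_smul])
    · exact side h2 h1 h ha

/-- Commuting transvections share their centre. -/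
theorem OneCentre.centre (hO : OneCentre P) (hG : Gen P) {v φ w ψ : V3} {x y : G3} (ex : (x : M3) = tv v φ)
    (ey : (y : M3) = tv w ψ) (h1 : Tv P v φ) (h2 : Tv P w ψ) (hc : x * y = y * x) : ∃ s : F, w = s • v := by
  by_contra hno
  push Not at hno
  exact (hO.sep hG h1 h2 hno).1 (zero_of_comm h1.1 h1.2.1 h2.1 h2.2.1 (h1.2.2.orth hG.le_sl)
    (h2.2.2.orth hG.le_sl) (by rw [← ex, ← ey, ← Units.val_mul, ← Units.val_mul, hc])).1

theorem pow_shift {G : Type*} [Monoid G] (a b : G) (n : ℕ) : (a * b) ^ n * a = a * (b * a) ^ n := by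
  induction n with
  | zero => simp
  | succ n ih =>
    rw [pow_succ', mul_assoc, ih, pow_succ']
    simp only [mul_assoc]

section Count

variable {K : Subfield F} {c : F}

local notation "SLK" => Matrix.SpecialLinearGroup (Fin 2) K
local notation "SL2" => Matrix.SpecialLinearGroup (Fin 2) F

/-- The standing data of the count. -/
structure CData (P : Subgroup G3) (c : F) (K : Subfield F) : Prop where
  gen : Gen P
  thin : Thin P
  one : OneCentre P
  frame : FrameData P c K
  x0 : Mem P ![1, 0, 0] ![0, 1, 0]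
  y0 : Tv P ![0, 1, 0] ![c, 0, 0]
  off : ∃ k b : F, b ≠ 0 ∧ Mem P ![1, 0, 0] ![0, k, b]

theorem CData.inj (hD : CData P c K) {b : F} (hb : Mem P ![1, 0, 0] ![0, 0, b]) : b = 0 := by
  by_contra hne
  have hT : Tv P ![1, 0, 0] ![0, 0, b] := ⟨by simp, by simpa using hne, hb⟩
  have := (hD.one.sep hD.gen hT hD.y0 (fun s e => by simpa using congrFun e 1)).1
  simp [dotProduct, Fin.sum_univ_three] at this

theorem CData.block_inj (hD : CData P c K) : Function.Injective (blockHom hD.frame.sl) := by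
  rw [injective_iff_map_eq_one]
  rintro ⟨g, hg⟩ e
  obtain ⟨h0, h1, h2⟩ := colStab_row hg
  have e' := congrArg Subtype.val e
  rw [blockHom_val] at e'
  have e00 := congrFun (congrFun e' 0) 0
  have e01 := congrFun (congrFun e' 0) 1
  have e10 := congrFun (congrFun e' 1) 0
  have e11 := congrFun (congrFun e' 1) 1
  simp at e00 e01 e10 e11
  have hm : Mem P ![(g : M3) 0 2, (g : M3) 1 2, 0] ![0, 0, 1] := ⟨g, hg.1, by
    rw [tv_col]; ext i j; fin_cases i <;> fin_cases j <;> simp [h0, h1, h2, e00, e01, e10, e11]⟩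
  haveI : CharP F 2 := CharTwo.of_one_ne_zero_of_two_eq_zero one_ne_zero hD.gen.two
  have hu := (col_conj hD.frame.sl (hD.frame.block 1 (one_mem K)).1 hm).addLeft hD.frame.sl hm
  have hm1 : (g : M3) 1 2 = 0 := by
    refine hD.inj (mem_top_iff.1 ?_)
    convert hu using 1
    simp [CharTwo.add_self_eq_zero, add_comm]
    all_goals linear_combination (-(g : M3) 0 2) * hD.gen.two
  have hm0 : (g : M3) 0 2 = 0 := by
    refine hD.inj (mem_top_iff.1 ?_)
    rwa [hm1] at hm
  refine Subtype.ext (Units.ext ?_)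
  ext i j
  fin_cases i <;> fin_cases j <;> simp [h0, h1, h2, e00, e01, e10, e11, hm0, hm1]

theorem CData.map_le (hD : CData P c K) (A : SLK) :
    SpecialLinearGroup.map K.subtype A ∈ (blockHom hD.frame.sl).range := by
  suffices H : (⊤ : Subgroup SLK) ≤ ((blockHom hD.frame.sl).range).comap (SpecialLinearGroup.map K.subtype) from
    H (Subgroup.mem_top A)
  rw [← Cfsg.Agent.Classical.sl_closure_transvections, Subgroup.closure_le]
  rintro _ ⟨i, j, hij, k, rfl⟩
  have hb := hD.frame.block (k : F) k.2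
  rcases Fin.exists_fin_two.1 ⟨i, rfl⟩ with hi | hi <;> rcases Fin.exists_fin_two.1 ⟨j, rfl⟩ with hj | hj <;>
    subst hi <;> subst hj
  · exact absurd rfl hij
  · show SpecialLinearGroup.map K.subtype _ ∈ (blockHom hD.frame.sl).range
    convert hb.1 using 1
    apply Subtype.ext
    ext a b
    fin_cases a <;> fin_cases b <;> simp [SpecialLinearGroup.transvection_coe, Matrix.transvection]
  · show SpecialLinearGroup.map K.subtype _ ∈ (blockHom hD.frame.sl).range
    convert hb.2 using 1
    apply Subtype.ext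
    ext a b
    fin_cases a <;> fin_cases b <;> simp [SpecialLinearGroup.transvection_coe, Matrix.transvection]
  · exact absurd rfl hij

/-- The subgroup of the plane, as a copy of `SL₂(K)`. -/
noncomputable def CData.lift (hD : CData P c K) : SLK →* G3 :=
  (colStab P).subtype.comp
    ((MonoidHom.ofInjective hD.block_inj).symm.toMonoidHom.comp
      ((SpecialLinearGroup.map K.subtype).codRestrict _ hD.map_le))

theorem CData.lift_mem (hD : CData P c K) (A : SLK) : hD.lift A ∈ colStab P :=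
  ((MonoidHom.ofInjective hD.block_inj).symm _).2

theorem CData.lift_val (hD : CData P c K) (A : SLK) :
    blockHom hD.frame.sl ⟨hD.lift A, hD.lift_mem A⟩ = SpecialLinearGroup.map K.subtype A := by
  set z : (blockHom hD.frame.sl).range := ⟨_, hD.map_le A⟩
  have := congrArg Subtype.val ((MonoidHom.ofInjective hD.block_inj).apply_symm_apply z)
  exact this

theorem CData.eq_lift (hD : CData P c K) {g : G3} (hg : g ∈ colStab P) {A : SLK}
    (h : blockHom hD.frame.sl ⟨g, hg⟩ = SpecialLinearGroup.map K.subtype A) : g = hD.lift A :=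
  congrArg Subtype.val (hD.block_inj (h.trans (hD.lift_val A).symm))

theorem CData.lift_injective (hD : CData P c K) : Function.Injective hD.lift := fun A B e => by
  have h1 := hD.lift_val A
  have h2 := hD.lift_val B
  have : SpecialLinearGroup.map K.subtype A = SpecialLinearGroup.map K.subtype B := by
    rw [← h1, ← h2]; exact congrArg _ (Subtype.ext e)
  apply Subtype.ext
  ext i j
  exact congrFun (congrFun (congrArg Subtype.val this) i) j

/-- The scalars of `P`. -/
def zSub (P : Subgroup G3) : Subgroup G3 := scalars (Fin 3) F ⊓ P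

instance zSub_normal (P : Subgroup G3) : (zSub P).Normal := ⟨fun n hn g => by
  rw [← Cfsg.Agent.Classical.scalars_commute hn.1 g, mul_assoc, mul_inv_cancel, mul_one]
  exact hn⟩

theorem zSub_cube {z : G3} (hP : P ≤ specialLinear (Fin 3) F) (hz : z ∈ zSub P) : z ^ 3 = 1 := by
  obtain ⟨c, hc⟩ := (mem_scalars_iff z).1 hz.1
  have hd := det_one hP hz.2
  rw [hc, det_smul, Matrix.det_one, mul_one, Fintype.card_fin] at hd
  refine Units.ext ?_
  rw [Units.val_pow_eq_pow_val, hc, smul_pow, one_pow, hd, one_smul, Units.val_one]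

theorem zSub_one {z : G3} (hP : P ≤ specialLinear (Fin 3) F) (hz : z ∈ zSub P) (h : z * z = 1) : z = 1 := by
  rw [← zSub_cube hP hz, pow_succ, sq, h, one_mul]

/-- The plane group times the scalars. -/
noncomputable def CData.hz (hD : CData P c K) : Subgroup G3 := hD.lift.range ⊔ zSub P

theorem CData.mem_hz (hD : CData P c K) {g : G3} :
    g ∈ hD.hz ↔ ∃ A : SLK, ∃ z ∈ zSub P, hD.lift A * z = g := by
  rw [CData.hz, Subgroup.mem_sup_of_normal_right]
  constructor
  · rintro ⟨_, ⟨A, rfl⟩, z, hz, e⟩; exact ⟨A, z, hz, e⟩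
  · rintro ⟨A, z, hz, e⟩; exact ⟨_, ⟨A, rfl⟩, z, hz, e⟩

theorem CData.hz_le (hD : CData P c K) : hD.hz ≤ P := fun g hg => by
  obtain ⟨A, z, hz, rfl⟩ := hD.mem_hz.1 hg
  exact mul_mem (hD.lift_mem A).1 hz.2

theorem CData.unique (hD : CData P c K) {A B : SLK} {z z' : G3} (hz : z ∈ zSub P) (hz' : z' ∈ zSub P)
    (e : hD.lift A * z = hD.lift B * z') : A = B ∧ z = z' := by
  have e1 : hD.lift (B⁻¹ * A) = z' * z⁻¹ := by
    rw [map_mul, map_inv, eq_mul_inv_iff_mul_eq, mul_assoc, e, inv_mul_cancel_left]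
  have hmem : hD.lift (B⁻¹ * A) ∈ scalars (Fin 3) F := e1 ▸ mul_mem hz'.1 (inv_mem hz.1)
  obtain ⟨s, hs⟩ := (mem_scalars_iff _).1 hmem
  have h22 := (colStab_row (hD.lift_mem (B⁻¹ * A))).2.2
  rw [hs] at h22
  simp at h22
  have h1 : hD.lift (B⁻¹ * A) = 1 := Units.ext (by rw [hs, h22, Units.val_one, one_smul, Units.val_one])
  have hAB : B⁻¹ * A = 1 := hD.lift_injective (h1.trans (map_one _).symm)
  have : A = B := (inv_mul_eq_one.1 hAB).symm
  subst this
  exact ⟨rfl, mul_left_cancel e⟩

theorem CData.invol (hD : CData P c K) {g : G3} (hg : g ∈ hD.hz) (h2 : g * g = 1) (h1 : g ≠ 1) :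
    ∃ A : SLK, A * A = 1 ∧ A ≠ 1 ∧ hD.lift A = g := by
  obtain ⟨A, z, hz, rfl⟩ := hD.mem_hz.1 hg
  have e : hD.lift (A * A) * (z * z) = hD.lift 1 * 1 := by
    rw [map_one, one_mul, map_mul, ← h2, mul_assoc, mul_assoc, ← mul_assoc z,
      Cfsg.Agent.Classical.scalars_commute hz.1 (hD.lift A), mul_assoc]
  obtain ⟨e1, e2⟩ := hD.unique (mul_mem hz hz) (one_mem _) e
  have hz1 := zSub_one hD.frame.sl hz e2
  subst hz1
  exact ⟨A, e1, fun e => h1 (by rw [e, map_one, mul_one]), (mul_one _).symm⟩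

/-- The centraliser of the first transvection. -/
theorem CData.cent (hD : CData P c K) {x : G3} (ex : (x : M3) = tv ![1, 0, 0] ![0, 1, 0]) {g : G3} (hg : g ∈ P)
    (hgx : g * x * g⁻¹ = x) : ∃ z ∈ zSub P, ∃ φ : V3, Mem P ![1, 0, 0] φ ∧
      (g : M3) = (z : M3) * tv ![1, 0, 0] φ := by
  have h2 := hD.gen.two
  have hP := hD.gen.le_sl
  haveI : CharP F 2 := CharTwo.of_one_ne_zero_of_two_eq_zero one_ne_zero h2
  have hTx : Tv P ![1, 0, 0] ![0, 1, 0] := ⟨by simp, by simp, hD.x0⟩
  have e : tv ((g : M3) *ᵥ ![1, 0, 0]) ((![0, 1, 0] : V3) ᵥ* ((g⁻¹ : G3) : M3)) = tv ![1, 0, 0] ![0, 1, 0] := by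
    conv_rhs => rw [← ex, ← hgx]
    rw [Units.val_mul, Units.val_mul, ex, tv, tv, mul_add, mul_one, add_mul, Units.mul_inv, mul_vecMulVec,
      vecMulVec_mul]
  obtain ⟨l, hl, e0, e1⟩ := tv_inj hTx.1 hTx.2.1 e.symm
  -- `l` is the eigenvalue
  set r := l • ((![0, 0, 1] : V3) ᵥ* ((g⁻¹ : G3) : M3)) with hrd
  have hge : ((g⁻¹ : G3) : M3) *ᵥ ![1, 0, 0] = l⁻¹ • ![1, 0, 0] := by
    have h := Cfsg.Agent.Classical.gl_inv_mulVec_cancel g (![1, 0, 0] : V3)
    rw [e0, mulVec_smul] at h
    conv_rhs => rw [← h]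
    rw [smul_smul, inv_mul_cancel₀ hl, one_smul]
  have hr0 : r 0 = 0 := by
    have : r ⬝ᵥ ![1, 0, 0] = 0 := by
      rw [hrd, smul_dotProduct, ← dotProduct_mulVec, hge, dotProduct_smul]
      simp [dotProduct, Fin.sum_univ_three]
    simpa [dotProduct, Fin.sum_univ_three] using this
  set p := r 1
  set μ := r 2
  have hA : ∀ k b : F, Mem P ![1, 0, 0] ![0, k, b] → Mem P ![1, 0, 0] ![0, k + b * p, b * μ] := by
    intro k b hkb
    have h := hkb.conj hg
    rw [e0, mem_smul_iff] at h
    convert h using 1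
    have e' : (![0, k, b] : V3) = k • ![0, 1, 0] + b • ![0, 0, 1] := by simp
    rw [e', add_vecMul, smul_vecMul, smul_vecMul, smul_add, smul_comm l k, smul_comm l b, ← e1, ← hrd]
    funext i; fin_cases i <;> simp [hr0, p, μ]
  have hμ0 : μ ≠ 0 := fun e' => by
    have h' : r = p • (l • ((![0, 1, 0] : V3) ᵥ* ((g⁻¹ : G3) : M3))) := by
      rw [← e1]; funext i; fin_cases i <;> simp [hr0, p]; exact e'
    have h2' := congrArg (· ᵥ* (g : M3)) h'
    simp only [hrd, smul_vecMul, vecMul_vecMul, Units.inv_mul, vecMul_one] at h2'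
    exact hl (by simpa using congrFun h2' 2)
  obtain ⟨k₁, b₁, hb₁, hkb⟩ := hD.off
  have hψ : ∀ k b : F, Mem P ![1, 0, 0] ![0, k, b] → Mem P ![1, 0, 0] ![0, b * p, b * (μ + 1)] := fun k b h => by
    have := (hA k b h).add hP h
    convert this using 1
    funext i; fin_cases i <;> simp <;> first | linear_combination k * h2 | simp [h2] | (ring_nf <;> simp [h2])
  have hμ : μ = 1 := by
    by_contra hne
    have hne' : μ + 1 ≠ 0 := fun e' => hne (CharTwo.add_eq_zero.1 e')
    have h1 := hψ _ _ hkb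
    have h3 := hψ _ _ h1
    have e' : (![0, b₁ * (μ + 1) * p, b₁ * (μ + 1) * (μ + 1)] : V3) = (μ + 1) • ![0, b₁ * p, b₁ * (μ + 1)] := by
      funext i; fin_cases i <;> simp <;> ring
    rw [e'] at h3
    rcases hD.thin.eq01 ⟨by simp, fun e'' => mul_ne_zero hb₁ hne' (by simpa using congrFun e'' 2), h1⟩ h3 with h | h
    · exact hne' h
    · exact hμ0 (by linear_combination h)
  have hbp : ∀ k b : F, Mem P ![1, 0, 0] ![0, k, b] → b * p = 0 ∨ b * p = 1 := fun k b h => by
    have := hψ k b h
    rw [hμ, CharTwo.add_self_eq_zero, mul_zero,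
      show (![0, b * p, 0] : V3) = (b * p) • ![0, 1, 0] by simp] at this
    exact hD.thin.eq01 hTx this
  -- the shape of `g`
  have r1 : (![0, 1, 0] : V3) ᵥ* (g : M3) = l • ![0, 1, 0] := by
    conv_lhs => rw [e1]
    rw [smul_vecMul, vecMul_vecMul, Units.inv_mul, vecMul_one]
  have r2 : (![0, 0, 1] : V3) ᵥ* (g : M3) = l • ![0, p, 1] := by
    have h := congrArg (· ᵥ* (g : M3)) (show r = ![0, p, 1] by
      funext i; fin_cases i <;> simp [hr0, p] <;> exact hμ)
    simp only [hrd, smul_vecMul, vecMul_vecMul, Units.inv_mul, vecMul_one] at h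
    have h' : (![0, p, 1] : V3) ᵥ* (g : M3) = p • (l • ![0, 1, 0]) + (![0, 0, 1] : V3) ᵥ* (g : M3) := by
      rw [← r1, ← smul_vecMul, ← add_vecMul]; simp
    rw [h'] at h
    have h'' : (![0, 0, 1] : V3) ᵥ* (g : M3) = l • ![0, 0, 1] - p • (l • ![0, 1, 0]) := by
      rw [h, add_sub_cancel_left]
    rw [h'']
    funext i; fin_cases i <;> simp <;> linear_combination -(l * p) * h2
  have hform : (g : M3) = !![l, (g : M3) 0 1, (g : M3) 0 2; 0, l, 0; 0, l * p, l] := by
    have c0 := congrFun e0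
    have q1 := congrFun r1
    have q2 := congrFun r2
    simp [mulVec, vecMul, dotProduct, Fin.sum_univ_three] at c0 q1 q2
    ext i j
    fin_cases i <;> fin_cases j <;> simp
    · simpa using c0 0
    · simpa using q1 0
    · simpa using q1 1
    · simpa using q1 2
    · simpa using q2 0
    · simpa using q2 1
    · simpa using q2 2
  have hl3 : l ^ 3 = 1 := by
    have := det_one hP hg
    rw [hform] at this
    simp [det_fin_three] at this
    linear_combination this
  have hl4 : ((g ^ 4 : G3) : M3) = l • (1 : M3) := by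
    rw [show (4 : ℕ) = 2 * 2 from rfl, pow_mul, Units.val_pow_eq_pow_val, Units.val_pow_eq_pow_val, hform]
    ext i j
    fin_cases i <;> fin_cases j <;> simp [sq, Matrix.mul_apply, Fin.sum_univ_three] <;>
      first
        | linear_combination l * hl3
        | (ring_nf; simp [show (4 : F) = 0 by linear_combination 2 * h2, show (6 : F) = 0 by linear_combination 3 * h2, h2])
  set z := g ^ 4
  have hz : z ∈ zSub P := ⟨(mem_scalars_iff z).2 ⟨Units.mk0 l hl, hl4⟩, pow_mem hg 4⟩
  set u := z⁻¹ * g with hud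
  have hu : u ∈ P := mul_mem (inv_mem hz.2) hg
  set a := l⁻¹ * (g : M3) 0 1
  set d := l⁻¹ * (g : M3) 0 2
  have eu : (u : M3) = !![1, a, d; 0, 1, 0; 0, p, 1] := by
    refine z.isUnit.mul_left_cancel ?_
    rw [← Units.val_mul, hud, mul_inv_cancel_left, hl4, hform, smul_mul, Matrix.one_mul]
    ext i j
    fin_cases i <;> fin_cases j <;> simp [a, d] <;> field_simp
  have hzg : (g : M3) = (z : M3) * (u : M3) := by rw [← Units.val_mul, hud, mul_inv_cancel_left]
  by_cases hp : p = 0
  · refine ⟨z, hz, ![0, a, d], ⟨u, hu, ?_⟩, ?_⟩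
    · rw [eu, tv_e0, hp]
    · rw [hzg, eu, tv_e0, hp]
  · exfalso
    have hcentre : ∀ k b : F, b + d = 0 → Mem P ![1, 0, 0] ![0, k, b] → False := by
      intro k b hbd hkb
      obtain ⟨t, ht, et⟩ := hkb
      have hT' : Tv P ![a + k, 0, p] ![0, 1, 0] := by
        refine ⟨fun e' => hp (by simpa using congrFun e' 2), by simp, u * t, mul_mem hu ht, ?_⟩
        rw [Units.val_mul, eu, et, tv_e0]
        ext i j
        fin_cases i <;> fin_cases j <;> simp [tv, vecMulVec, Matrix.mul_apply, Fin.sum_univ_three] <;>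
          first | linear_combination hbd | ring1
      have := hD.one _ _ _ hT' hTx
      exact hp (by simpa using congrFun this 2)
    by_cases hd : d = 0
    · exact hcentre 0 0 (by simp [hd]) (by rw [show (![0, 0, 0] : V3) = 0 by simp]; exact mem_zero P _)
    · have hsq : Mem P ![1, 0, 0] ((d * p) • ![0, 1, 0]) := by
        refine ⟨u * u, mul_mem hu hu, ?_⟩
        rw [Units.val_mul, eu]
        ext i j
        fin_cases i <;> fin_cases j <;> simp [tv, vecMulVec, Matrix.mul_apply, Fin.sum_univ_three] <;>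
          first | ring1 | linear_combination a * h2 | linear_combination d * h2 | linear_combination p * h2
      have hdp : d * p = 1 := (hD.thin.eq01 hTx hsq).resolve_left (mul_ne_zero hd hp)
      have hb₁p : b₁ * p = 1 := (hbp _ _ hkb).resolve_left (mul_ne_zero hb₁ hp)
      refine hcentre k₁ b₁ (mul_right_cancel₀ hp ?_) hkb
      rw [add_mul, hb₁p, hdp, zero_mul]
      exact CharTwo.add_self_eq_zero 1

/-- The transvection bound for a nontrivial coset. -/
theorem CData.coset (hD : CData P c K) {t : G3} (ht : t ∈ P) (ht2 : t * t = 1) (ht1 : t ≠ 1) (htn : t ∉ hD.hz)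
    {S : Finset G3} (hS : ∀ s ∈ S, s * s = 1 ∧ t * s ∈ hD.hz) : S.card < Nat.card K ^ 2 - 1 := by
  classical
  have h2 := hD.gen.two
  have hP := hD.gen.le_sl
  haveI : CharP F 2 := CharTwo.of_one_ne_zero_of_two_eq_zero one_ne_zero h2
  have hti : t⁻¹ = t := inv_eq_of_mul_eq_one_right ht2
  obtain ⟨u₀, θ₀, hTt, et⟩ := exists_tv hD.gen ht ht2 ht1
  set D : Subgroup SLK := (hD.hz.comap (MulAut.conj t).toMonoidHom).comap hD.lift
  have memD : ∀ A, A ∈ D ↔ t * hD.lift A * t ∈ hD.hz := fun A => by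
    simp only [D, Subgroup.mem_comap, MulEquiv.coe_toMonoidHom, MulAut.conj_apply, hti]
  have hzc : ∀ {z : G3}, z ∈ zSub P → ∀ g, z * g = g * z := fun hz g => Cfsg.Agent.Classical.scalars_commute hz.1 g
  -- no involutions in `D`
  have hodd : ∀ A ∈ D, A * A = 1 → A = 1 := by
    intro A hA hA2
    by_contra hA1
    set s := hD.lift A
    have hsP : s ∈ P := (hD.lift_mem A).1
    have hs2 : s * s = 1 := by rw [← map_mul, hA2, map_one]
    have hs1 : s ≠ 1 := fun e => hA1 (hD.lift_injective (e.trans (map_one _).symm))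
    set s' := t * s * t
    have hs'2 : s' * s' = 1 := by
      calc t * s * t * (t * s * t) = t * s * (t * t) * s * t := by group
        _ = t * (s * s) * t := by rw [ht2]; group
        _ = 1 := by rw [hs2, mul_one, ht2]
    have hs'1 : s' ≠ 1 := fun e => hs1 (by
      calc s = t * s' * t := by
            rw [show t * s' * t = (t * t) * s * (t * t) by simp only [s']; group, ht2, one_mul, mul_one]
        _ = 1 := by rw [e, mul_one, ht2])
    obtain ⟨A', hA'2, hA'1, hA'⟩ := hD.invol ((memD A).1 hA) hs'2 hs'1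
    -- an involution of the plane group whose centre is the centre of `t`
    obtain ⟨r, hr, hr2, hr1, htr⟩ : ∃ r : SLK, r * r = 1 ∧ r ≠ 1 ∧ True ∧ ∀ {v φ : V3}, Tv P v φ →
        ((hD.lift r : G3) : M3) = tv v φ → ∃ a : F, u₀ = a • v := by
      obtain ⟨v, φ, hTs, es⟩ := exists_tv hD.gen hsP hs2 hs1
      obtain ⟨v', φ', hTs', es'⟩ := exists_tv hD.gen (mul_mem (mul_mem ht hsP) ht) hs'2 hs'1
      by_cases hsame : ∃ a : F, v' = a • v
      · obtain ⟨a, rfl⟩ := hsame
        refine ⟨A, hA2, hA1, trivial, fun {w ψ} hTw ew => ?_⟩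
        obtain ⟨b, hb, rfl, -⟩ := tv_inj hTs.1 hTs.2.1 (es.symm.trans ew)
        suffices ∃ a : F, u₀ = a • v by
          obtain ⟨a', ha'⟩ := this
          exact ⟨a' / b, by rw [ha', smul_smul, div_mul_cancel₀ _ hb]⟩
        by_contra hno
        push Not at hno
        have hc := (hD.one.sep hD.gen hTs hTt hno).2
        have es'' : ((s' : G3) : M3) = tv ((t : M3) *ᵥ v) (φ ᵥ* ((t⁻¹ : G3) : M3)) := by
          rw [show s' = t * s * t⁻¹ by rw [hti], Units.val_mul, Units.val_mul, es, tv, tv, mul_add, mul_one,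
            add_mul, Units.mul_inv, mul_vecMulVec, vecMulVec_mul]
        obtain ⟨b', hb', e, -⟩ := tv_inj hTs'.1 hTs'.2.1 (es'.symm.trans es'')
        rw [et, tv_mulVec, smul_smul] at e
        refine hno ((b' * a - 1) / (θ₀ ⬝ᵥ v)) ?_
        rw [div_eq_inv_mul, ← smul_smul, sub_smul, one_smul, ← e, add_sub_cancel_left, smul_smul,
          inv_mul_cancel₀ hc, one_smul]
      · push Not at hsame
        have hne : s ≠ s' := fun e => by
          obtain ⟨b, -, hb, -⟩ := tv_inj hTs.1 hTs.2.1 (es.symm.trans ((congrArg (fun g : G3 => (g : M3)) e).trans es'))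
          exact hsame b hb
        have hsH : s ∈ hD.lift.range := ⟨A, rfl⟩
        have hsH' : s' ∈ hD.lift.range := ⟨A', hA'⟩
        rcases conj_or_invol hD.lift.range hsH hsH' hs2 hs'2 hne with ⟨k, hk, hkr⟩ | ⟨z, hz, hz2, hz1, hzs, hzs'⟩
        · set g := (s * s') ^ k with hg
          obtain ⟨R, hR⟩ := hkr
          have hgi : g⁻¹ = (s' * s) ^ k := by
            rw [hg, ← inv_pow, _root_.mul_inv_rev, inv_eq_of_mul_eq_one_right hs2,
              inv_eq_of_mul_eq_one_right hs'2]
          have hgs : g * s = s * g⁻¹ := by rw [hgi, hg, pow_shift]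
          have hgs' : g * s = s' * g := by rw [← hk, inv_mul_cancel_right]
          have hrr : (g * s) * (g * s) = 1 := by
            nth_rw 2 [hgs]
            rw [mul_assoc, ← mul_assoc s s, hs2, one_mul, mul_inv_cancel]
          have hr1' : g * s ≠ 1 := fun e => hne (by
            have hg_eq : g = s := by rw [eq_inv_of_mul_eq_one_left e, inv_eq_of_mul_eq_one_right hs2]
            rw [hg_eq, hs2, one_mul, inv_eq_of_mul_eq_one_right hs2] at hk
            exact hk)
          have hconj : ∀ n : ℕ, t * (s * s') ^ n * t = (s' * s) ^ n := fun n => by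
            have : t * (s * s') * t⁻¹ = s' * s := by
              rw [hti]
              show t * (s * (t * s * t)) * t = t * s * t * s
              rw [show t * (s * (t * s * t)) * t = t * s * t * s * (t * t) by group, ht2, mul_one]
            rw [← this, conj_pow, hti]
          have htr' : t * (g * s) * t = g * s := by
            calc t * (g * s) * t = (t * g * t) * (t * s * t) := by
                  rw [show (t * g * t) * (t * s * t) = t * g * (t * t) * s * t by group, ht2]; group
              _ = (s' * s) ^ k * s' := by rw [hg, hconj]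
              _ = s' * g := by rw [hg, pow_shift]
              _ = g * s := hgs'.symm
          refine ⟨R, hD.lift_injective (by rw [map_mul, hR, map_one, hrr]),
            fun e => hr1' (by rw [← hR, e, map_one]), trivial, fun {w ψ} hTw ew => ?_⟩
          refine hD.one.centre hD.gen ew et hTw hTt ?_
          rw [hR]
          calc g * s * t = (t * t) * (g * s * t) := by rw [ht2, one_mul]
            _ = t * (t * (g * s) * t) := by group
            _ = t * (g * s) := by rw [htr']
        · exfalso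
          obtain ⟨R, hR⟩ := hz
          obtain ⟨w, ψ, hTz, ez⟩ := exists_tv hD.gen (hR ▸ (hD.lift_mem R).1) hz2 hz1
          obtain ⟨a, ha⟩ := hD.one.centre hD.gen ez es hTz hTs hzs
          obtain ⟨b, hb⟩ := hD.one.centre hD.gen ez es' hTz hTs' hzs'
          have ha0 : a ≠ 0 := fun e => hTs.1 (by rw [ha, e, zero_smul])
          exact hsame (b / a) (by rw [hb, ha, smul_smul, div_mul_cancel₀ _ ha0])
    -- `t` lies in the plane group
    set R := hD.lift r
    have hR2 : R * R = 1 := by rw [← map_mul, hr, map_one]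
    have hR1 : R ≠ 1 := fun e => hr2 (hD.lift_injective (e.trans (map_one _).symm))
    obtain ⟨v, φ, hTR, eR⟩ := exists_tv hD.gen (hD.lift_mem r).1 hR2 hR1
    obtain ⟨a, ha⟩ := htr hTR eR
    have hbl := hD.lift_val r
    have hblk : ∀ i j : Fin 2, ((hD.lift r : G3) : M3) (Fin.castSucc i) (Fin.castSucc j) = ((r.1 i j : K) : F) :=
      fun i j => by
        have := congrFun (congrFun (congrArg Subtype.val hbl) i) j
        rw [blockHom_val] at this
        fin_cases i <;> fin_cases j <;> simpa [SpecialLinearGroup.map_apply_coe] using this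
    obtain ⟨q0, q1, q2⟩ := colStab_row (hD.lift_mem r)
    have hRe : ∀ i j, ((hD.lift r : G3) : M3) i j = (1 : M3) i j + v i * φ j := fun i j => by rw [eR]; rfl
    have hv2 : v 2 = 0 := by
      by_contra hne
      rw [hRe] at q0 q1 q2
      simp [hne] at q0 q1 q2
      exact hTR.2.1 (funext fun j => by fin_cases j <;> simp [q0, q1, q2])
    -- rationality of the centre
    obtain ⟨B, hB⟩ : ∃ B : SLK, ∃ b : F, ((hD.lift B : G3) : M3) *ᵥ ![1, 0, 0] = b • v := by
      by_cases hv1 : v 1 = 0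
      · refine ⟨1, (v 0)⁻¹, ?_⟩
        have hv0 : v 0 ≠ 0 := fun e => hTR.1 (funext fun j => by fin_cases j <;> simp [e, hv1, hv2])
        rw [map_one, Units.val_one, one_mulVec]
        funext j; fin_cases j <;> simp [hv0, hv1, hv2]
      · obtain ⟨j, hj⟩ : ∃ j : Fin 2, φ (Fin.castSucc j) ≠ 0 := by
          by_contra hno
          push Not at hno
          refine hr2 (Subtype.ext ?_)
          ext i l
          have := hblk i l
          have n0 : φ 0 = 0 := hno 0
          have n1 : φ 1 = 0 := hno 1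
          rw [hRe] at this
          fin_cases i <;> fin_cases l <;> simp [n0, n1] at this ⊢ <;> exact Subtype.ext this.symm
        have hK : ∀ i : Fin 2, v (Fin.castSucc i) * φ (Fin.castSucc j) ∈ K := fun i => by
          have := hblk i j
          rw [hRe] at this
          have e : v (Fin.castSucc i) * φ (Fin.castSucc j) = (r.1 i j : F) - (1 : Matrix (Fin 2) (Fin 2) F) i j := by
            fin_cases i <;> fin_cases j <;> simp at this ⊢ <;> linear_combination this
          rw [e]
          exact sub_mem (r.1 i j).2 (by rw [Matrix.one_apply]; split <;> [exact one_mem K; exact zero_mem K])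
        have hq : v 0 / v 1 ∈ K := by
          have := div_mem (hK 0) (hK 1)
          rwa [show v (Fin.castSucc (0 : Fin 2)) = v 0 from rfl, show v (Fin.castSucc (1 : Fin 2)) = v 1 from rfl,
            mul_div_mul_right _ _ hj] at this
        refine ⟨⟨!![⟨_, hq⟩, 1; 1, 0], ?_⟩, (v 1)⁻¹, ?_⟩
        · rw [det_fin_two]
          refine Subtype.ext ?_
          simp
          linear_combination -h2
        · set B : SLK := ⟨!![⟨_, hq⟩, 1; 1, 0], _⟩
          have hbB := hD.lift_val B
          obtain ⟨b0, b1, b2⟩ := colStab_row (hD.lift_mem B)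
          have c00 : ((hD.lift B : G3) : M3) 0 0 = v 0 / v 1 := congrFun (congrFun (congrArg Subtype.val hbB) 0) 0
          have c10 : ((hD.lift B : G3) : M3) 1 0 = 1 := congrFun (congrFun (congrArg Subtype.val hbB) 1) 0
          funext i
          fin_cases i <;> simp [mulVec, dotProduct, Fin.sum_univ_three, b0, c00, c10, hv1, hv2, div_eq_inv_mul]
    obtain ⟨b, hb⟩ := hB
    set h := hD.lift B
    have hb0 : b ≠ 0 := fun e => by
      rw [e, zero_smul] at hb
      have := congrArg (((h⁻¹ : G3) : M3) *ᵥ ·) hb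
      simp only [Cfsg.Agent.Classical.gl_inv_mulVec_cancel, mulVec_zero] at this
      simpa using congrFun this 0
    have hm := (hTt.2.2).conj (inv_mem (hD.lift_mem B).1)
    have hu : ((h⁻¹ : G3) : M3) *ᵥ u₀ = (a / b) • ![1, 0, 0] := by
      rw [ha, show a • v = (a / b) • (b • v) by rw [smul_smul, div_mul_cancel₀ _ hb0], ← hb, mulVec_smul,
        Cfsg.Agent.Classical.gl_inv_mulVec_cancel]
    rw [hu, mem_smul_iff] at hm
    have hφ := mem_e0_zero hP hm
    set θ := (a / b) • (θ₀ ᵥ* (((h⁻¹)⁻¹ : G3) : M3))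
    have hk := hD.frame.shift θ hm
    obtain ⟨t', ht', et'⟩ := hm
    have e1 : t' = h⁻¹ * t * h := by
      refine Units.ext ?_
      rw [et', Units.val_mul, Units.val_mul, et, tv, tv, mul_add, mul_one, add_mul, Units.inv_mul,
        mul_vecMulVec, vecMulVec_mul, hu, smul_vecMulVec, ← vecMulVec_smul]
      congr 2
    have hcol : t' ∈ colStab P := ⟨ht', by
      rw [et', hφ, tv_e0]; funext i; fin_cases i <;> simp [vecMul, dotProduct, Fin.sum_univ_three]⟩
    obtain ⟨C, hC⟩ : ∃ C : SLK, C.1 = !![1, ⟨θ 1, hk⟩; 0, 1] := ⟨⟨_, by simp [det_fin_two]⟩, rfl⟩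
    have hθ0 : θ 0 = 0 := congrFun hφ 0
    have ht'H : t' = hD.lift C := by
      refine hD.eq_lift hcol (Subtype.ext ?_)
      rw [blockHom_val]
      ext i j; fin_cases i <;> fin_cases j <;> simp [et', tv, vecMulVec, hθ0, hC, SpecialLinearGroup.map_apply_coe]
    refine htn (hD.mem_hz.2 ⟨B * C * B⁻¹, 1, one_mem _, ?_⟩)
    rw [map_mul, map_mul, map_inv, ← ht'H, e1, mul_one, show h = hD.lift B from rfl]
    group
  -- counting
  have hDodd : Odd (Nat.card D) := by
    rw [Nat.odd_iff]
    by_contra hne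
    haveI : Fact (Nat.Prime 2) := ⟨Nat.prime_two⟩
    obtain ⟨A, hA⟩ := exists_prime_orderOf_dvd_card' (G := D) 2 (Nat.dvd_of_mod_eq_zero (by omega))
    have h1 : (A : SLK) * A = 1 := by
      have := pow_orderOf_eq_one A
      rw [hA, sq] at this
      exact congrArg Subtype.val this
    have := hodd A A.2 h1
    rw [show A = 1 from Subtype.ext this, orderOf_one] at hA
    omega
  haveI : Fintype K := Fintype.ofFinite K
  have hq : 2 ≤ Nat.card K := Finite.one_lt_card
  have hq2 : 0 < Nat.card K ^ 2 - 1 := by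
    have : 2 ^ 2 ≤ Nat.card K ^ 2 := Nat.pow_le_pow_left hq 2
    omega
  have hcard : Nat.card SLK = Nat.card K * (Nat.card K ^ 2 - 1) := by
    rw [Cfsg.Agent.Small.SL2C.card_SL2, Nat.card_eq_fintype_card (α := K)]
  have hKeven : ∃ n, Nat.card K = 2 ^ n := by
    haveI : CharP K 2 := CharTwo.of_one_ne_zero_of_two_eq_zero one_ne_zero (Subtype.ext h2)
    obtain ⟨⟨n, _⟩, _, h'⟩ := FiniteField.card K 2
    exact ⟨n, by rw [Nat.card_eq_fintype_card, h']; rfl⟩
  have hDle : Nat.card D ≤ Nat.card K ^ 2 - 1 := by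
    obtain ⟨n, hn⟩ := hKeven
    refine Nat.le_of_dvd hq2 ?_
    have hd := Subgroup.card_subgroup_dvd_card D
    rw [hcard] at hd
    refine (Nat.Coprime.dvd_mul_left ?_).1 hd
    rw [hn]
    exact Nat.Coprime.pow_right n (Nat.coprime_two_right.2 hDodd)
  -- the elements of the coset
  have hex : ∀ s ∈ S, ∃ A : SLK, ∃ z ∈ zSub P, hD.lift A * z = t * s := fun s hs => hD.mem_hz.1 (hS s hs).2
  choose! f zz hzz hf using hex
  have hinvert : ∀ s ∈ S, ∃ z ∈ zSub P, t * hD.lift (f s) * t = hD.lift (f s)⁻¹ * z := by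
    intro s hs
    refine ⟨(zz s)⁻¹ * (zz s)⁻¹, mul_mem (inv_mem (hzz s hs)) (inv_mem (hzz s hs)), ?_⟩
    have e1 : hD.lift (f s) = t * s * (zz s)⁻¹ := by rw [← hf s hs, mul_inv_cancel_right]
    rw [map_inv, e1, _root_.mul_inv_rev, _root_.mul_inv_rev, inv_inv, hti,
      inv_eq_of_mul_eq_one_right (hS s hs).1]
    rw [show t * (t * s * (zz s)⁻¹) * t = (t * t) * s * ((zz s)⁻¹ * t) by group, ht2, one_mul,
      hzc (inv_mem (hzz s hs)) t, hzc (hzz s hs) (s * t),
      show s * t * zz s * ((zz s)⁻¹ * (zz s)⁻¹) = s * t * (zz s)⁻¹ by group]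
    group
  have hfD : ∀ s ∈ S, f s ∈ D := fun s hs => by
    obtain ⟨z, hz, e⟩ := hinvert s hs
    rw [memD, e]
    exact hD.mem_hz.2 ⟨_, z, hz, rfl⟩
  have hinj : Set.InjOn f S := fun s hs s' hs' e => by
    have e1 := hf s hs
    have e2 := hf s' hs'
    set z := (zz s)⁻¹ * zz s' with hzd
    have hzm : z ∈ zSub P := mul_mem (inv_mem (hzz s hs)) (hzz s' hs')
    have es' : s' = s * z := mul_left_cancel (a := t) (by
      rw [← e2, ← e, ← mul_assoc, ← e1, hzd, mul_assoc, mul_inv_cancel_left])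
    have hz2 : z * z = 1 := by
      have := (hS s' hs').1
      rw [es'] at this
      calc z * z = s * s * (z * z) := by rw [(hS s hs).1, one_mul]
        _ = s * (s * z) * z := by group
        _ = s * (z * s) * z := by rw [hzc hzm s]
        _ = 1 := by rw [← this]; group
    rw [es', zSub_one hP hzm hz2, mul_one]
  have hle : S.card ≤ Nat.card D := by
    rw [← Finset.card_image_of_injOn hinj, Nat.card_eq_fintype_card, Fintype.card_subtype]
    exact Finset.card_le_card fun A hA => by
      obtain ⟨s, hs, rfl⟩ := Finset.mem_image.1 hA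
      simp [hfD s hs]
  refine lt_of_le_of_ne (hle.trans hDle) fun heq => ?_
  have hcardD : Nat.card D = Nat.card K ^ 2 - 1 := le_antisymm hDle (heq ▸ hle)
  have hall : ∀ A ∈ D, ∃ z ∈ zSub P, t * hD.lift A * t = hD.lift A⁻¹ * z := by
    intro A hA
    have himg : S.image f = Finset.univ.filter (fun A : SLK => A ∈ D) := by
      refine Finset.eq_of_subset_of_card_le (fun A hA => ?_) ?_
      · obtain ⟨s, hs, rfl⟩ := Finset.mem_image.1 hA
        simp [hfD s hs]
      · rw [Finset.card_image_of_injOn hinj, heq, ← hcardD, Nat.card_eq_fintype_card, Fintype.card_subtype]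
    have : A ∈ S.image f := by rw [himg]; simp [hA]
    obtain ⟨s, hs, rfl⟩ := Finset.mem_image.1 this
    exact hinvert s hs
  have hab : ∀ A ∈ D, ∀ B ∈ D, A * B = B * A := by
    intro A hA B hB
    obtain ⟨z, hz, e⟩ := hall A hA
    obtain ⟨z', hz', e'⟩ := hall B hB
    obtain ⟨z'', hz'', e''⟩ := hall _ (mul_mem hA hB)
    have e3 : hD.lift (A⁻¹ * B⁻¹) * (z * z') = hD.lift (A * B)⁻¹ * z'' := by
      rw [← e'', map_mul (hD.lift) A B, map_mul]
      calc hD.lift A⁻¹ * hD.lift B⁻¹ * (z * z') = hD.lift A⁻¹ * (hD.lift B⁻¹ * z) * z' := by group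
        _ = hD.lift A⁻¹ * (z * hD.lift B⁻¹) * z' := by rw [hzc hz]
        _ = (hD.lift A⁻¹ * z) * (hD.lift B⁻¹ * z') := by group
        _ = (t * hD.lift A * t) * (t * hD.lift B * t) := by rw [e, e']
        _ = t * hD.lift A * (t * t) * hD.lift B * t := by group
        _ = t * (hD.lift A * hD.lift B) * t := by rw [ht2]; group
    have := (hD.unique (mul_mem hz hz') hz'' e3).1
    rw [_root_.mul_inv_rev] at this
    simpa using (congrArg (·⁻¹) this).symm
  -- a free transitive abelian group on the nonzero vectors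
  let u : Fin 2 → K := ![1, 0]
  have hfree : ∀ A ∈ D, A.1 *ᵥ u = u → A = 1 := by
    intro A hA e
    have e00 := congrFun e 0
    have e10 := congrFun e 1
    simp [u, mulVec, dotProduct, Fin.sum_univ_two] at e00 e10
    have hdet := A.2
    rw [det_fin_two, e00, e10, one_mul, mul_zero, sub_zero] at hdet
    refine hodd A hA (Subtype.ext ?_)
    haveI : CharP K 2 := CharTwo.of_one_ne_zero_of_two_eq_zero one_ne_zero (Subtype.ext h2)
    show A.1 * A.1 = 1
    ext i j
    fin_cases i <;> fin_cases j <;>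
      simp [Matrix.mul_apply, Fin.sum_univ_two, e00, e10, hdet, CharTwo.add_self_eq_zero]
  let act : D → {w : Fin 2 → K // w ≠ 0} := fun A => ⟨(A : SLK).1 *ᵥ u, fun e => by
    have h' := congrArg (fun w => ((A : SLK)⁻¹).1 *ᵥ w) e
    simp only [mulVec_zero] at h'
    rw [mulVec_mulVec, show ((A : SLK)⁻¹).1 * (A : SLK).1 = 1 from congrArg Subtype.val (inv_mul_cancel (A : SLK)),
      one_mulVec] at h'
    simpa [u] using congrFun h' 0⟩
  have hbij : Function.Bijective act := by
    refine (Nat.bijective_iff_injective_and_card act).2 ⟨fun A B e => ?_, ?_⟩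
    · have e' : (A : SLK).1 *ᵥ u = (B : SLK).1 *ᵥ u := congrArg Subtype.val e
      have := hfree _ (mul_mem (inv_mem B.2) A.2) (by
        show (((B : SLK)⁻¹).1 * (A : SLK).1) *ᵥ u = u
        rw [← mulVec_mulVec, e', mulVec_mulVec,
          show ((B : SLK)⁻¹).1 * (B : SLK).1 = 1 from congrArg Subtype.val (inv_mul_cancel (B : SLK)), one_mulVec])
      exact Subtype.ext (inv_mul_eq_one.1 this).symm
    · rw [hcardD, Nat.card_eq_fintype_card (α := {w : Fin 2 → K // w ≠ 0}), Fintype.card_subtype_compl,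
        Fintype.card_subtype_eq, Fintype.card_fun, Fintype.card_fin, Nat.card_eq_fintype_card]
  obtain ⟨k, hk, hk0, hk1⟩ := hD.frame.four
  obtain ⟨⟨A, hA⟩, eA⟩ := hbij.2 ⟨![⟨k, hk⟩, 0], fun e => hk0 (congrArg Subtype.val (congrFun e 0))⟩
  have eA' : A.1 *ᵥ u = (⟨k, hk⟩ : K) • u := by
    rw [show A.1 *ᵥ u = _ from congrArg Subtype.val eA]
    funext i; fin_cases i <;> simp [u]
  have hscal : ∀ w : Fin 2 → K, A.1 *ᵥ w = (⟨k, hk⟩ : K) • w := by
    intro w
    by_cases hw : w = 0
    · simp [hw]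
    obtain ⟨⟨B, hB⟩, eB⟩ := hbij.2 ⟨w, hw⟩
    have eB' : B.1 *ᵥ u = w := congrArg Subtype.val eB
    rw [← eB', mulVec_mulVec, show A.1 * B.1 = B.1 * A.1 from congrArg Subtype.val (hab A hA B hB),
      ← mulVec_mulVec, eA', mulVec_smul]
  have h00 := congrFun (hscal ![1, 0]) 0
  have h10 := congrFun (hscal ![1, 0]) 1
  have h11 := congrFun (hscal ![0, 1]) 1
  simp [mulVec, dotProduct, Fin.sum_univ_two] at h00 h10 h11
  have hdet := A.2
  rw [det_fin_two, h00, h10, h11, mul_zero, sub_zero] at hdet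
  exact hk1 (CharTwo.sq_inj.1 (by rw [one_pow, sq]; exact congrArg Subtype.val hdet))

set_option maxHeartbeats 1000000 in
/-- The strongly embedded plane group is too small. -/
theorem CData.contra (hD : CData P c K) : False := by
  classical
  have h2 := hD.gen.two
  have hP := hD.gen.le_sl
  haveI : CharP F 2 := CharTwo.of_one_ne_zero_of_two_eq_zero one_ne_zero h2
  haveI : Fintype K := Fintype.ofFinite K
  haveI : CharP K 2 := CharTwo.of_one_ne_zero_of_two_eq_zero one_ne_zero (Subtype.ext h2)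
  set q := Nat.card K with hqd
  have hq : 2 ≤ q := Finite.one_lt_card
  have hq2 : 0 < q ^ 2 - 1 := by
    have : 2 ^ 2 ≤ q ^ 2 := Nat.pow_le_pow_left hq 2
    omega
  obtain ⟨I, hI⟩ : ∃ I : Finset P, ∀ g, g ∈ I ↔ g * g = 1 ∧ g ≠ 1 :=
    ⟨Finset.univ.filter fun g => g * g = 1 ∧ g ≠ 1, fun g => by rw [Finset.mem_filter]; exact and_iff_right (Finset.mem_univ g)⟩
  set W : Subgroup P := hD.hz.subgroupOf P with hW
  obtain ⟨x, hx, ex⟩ := hD.x0
  set x' : P := ⟨x, hx⟩
  have hTx : Tv P ![1, 0, 0] ![0, 1, 0] := ⟨by simp, by simp, hD.x0⟩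
  have hx2 : x' * x' = 1 := by
    have := inv_eq_self h2 ex (hTx.2.2.orth hP)
    refine Subtype.ext ?_
    show x * x = 1
    conv_lhs => arg 1; rw [← this]
    exact inv_mul_cancel x
  have hx1 : x' ≠ 1 := fun e => hTx.ne_one ex (congrArg Subtype.val e)
  -- the conjugacy class of `x`
  set nz := Nat.card (zSub P)
  have hclass : Nat.card P ≤ q * nz * I.card := by
    rw [Nat.card_eq_fintype_card, ← Finset.card_univ]
    refine le_trans (Finset.card_le_mul_card_image (f := fun g : P => g * x' * g⁻¹) Finset.univ (q * nz) fun y hy => ?_)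
      (Nat.mul_le_mul_left _ (Finset.card_le_card (t := I) ?_))
    pick_goal 2
    · intro y hy
      obtain ⟨g, -, rfl⟩ := Finset.mem_image.1 hy
      rw [hI]
      refine ⟨?_, fun e => hx1 (conj_eq_one_iff.1 e)⟩
      calc g * x' * g⁻¹ * (g * x' * g⁻¹) = g * (x' * x') * g⁻¹ := by group
        _ = 1 := by rw [hx2, mul_one, mul_inv_cancel]
    · obtain ⟨g₀, -, rfl⟩ := Finset.mem_image.1 hy
      have hc : ∀ g : P, g * x' * g⁻¹ = g₀ * x' * g₀⁻¹ → ∃ z ∈ zSub P, ∃ φ : V3, Mem P ![1, 0, 0] φ ∧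
          (((g₀⁻¹ * g : P) : G3) : M3) = (z : M3) * tv ![1, 0, 0] φ := fun g e => by
        refine hD.cent ex (g₀⁻¹ * g).2 ?_
        have e' : g₀⁻¹ * g * x' * (g₀⁻¹ * g)⁻¹ = x' := by
          calc g₀⁻¹ * g * x' * (g₀⁻¹ * g)⁻¹ = g₀⁻¹ * (g * x' * g⁻¹) * g₀ := by group
            _ = x' := by rw [e]; group
        exact congrArg Subtype.val e'
      choose! zf hzf φf hφf hgf using hc
      set fib := Finset.univ.filter fun g : P => g * x' * g⁻¹ = g₀ * x' * g₀⁻¹
      calc fib.card ≤ (((Finset.univ.filter fun z : G3 => z ∈ zSub P) ×ˢ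
            (Finset.univ.filter fun k : F => k ∈ K))).card := by
            refine Finset.card_le_card_of_injOn (fun g => (zf g, φf g 1)) (fun g hg => ?_) fun g hg g' hg' e => ?_
            · have hg' := (Finset.mem_filter.1 hg).2
              simp [hzf g hg', hD.frame.shift _ (hφf g hg')]
            · have hg1 := (Finset.mem_filter.1 hg).2
              have hg1' := (Finset.mem_filter.1 hg').2
              obtain ⟨e1, e2⟩ := Prod.ext_iff.1 e
              have hd : Mem P ![1, 0, 0] ![0, 0, φf g 2 + φf g' 2] := by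
                have h := (hφf g hg1).add hP (hφf g' hg1')
                rw [mem_e0_zero hP (hφf g hg1), mem_e0_zero hP (hφf g' hg1')] at h
                convert h using 1
                simp only at e2
                simp [e2, CharTwo.add_self_eq_zero]
              have hφ : φf g = φf g' := by
                rw [mem_e0_zero hP (hφf g hg1), mem_e0_zero hP (hφf g' hg1')]
                simp only at e2
                rw [e2, CharTwo.add_eq_zero.1 (hD.inj hd)]
              refine mul_left_cancel (a := g₀⁻¹) (Subtype.ext (Units.ext ?_))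
              simp only at e1
              rw [hgf g hg1, hgf g' hg1', e1, hφ]
        _ = q * nz := by
            rw [Finset.card_product, mul_comm, ← Fintype.card_subtype, ← Fintype.card_subtype,
              ← Nat.card_eq_fintype_card, ← Nat.card_eq_fintype_card]
  -- the order
  have hsl : Nat.card (Matrix.SpecialLinearGroup (Fin 2) K) = q * (q ^ 2 - 1) := by
    rw [Cfsg.Agent.Small.SL2C.card_SL2, hqd, Nat.card_eq_fintype_card (α := K)]
  have hWcard : Nat.card W = q * (q ^ 2 - 1) * nz := by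
    rw [Nat.card_congr (Subgroup.subgroupOfEquivOfLe hD.hz_le).toEquiv, ← hsl, ← Nat.card_prod]
    refine (Nat.card_congr (Equiv.ofBijective
      (fun p : Matrix.SpecialLinearGroup (Fin 2) K × zSub P =>
        (⟨hD.lift p.1 * p.2, hD.mem_hz.2 ⟨p.1, p.2, p.2.2, rfl⟩⟩ : hD.hz)) ⟨fun p p' e => ?_, fun g => ?_⟩)).symm
    · obtain ⟨e1, e2⟩ := hD.unique p.2.2 p'.2.2 (congrArg Subtype.val e)
      exact Prod.ext e1 (Subtype.ext e2)
    · obtain ⟨A, z, hz, e⟩ := hD.mem_hz.1 g.2
      exact ⟨(A, ⟨z, hz⟩), Subtype.ext e⟩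
  have hlow : W.index * (q ^ 2 - 1) ≤ I.card := by
    have hm := Subgroup.card_mul_index W
    rw [hWcard] at hm
    rw [← hm] at hclass
    have hnz : 0 < nz := Nat.card_pos
    refine Nat.le_of_mul_le_mul_left ?_ (Nat.mul_pos (by omega : 0 < q) hnz)
    calc q * nz * (W.index * (q ^ 2 - 1)) = q * (q ^ 2 - 1) * nz * W.index := by ring
      _ ≤ q * nz * I.card := hclass
  -- the cosets
  haveI : Fintype (P ⧸ W) := Fintype.ofFinite _
  have hfib : ∀ C : P ⧸ W, (I.filter fun g : P => (QuotientGroup.mk g : P ⧸ W) = C).card ≤ q ^ 2 - 1 ∧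
      (C ≠ ((1 : P) : P ⧸ W) → (I.filter fun g : P => (QuotientGroup.mk g : P ⧸ W) = C).card < q ^ 2 - 1) := by
    intro C
    set J := I.filter fun g : P => (QuotientGroup.mk g : P ⧸ W) = C
    rcases J.eq_empty_or_nonempty with hJ | ⟨t, ht⟩
    · rw [hJ, Finset.card_empty]; exact ⟨hq2.le, fun _ => hq2⟩
    obtain ⟨htI, htC⟩ := Finset.mem_filter.1 ht
    obtain ⟨ht2, ht1⟩ := (hI _).1 htI
    by_cases hC : C = ((1 : P) : P ⧸ W)
    · refine ⟨?_, fun h => absurd hC h⟩
      have hinv : ∀ g ∈ J, ∃ A : Matrix.SpecialLinearGroup (Fin 2) K, A * A = 1 ∧ A ≠ 1 ∧ hD.lift A = (g : G3) := by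
        intro g hg
        obtain ⟨hgI, hgC⟩ := Finset.mem_filter.1 hg
        obtain ⟨hg2, hg1⟩ := (hI _).1 hgI
        refine hD.invol ?_ (congrArg Subtype.val hg2) (fun e => hg1 (Subtype.ext e))
        rw [hC, QuotientGroup.eq, mul_one, inv_mem_iff] at hgC
        exact Subgroup.mem_subgroupOf.1 hgC
      choose! A hA2 hA1 hA using hinv
      calc J.card ≤ ((Finset.univ : Finset (K × K)).erase 0).card := by
            refine Finset.card_le_card_of_injOn (fun g => ((A g).1 0 1, (A g).1 1 0)) (fun g hg => ?_)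
              fun g hg g' hg' e => ?_
            · refine Finset.mem_erase.2 ⟨fun e => hA1 g hg (Subtype.ext ?_), Finset.mem_univ _⟩
              obtain ⟨e1, e2⟩ := Prod.ext_iff.1 e
              simp at e1 e2
              have h := congrArg Subtype.val (hA2 g hg)
              change (A g).1 * (A g).1 = 1 at h
              have h00 := congrFun (congrFun h 0) 0
              have h11 := congrFun (congrFun h 1) 1
              simp [Matrix.mul_apply, Fin.sum_univ_two, e1, e2] at h00 h11
              have g00 : (A g).1 0 0 ^ 2 = 1 ^ 2 := by rw [sq, one_pow]; exact h00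
              have g11 : (A g).1 1 1 ^ 2 = 1 ^ 2 := by rw [sq, one_pow]; exact h11
              show (A g).1 = 1
              ext i j
              fin_cases i <;> fin_cases j <;> simp [e1, e2, CharTwo.sq_inj.1 g00, CharTwo.sq_inj.1 g11]
            · obtain ⟨e1, e2⟩ := Prod.ext_iff.1 e
              simp only at e1 e2
              have d : ∀ g ∈ J, (A g).1 0 0 ^ 2 = 1 - (A g).1 0 1 * (A g).1 1 0 ∧
                  (A g).1 1 1 ^ 2 = 1 - (A g).1 0 1 * (A g).1 1 0 := fun g hg => by
                have h := congrArg Subtype.val (hA2 g hg)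
                change (A g).1 * (A g).1 = 1 at h
                have h00 := congrFun (congrFun h 0) 0
                have h11 := congrFun (congrFun h 1) 1
                simp [Matrix.mul_apply, Fin.sum_univ_two] at h00 h11
                exact ⟨by linear_combination h00, by linear_combination h11⟩
              refine Subtype.ext ?_
              rw [← hA g hg, ← hA g' hg']
              congr 1
              refine Subtype.ext ?_
              ext i j
              fin_cases i <;> fin_cases j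
              · exact congrArg Subtype.val (CharTwo.sq_inj.1 (show (A g).1 0 0 ^ 2 = (A g').1 0 0 ^ 2 by rw [(d g hg).1, (d g' hg').1, e1, e2]))
              · exact congrArg Subtype.val e1
              · exact congrArg Subtype.val e2
              · exact congrArg Subtype.val (CharTwo.sq_inj.1 (show (A g).1 1 1 ^ 2 = (A g').1 1 1 ^ 2 by rw [(d g hg).2, (d g' hg').2, e1, e2]))
        _ = q ^ 2 - 1 := by
            rw [Finset.card_erase_of_mem (Finset.mem_univ _), Finset.card_univ, Fintype.card_prod, hqd,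
              Nat.card_eq_fintype_card, sq]
    · have hlt : J.card < q ^ 2 - 1 := by
        rw [← Finset.card_image_of_injective J Subtype.val_injective]
        refine hD.coset t.2 (congrArg Subtype.val ht2) (fun e => ht1 (Subtype.ext e)) (fun hmem => hC ?_)
          fun s hs => ?_
        · rw [← htC, QuotientGroup.eq, mul_one, inv_mem_iff]
          exact Subgroup.mem_subgroupOf.2 hmem
        · obtain ⟨g, hg, rfl⟩ := Finset.mem_image.1 hs
          obtain ⟨hgI, hgC⟩ := Finset.mem_filter.1 hg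
          obtain ⟨hg2, -⟩ := (hI _).1 hgI
          refine ⟨congrArg Subtype.val hg2, ?_⟩
          have : t⁻¹ * g ∈ W := QuotientGroup.eq.1 (htC.trans hgC.symm)
          rw [inv_eq_of_mul_eq_one_right ht2] at this
          exact Subgroup.mem_subgroupOf.1 this
      exact ⟨hlt.le, fun _ => hlt⟩
  obtain ⟨C, hC⟩ : ∃ C : P ⧸ W, C ≠ ((1 : P) : P ⧸ W) := by
    by_contra hno
    push Not at hno
    -- otherwise the group fixes the plane
    obtain ⟨w, ψ, hT, hw⟩ := hD.gen.spans ![0, 0, 1] (by simp)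
    simp [dotProduct, Fin.sum_univ_three] at hw
    obtain ⟨g, hg, eg⟩ := hT.2.2
    have hgW : (⟨g, hg⟩ : P) ∈ W := by
      have := hno ((⟨g, hg⟩ : P) : P ⧸ W)
      rwa [QuotientGroup.eq, mul_one, inv_mem_iff] at this
    obtain ⟨A, z, hz, e⟩ := hD.mem_hz.1 (Subgroup.mem_subgroupOf.1 hgW)
    obtain ⟨s, hs⟩ := (mem_scalars_iff z).1 hz.1
    obtain ⟨a0, a1, a2⟩ := colStab_row (hD.lift_mem A)
    have e' := congrArg (fun x : G3 => (x : M3)) e
    simp only at e'
    rw [Units.val_mul, hs, Matrix.mul_smul, Matrix.mul_one, eg] at e'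
    have h20 := congrFun (congrFun e' 2) 0
    have h21 := congrFun (congrFun e' 2) 1
    simp [tv, vecMulVec, a0, a1, hw] at h20 h21
    have := hT.2.2.orth hP
    simp [dotProduct, Fin.sum_univ_three, h20, h21, hw] at this
    exact hT.2.1 (funext fun i => by fin_cases i <;> simp [h20, h21, this])
  have hup : I.card < W.index * (q ^ 2 - 1) := by
    rw [Finset.card_eq_sum_card_fiberwise (f := fun g : P => (QuotientGroup.mk g : P ⧸ W)) (t := Finset.univ)
      (fun g _ => Finset.mem_univ _)]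
    calc _ < ∑ _C : P ⧸ W, (q ^ 2 - 1) :=
          Finset.sum_lt_sum (fun C _ => (hfib C).1) ⟨C, Finset.mem_univ _, (hfib C).2 hC⟩
      _ = W.index * (q ^ 2 - 1) := by
          rw [Finset.sum_const, Finset.card_univ, smul_eq_mul, Subgroup.index_eq_card,
            Nat.card_eq_fintype_card]
  omega

end Count

/-- Root groups of order two, one centre on every axis, two axes at some centre: impossible. -/
theorem oneCentre_false (hG : Gen P) (hT : Thin P) (hO : OneCentre P) {x : G3} (hx : SC P x) : False := by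
  obtain ⟨v, φ, φ', -, h1, h1', hne⟩ := hx
  have hP := hG.le_sl
  obtain ⟨w, ψ, h2, hψ⟩ := hG.moves v h1.1
  have hw : ∀ s : F, w ≠ s • v := fun s e => hψ (by
    have := h2.2.2.orth hP
    have hs : s ≠ 0 := fun e' => h2.1 (by rw [e, e', zero_smul])
    rw [e, dotProduct_smul, smul_eq_mul] at this
    exact (mul_eq_zero.1 this).resolve_left hs)
  have ha := (hO.sep hG h1 h2 hw).1
  have ha' := (hO.sep hG h1' h2 hw).1
  have hd : φ' ⬝ᵥ w ≠ φ ⬝ᵥ w := fun e => by
    have hd' : Tv P v (φ' + φ) := ⟨h1.1, fun e' => hne (by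
      rw [← sub_eq_zero, ← e']
      funext i
      simp only [Pi.sub_apply, Pi.add_apply]
      linear_combination -(φ i) * hG.two), h1'.2.2.add hP h1.2.2⟩
    refine (hO.sep hG hd' h2 hw).1 ?_
    rw [add_dotProduct, e, add_self hG.two]
  obtain ⟨B, u, hu1, hu2, hBv, hBw, hBφ, hBψ⟩ :=
    exists_frame (h1.2.2.orth hP) (h2.2.2.orth hP) ha hψ
  obtain ⟨hx0, hy0⟩ := frame_pair h1.2.2 h2.2.2 hBv hBw hBφ hBψ ha
  have hc := mul_ne_zero ha hψ
  set φa := φ' ᵥ* (B : M3)
  have hφa : Mem (cj P B) ![1, 0, 0] φa := by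
    rw [mem_cj_tv, hBv, vecMul_vecMul, Units.mul_inv, vecMul_one]; exact h1'.2.2
  have h1a : φa 1 = φ' ⬝ᵥ w / (φ ⬝ᵥ w) := by
    have : φa ⬝ᵥ ![0, 1, 0] = φa 1 := by simp [dotProduct, Fin.sum_univ_three]
    rw [← this, ← dotProduct_mulVec, hBw, dotProduct_smul, smul_eq_mul, div_eq_inv_mul]
  obtain ⟨K, hK⟩ := plane_frame (hG.cj' B) hc hy0 hx0 hφa rfl (by rw [h1a]; exact div_ne_zero ha' ha)
    (by rw [h1a]; exact fun e => hd ((div_eq_one_iff_eq ha).1 e))
  have hT' : Thin (cj P B) := fun v φ ⟨h, s, hs0, hs1, hs⟩ =>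
    hT _ _ ⟨tv_cj.1 h, s, hs0, hs1, by rw [← smul_vecMul]; exact mem_cj_tv.1 hs⟩
  refine CData.contra (c := (φ ⬝ᵥ w) * (ψ ⬝ᵥ v)) (K := K) (P := cj P B)
    ⟨hG.cj' B, hT', fun a b θ h h' => Cfsg.Agent.Classical.gl_mulVec_injective B
      (hO _ _ _ (tv_cj.1 h) (tv_cj.1 h')), hK, hx0,
      ⟨by simp, fun e => hc (by simpa using congrFun e 0), hy0⟩, φa 1, φa 2, fun e => ?_, ?_⟩
  · have hm : Mem (cj P B) ![1, 0, 0] (φa 1 • ![0, 1, 0]) := by
      convert hφa using 1
      rw [mem_e0_zero (hG.cj' B).le_sl hφa, e]; simp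
    rcases hT'.eq01 ⟨by simp, by simp, hx0⟩ hm with h | h <;> rw [h1a] at h
    · exact div_ne_zero ha' ha h
    · exact hd ((div_eq_one_iff_eq ha).1 h)
  · rw [← mem_e0_zero (hG.cj' B).le_sl hφa]; exact hφa

end Cfsg.Agent.PThree.TEven
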