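import Cfsg.Agent.Lib.Classical.PThree.TEven.Trans
import Cfsg.Agent.Lib.Classical.PThree.Fields
import Cfsg.Agent.S3035
import Cfsg.Agent.Lib.Small.PSLThreeTwo

/-!
# A dihedral centraliser in characteristic two

When the centraliser of a transvection modulo scalars is dihedral of order eight, the group is
`SL(3,2)`, is realised over a proper subfield, or is `Alt 6` modulo scalars over four elements.
-/

set_option autoImplicit false
set_option linter.unusedSectionVars false
set_option linter.style.haveILetI false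

namespace Cfsg.Agent.PThree

open Matrix Cfsg Cfsg.Geo
open scoped MatrixGroups commutatorElement

theorem dihedral_of_gens {G : Type*} [Group G] {s a : G} (hs : s * s = 1) (ha : orderOf a = 4)
    (hsa : s * a * s = a⁻¹) (hnot : s ∉ Subgroup.zpowers a) :
    Nonempty (Subgroup.closure {s, a} ≃* DihedralGroup 4) := by
  have ha4 : a ^ 4 = 1 := ha ▸ pow_orderOf_eq_one a
  let c : ZMod 4 → G := fun i => a ^ i.val
  have hadd : ∀ i j, c (i + j) = c i * c j := fun i j => by
    show a ^ (i + j).val = a ^ i.val * a ^ j.val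
    rw [ZMod.val_add, ← pow_eq_pow_mod _ ha4, pow_add]
  have hflip : ∀ i, c i * s = s * c (-i) := fun i => by
    have e : ∀ n : ℕ, s * a ^ n * s = (a ^ n)⁻¹ := by
      intro n
      induction n with
      | zero => simp [hs]
      | succ n ih =>
        calc s * a ^ (n + 1) * s = (s * a ^ n * s) * (s * a * s) := by
              rw [pow_succ]
              simp only [mul_assoc]
              rw [← mul_assoc s s (a * s), hs, one_mul]
          _ = (a ^ (n + 1))⁻¹ := by rw [ih, hsa, ← _root_.mul_inv_rev, pow_succ']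
    have h1 : s * c i * s = c (-i) := by
      refine (e i.val).trans (inv_eq_of_mul_eq_one_right ?_)
      show c i * c (-i) = 1
      rw [← hadd, add_neg_cancel]
      exact pow_zero a
    calc c i * s = s * (s * c i * s) := by simp only [← mul_assoc, hs, one_mul]
      _ = _ := by rw [h1]
  let f : DihedralGroup 4 → G := fun x => match x with
    | .r i => c i
    | .sr i => s * c i
  have hf : ∀ x y, f (x * y) = f x * f y := by
    rintro (i | i) (j | j)
    · exact hadd i j
    · show s * c (j - i) = c i * (s * c j)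
      rw [← mul_assoc, hflip, mul_assoc, ← hadd, sub_eq_neg_add]
    · show s * c (i + j) = s * c i * c j
      rw [hadd, mul_assoc]
    · show c (j - i) = s * c i * (s * c j)
      rw [mul_assoc s (c i), ← mul_assoc (c i) s, hflip, ← mul_assoc, ← mul_assoc, hs, one_mul, ← hadd,
        sub_eq_neg_add]
  let φ : DihedralGroup 4 →* G := MonoidHom.mk' f hf
  have hc0 : ∀ i, c i = 1 → i = 0 := fun i h => by
    have hd : 4 ∣ i.val := ha.symm.dvd.trans (orderOf_dvd_of_pow_eq_one (show a ^ i.val = 1 from h))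
    have := ZMod.val_lt i
    exact (ZMod.val_eq_zero i).1 (by omega)
  have hinj : Function.Injective φ := (injective_iff_map_eq_one φ).2 fun x hx => by
    rcases x with i | i
    · rw [hc0 i hx]; rfl
    · exfalso
      have h : s * c i = 1 := hx
      refine hnot ?_
      rw [eq_inv_of_mul_eq_one_left h]
      exact inv_mem (pow_mem (Subgroup.mem_zpowers a) _)
  have hrange : φ.range = Subgroup.closure {s, a} := by
    refine le_antisymm ?_ ((Subgroup.closure_le _).2 ?_)
    · rintro _ ⟨x, rfl⟩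
      have hs' : s ∈ Subgroup.closure {s, a} := Subgroup.subset_closure (by simp)
      have ha' : ∀ i, c i ∈ Subgroup.closure {s, a} := fun i =>
        pow_mem (Subgroup.subset_closure (by simp)) _
      rcases x with i | i
      exacts [ha' i, mul_mem hs' (ha' i)]
    · intro x hx
      haveI : Fact (1 < 4) := ⟨by norm_num⟩
      rcases hx with hx | hx
      · exact ⟨.sr 0, show s * a ^ (0 : ZMod 4).val = x by rw [hx, ZMod.val_zero, pow_zero, mul_one]⟩
      · exact ⟨.r 1, show a ^ (1 : ZMod 4).val = x by rw [Set.mem_singleton_iff.1 hx, ZMod.val_one, pow_one]⟩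
  rw [← hrange]
  exact ⟨(MonoidHom.ofInjective hinj).symm⟩

namespace TEven

variable {F : Type*} [Field F] {P : Subgroup (GL (Fin 3) F)}

/-- The dihedral case. -/
theorem dih_case [Fintype F] (h : Ctx P) (h2 : (2 : F) = 0) {v φ : Fin 3 → F} (hT : Tv P v φ)
    {x s t : GL (Fin 3) F} (hx : (x : Matrix (Fin 3) (Fin 3) F) = tv v φ) (hs : s ∈ P) (ht : t ∈ P)
    (hs2 : s * s = 1) (ht2 : t * t = 1) (hst : (s * t) * (s * t) = x)
    (hC : ∀ g ∈ P, g * x * g⁻¹ * x⁻¹ ∈ scalars (Fin 3) F →
      ∃ z ∈ scalars (Fin 3) F, ∃ k ∈ Subgroup.closure {s, t}, g = z * k) :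
    P = specialLinear (Fin 3) F ∨ (∃ τ : F ≃+* F, τ ≠ RingEquiv.refl F ∧ Twist P τ) ∨
    (Nonempty ((P ⧸ (scalars (Fin 3) F).subgroupOf P) ≃* alternatingGroup (Fin 6)) ∧
      Fintype.card F = 4) := by
  classical
  set S := (scalars (Fin 3) F).subgroupOf P with hS
  haveI := h.simple
  haveI : CharP F 2 := CharTwo.of_one_ne_zero_of_two_eq_zero one_ne_zero h2
  haveI : Fact (Nat.Prime 2) := ⟨Nat.prime_two⟩
  have hxP : x ∈ P := hst ▸ mul_mem (mul_mem hs ht) (mul_mem hs ht)
  have hx2 : x * x = 1 := by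
    have := inv_eq_self h2 hx (hT.2.2.orth h.le_sl)
    nth_rewrite 2 [← this]
    exact mul_inv_cancel x
  set X : P ⧸ S := QuotientGroup.mk ⟨x, hxP⟩ with hX
  set A : P ⧸ S := QuotientGroup.mk ⟨s * t, mul_mem hs ht⟩ with hA
  set B : P ⧸ S := QuotientGroup.mk ⟨s, hs⟩ with hB
  have hXA : X = A * A := by
    rw [hX, hA, ← QuotientGroup.mk_mul]
    exact congrArg QuotientGroup.mk (Subtype.ext hst.symm)
  have hX1 : X ≠ 1 := by
    intro e
    rw [hX, QuotientGroup.eq_one_iff] at e
    obtain ⟨c, hc⟩ := (mem_scalars_iff _).1 (Subgroup.mem_subgroupOf.1 e)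
    replace hc : (x : Matrix (Fin 3) (Fin 3) F) = (c : F) • 1 := hc
    have hsq : (c : F) * c = 1 := by
      have := congrArg (fun M : Matrix (Fin 3) (Fin 3) F => M 0 0) (congrArg Units.val hx2)
      simpa [hc] using this
    have hc1 : (c : F) = 1 := by
      have hz : ((c : F) - 1) * ((c : F) - 1) = 0 := by linear_combination hsq - ((c : F) - 1) * h2
      exact sub_eq_zero.1 (mul_self_eq_zero.1 hz)
    refine hT.ne_one hx (Units.ext ?_)
    rw [hc, hc1, one_smul, Units.val_one]
  have hA4 : orderOf A = 4 := by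
    refine orderOf_eq_prime_pow (p := 2) (n := 1) (by rw [pow_one, pow_two, ← hXA]; exact hX1) ?_
    rw [show 2 ^ (1 + 1) = 2 * 2 from rfl, pow_mul, pow_two A, ← hXA, pow_two, hX, ← QuotientGroup.mk_mul]
    rw [show (⟨x, hxP⟩ : P) * ⟨x, hxP⟩ = 1 from Subtype.ext hx2]
    rfl
  have hB2 : B * B = 1 := by
    rw [hB, ← QuotientGroup.mk_mul, show (⟨s, hs⟩ : P) * ⟨s, hs⟩ = 1 from Subtype.ext hs2]
    rfl
  have hBA : B * A * B = A⁻¹ := by
    rw [hB, hA, ← QuotientGroup.mk_mul, ← QuotientGroup.mk_mul, ← QuotientGroup.mk_inv]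
    refine congrArg QuotientGroup.mk (Subtype.ext ?_)
    show s * (s * t) * s = (s * t)⁻¹
    rw [← mul_assoc, hs2, one_mul]
    refine (inv_eq_of_mul_eq_one_right ?_).symm
    calc s * t * (t * s) = s * (t * t) * s := by group
      _ = 1 := by rw [ht2, mul_one, hs2]
  have hBnot : B ∉ Subgroup.zpowers A := by
    intro hb
    obtain ⟨n, hn⟩ := Subgroup.mem_zpowers_iff.1 hb
    have hcomm : B * A = A * B := by rw [← hn]; exact ((Commute.refl A).zpow_left n).eq
    have : A = A⁻¹ := by
      calc A = A * (B * B) := by rw [hB2, mul_one]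
        _ = B * A * B := by rw [← mul_assoc, hcomm]
        _ = A⁻¹ := hBA
    exact hX1 (by rw [hXA]; nth_rewrite 2 [this]; exact mul_inv_cancel A)
  obtain ⟨e₀⟩ := dihedral_of_gens hB2 hA4 hBA hBnot
  have hcent : Subgroup.centralizer ({X} : Set (P ⧸ S)) = Subgroup.closure {B, A} := by
    refine le_antisymm (fun g hg => ?_) ((Subgroup.closure_le _).2 ?_)
    · obtain ⟨⟨g, hgP⟩, rfl⟩ := QuotientGroup.mk_surjective g
      have hcomm : (QuotientGroup.mk (⟨g, hgP⟩ * ⟨x, hxP⟩ * ⟨g, hgP⟩⁻¹ * ⟨x, hxP⟩⁻¹) : P ⧸ S) = 1 := by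
        simp only [QuotientGroup.mk_mul, QuotientGroup.mk_inv]
        rw [Subgroup.mem_centralizer_singleton_iff.1 hg, ← hX, mul_inv_cancel_right, mul_inv_cancel]
      obtain ⟨z, hz, k, hk, rfl⟩ := hC g hgP
        (Subgroup.mem_subgroupOf.1 ((QuotientGroup.eq_one_iff _).1 hcomm))
      have hkP : k ∈ P := (Subgroup.closure_le P).2 (by rintro y (rfl | rfl) <;> assumption) hk
      have hzP : z ∈ P := by simpa using mul_mem hgP (inv_mem hkP)
      rw [show (⟨z * k, hgP⟩ : P) = ⟨z, hzP⟩ * ⟨k, hkP⟩ from rfl, QuotientGroup.mk_mul,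
        show (QuotientGroup.mk ⟨z, hzP⟩ : P ⧸ S) = 1 from
          (QuotientGroup.eq_one_iff _).2 (Subgroup.mem_subgroupOf.2 hz), one_mul]
      have key : ∀ k ∈ Subgroup.closure {s, t}, ∀ hk : k ∈ P,
          (QuotientGroup.mk ⟨k, hk⟩ : P ⧸ S) ∈ Subgroup.closure {B, A} := by
        intro k hk
        have hsub : Subgroup.closure {s, t} ≤
            ((Subgroup.closure {B, A}).comap (QuotientGroup.mk' S)).map P.subtype := by
          rw [Subgroup.closure_le]
          have hB' : B ∈ Subgroup.closure {B, A} := Subgroup.subset_closure (by simp)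
          have hA' : A ∈ Subgroup.closure {B, A} := Subgroup.subset_closure (by simp)
          rintro y (rfl | rfl)
          · exact ⟨⟨y, hs⟩, hB', rfl⟩
          · refine ⟨⟨y, ht⟩, ?_, rfl⟩
            rw [SetLike.mem_coe, Subgroup.mem_comap, QuotientGroup.mk'_apply]
            have e : (QuotientGroup.mk ⟨y, ht⟩ : P ⧸ S) = B * A := by
              rw [hB, hA, ← QuotientGroup.mk_mul]
              refine congrArg QuotientGroup.mk (Subtype.ext ?_)
              show y = s * (s * y)
              rw [← mul_assoc, hs2, one_mul]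
            rw [e]
            exact mul_mem hB' hA'
        intro hk'
        obtain ⟨y, hy, e⟩ := hsub hk
        rw [show (⟨k, hk'⟩ : P) = y from Subtype.ext e.symm]
        exact hy
      exact key k hk hkP
    · rintro y (rfl | rfl) <;> rw [SetLike.mem_coe, Subgroup.mem_centralizer_singleton_iff, hXA]
      · have hi : B * A = A⁻¹ * B := by rw [← hBA, mul_assoc, hB2, mul_one]
        have hA22 : A⁻¹ * A⁻¹ = A * A := by
          rw [← _root_.mul_inv_rev]
          refine inv_eq_of_mul_eq_one_right ?_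
          rw [← hXA, hX, ← QuotientGroup.mk_mul, show (⟨x, hxP⟩ : P) * ⟨x, hxP⟩ = 1 from Subtype.ext hx2]
          rfl
        calc B * (A * A) = B * A * A := (mul_assoc B A A).symm
          _ = A⁻¹ * B * A := by rw [hi]
          _ = A⁻¹ * (B * A) := mul_assoc _ _ _
          _ = A⁻¹ * (A⁻¹ * B) := by rw [hi]
          _ = A * A * B := by rw [← mul_assoc, hA22]
      · group
  have hX2 : orderOf X = 2 := orderOf_eq_prime (by
    rw [pow_two, hX, ← QuotientGroup.mk_mul, show (⟨x, hxP⟩ : P) * ⟨x, hxP⟩ = 1 from Subtype.ext hx2]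
    rfl) hX1
  have hsym : ∀ n, 3 ≤ n → ¬ Nonempty ((P ⧸ S) ≃* Equiv.Perm (Fin n)) := by
    rintro n hn ⟨e⟩
    obtain ⟨y, hy⟩ : ∃ y, Equiv.Perm.sign (e y) ≠ 1 := ⟨e.symm (Equiv.swap ⟨0, by omega⟩ ⟨1, by omega⟩), by
      rw [e.apply_symm_apply, Equiv.Perm.sign_swap (by simp)]; decide⟩
    let ψ : (P ⧸ S) →* ℤˣ := Equiv.Perm.sign.comp e.toMonoidHom
    rcases (ψ.normal_ker).eq_bot_or_eq_top with hb | ht'
    · refine h.nonabelian ⟨⟨fun a b => ?_⟩⟩
      refine (MonoidHom.ker_eq_bot_iff ψ).1 hb ?_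
      rw [map_mul, map_mul, mul_comm]
    · exact hy (MonoidHom.mem_ker.1 (ht' ▸ Subgroup.mem_top y : y ∈ ψ.ker))
  rcases Cfsg.Agent.S3035.result X hX2 (hcent ▸ ⟨e₀⟩) with hc | hc | hc | ⟨⟨e⟩⟩ | hc
  · exfalso
    rcases (inferInstance : (oddCore (P ⧸ S)).Normal).eq_bot_or_eq_top with ho | ho
    · rw [ho, sup_bot_eq] at hc
      have hXc : X ∈ Subgroup.center (P ⧸ S) := Subgroup.mem_center_iff.2 fun g =>
        Subgroup.mem_centralizer_singleton_iff.1 (hc ▸ Subgroup.mem_top g)
      rcases (inferInstance : (Subgroup.center (P ⧸ S)).Normal).eq_bot_or_eq_top with hz | hz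
      · exact hX1 (Subgroup.mem_bot.1 (hz ▸ hXc))
      · exact h.nonabelian ⟨⟨fun a b => Subgroup.mem_center_iff.1 (hz ▸ Subgroup.mem_top b) a⟩⟩
    · have h1 := Fusion.mem_pPrimeCore_orderOf (show X ∈ oddCore (P ⧸ S) from ho ▸ Subgroup.mem_top X)
      rw [hX2] at h1
      exact absurd h1 (by decide)
  · exact absurd hc (hsym 4 (by norm_num))
  · exact absurd hc (hsym 5 (by norm_num))
  · have h168 : Nat.card (Matrix.SpecialLinearGroup (Fin 3) (ZMod 2)) = 168 := by
      have := Local.FS.PSL3Simple.card_SL3 (F := ZMod 2)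
      rw [ZMod.card] at this
      norm_num at this
      rw [Nat.card_eq_fintype_card]; exact this
    have hQ : Nat.card (P ⧸ S) = 168 := (Nat.card_congr e.toEquiv).trans h168
    rcases fields_168 h hQ 2 with hτ | hf | ⟨hcF, -⟩ | ⟨-, hm, -⟩
    · exact Or.inr (Or.inl hτ)
    · exact absurd h2 (h.quadratic_of_form hf).1
    · refine Or.inl (Subgroup.eq_of_le_of_card_ge h.le_sl ?_)
      have hSL : Nat.card (Matrix.SpecialLinearGroup (Fin 3) F) = 168 := by
        have := Local.FS.PSL3Simple.card_SL3 (F := F)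
        rw [hcF] at this
        norm_num at this
        rw [Nat.card_eq_fintype_card]; exact this
      refine le_trans (le_trans ?_ (hSL.trans hQ.symm).le) (Nat.le_of_dvd Nat.card_pos (Subgroup.card_quotient_dvd_card S))
      haveI : Finite (Matrix.SpecialLinearGroup (Fin 3) F) := Subtype.finite
      refine Nat.card_le_card_of_injective (fun g : specialLinear (Fin 3) F =>
        (⟨((g : GL (Fin 3) F) : Matrix (Fin 3) (Fin 3) F), det_one le_rfl g.2⟩ :
          Matrix.SpecialLinearGroup (Fin 3) F)) fun a b hab => ?_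
      exact Subtype.ext (Units.ext (congrArg Subtype.val hab))
    · omega
  · rcases fields_a6 h hc 2 with hτ | hf | ⟨-, hm⟩ | ⟨hcF, -, -⟩ | ⟨-, hm, -⟩
    · exact Or.inr (Or.inl hτ)
    · exact absurd h2 (h.quadratic_of_form hf).1
    · omega
    · exact Or.inr (Or.inr ⟨hc, by rw [hcF]; norm_num⟩)
    · omega

end TEven

end Cfsg.Agent.PThree
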