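import Cfsg.Agent.Lib.Classical.PThree.TEven.Thin

/-!
# A transvection of both types: the dihedral centraliser
-/

set_option autoImplicit false
set_option linter.unusedSectionVars false
set_option linter.style.haveILetI false

namespace Cfsg.Agent.PThree.TEven

open Matrix Cfsg Cfsg.Geo
open scoped MatrixGroups

variable {F : Type*} [Field F] [Fintype F]

local notation "G3" => GL (Fin 3) F
local notation "M3" => Matrix (Fin 3) (Fin 3) F
local notation "V3" => (Fin 3 → F)

variable {P : Subgroup (GL (Fin 3) F)}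

theorem sq_one_of_tv (h2 : (2 : F) = 0) {v φ : V3} {g : G3} (e : (g : M3) = tv v φ) (ho : φ ⬝ᵥ v = 0) :
    g * g = 1 := by
  conv_lhs => arg 1; rw [← inv_eq_self h2 e ho]
  exact inv_mul_cancel g

/-- The centraliser in the standard frame. -/
theorem frame_cent (hG : Gen P) (hT : Thin P) {x s t g : G3}
    (ex : (x : M3) = tv ![1, 0, 0] ![0, 0, 1]) (es : (s : M3) = tv ![1, 0, 0] ![0, 1, 0])
    (et : (t : M3) = tv ![0, 1, 0] ![0, 0, 1]) (hx : x ∈ P) (hs : s ∈ P) (ht : t ∈ P)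
    (hxm : x ∈ Subgroup.closure {s, t}) (hg : g ∈ P) (hgx : g * x * g⁻¹ = x) :
    ∃ z ∈ scalars (Fin 3) F, ∃ k ∈ Subgroup.closure {s, t}, g = z * k := by
  have h2 := hG.two
  have hP := hG.le_sl
  haveI : CharP F 2 := CharTwo.of_one_ne_zero_of_two_eq_zero one_ne_zero h2
  have hTx : Tv P ![1, 0, 0] ![0, 0, 1] := ⟨by simp, by simp, x, hx, ex⟩
  have hTs : Tv P ![1, 0, 0] ![0, 1, 0] := ⟨by simp, by simp, s, hs, es⟩
  have hTt : Tv P ![0, 1, 0] ![0, 0, 1] := ⟨by simp, by simp, t, ht, et⟩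
  have h01 : ∀ k b : F, Mem P ![1, 0, 0] ![0, k, b] → (k = 0 ∨ k = 1) ∧ (b = 0 ∨ b = 1) := by
    intro k b h
    have hk : k = 0 ∨ k = 1 := by
      have hm := h.conjTv h2 hP hTt.2.2
      rw [show ((![0, 0, 1] : V3) ⬝ᵥ ![1, 0, 0]) = 0 by simp [dotProduct, Fin.sum_univ_three], zero_smul,
        add_zero, show ((![0, k, b] : V3) ⬝ᵥ ![0, 1, 0]) = k by simp [dotProduct, Fin.sum_univ_three]] at hm
      have hz := hm.add hP h
      rw [add_right_comm, add_self h2, zero_add] at hz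
      exact hT.eq01 hTx hz
    refine ⟨hk, hT.eq01 hTx ?_⟩
    have hk' : Mem P ![1, 0, 0] (k • ![0, 1, 0]) := by
      rcases hk with rfl | rfl
      · rw [zero_smul]; exact mem_zero P _
      · rw [one_smul]; exact hTs.2.2
    convert hk'.add hP h using 1
    funext i; fin_cases i <;> simp [CharTwo.add_self_eq_zero]
  -- the eigenvalue
  have e : tv ((g : M3) *ᵥ ![1, 0, 0]) ((![0, 0, 1] : V3) ᵥ* ((g⁻¹ : G3) : M3)) = tv ![1, 0, 0] ![0, 0, 1] := by
    conv_rhs => rw [← ex, ← hgx]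
    rw [Units.val_mul, Units.val_mul, ex, tv, tv, mul_add, mul_one, add_mul, Units.mul_inv, mul_vecMulVec,
      vecMulVec_mul]
  obtain ⟨l, hl, e0, e1⟩ := tv_inj hTx.1 hTx.2.1 e.symm
  have r2 : (![0, 0, 1] : V3) ᵥ* (g : M3) = l • ![0, 0, 1] := by
    conv_lhs => rw [e1]
    rw [smul_vecMul, vecMul_vecMul, Units.inv_mul, vecMul_one]
  -- the image of the second axis
  set θ := l • ((![0, 1, 0] : V3) ᵥ* ((g⁻¹ : G3) : M3)) with hθd
  have hθ : Mem P ![1, 0, 0] θ := by
    have h := hTs.2.2.conj hg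
    rwa [e0, mem_smul_iff] at h
  have hθg : θ ᵥ* (g : M3) = l • ![0, 1, 0] := by
    rw [hθd, smul_vecMul, vecMul_vecMul, Units.inv_mul, vecMul_one]
  have hθ0 : θ 0 = 0 := by
    have := hθ.orth hP
    simpa [dotProduct, Fin.sum_univ_three] using this
  obtain ⟨hk, hb⟩ := h01 (θ 1) (θ 2) (by convert hθ using 1; funext i; fin_cases i <;> simp [hθ0])
  have q2 := congrFun r2
  have q0 := congrFun e0
  have qθ := congrFun hθg
  simp [mulVec, vecMul, dotProduct, Fin.sum_univ_three, hθ0] at q0 q2 qθ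
  have g00 : (g : M3) 0 0 = l := by simpa using q0 0
  have g10 : (g : M3) 1 0 = 0 := by simpa using q0 1
  have g20 : (g : M3) 2 0 = 0 := by simpa using q0 2
  have g21 : (g : M3) 2 1 = 0 := by simpa using q2 1
  have g22 : (g : M3) 2 2 = l := by simpa using q2 2
  have k1 : θ 1 = 1 := hk.resolve_left fun e' => hl (by
    have := qθ 1
    simp [e', g21] at this
    exact this.symm)
  have g11 : (g : M3) 1 1 = l := by
    have := qθ 1
    simpa [k1, g21] using this
  have g12 : (g : M3) 1 2 = θ 2 * l := by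
    have := qθ 2
    simp [k1, g22] at this
    linear_combination this - θ 2 * l * h2
  -- the image of the second centre
  have hw : (g : M3) 0 1 = 0 ∨ (g : M3) 0 1 = l := by
    have h := hTt.2.2.conj hg
    have ev : ((g : M3) *ᵥ ![0, 1, 0]) = l • ![(g : M3) 0 1 / l, 1, 0] := by
      funext i
      fin_cases i <;> simp [mulVec, dotProduct, Fin.sum_univ_three, g11, g21]
      field_simp
    rw [ev, mem_smul_iff, ← e1] at h
    have h' := h.addLeft hP hTt.2.2
    have e'' : (![(g : M3) 0 1 / l, 1, 0] : V3) + ![0, 1, 0] = ((g : M3) 0 1 / l) • ![1, 0, 0] := by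
      funext i; fin_cases i <;> simp [CharTwo.add_self_eq_zero]
    rw [e'', mem_smul_iff] at h'
    rcases hT.eq01 hTx h' with e' | e'
    · left; exact (div_eq_zero_iff.1 e').resolve_right hl
    · right; exact (div_eq_one_iff_eq hl).1 e'
  have hform : (g : M3) = !![l, (g : M3) 0 1, (g : M3) 0 2; 0, l, θ 2 * l; 0, 0, l] := by
    ext i j; fin_cases i <;> fin_cases j <;> simp [g00, g10, g20, g11, g12, g21, g22]
  have hl3 : l ^ 3 = 1 := by
    have := det_one hP hg
    rw [hform] at this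
    simp [det_fin_three] at this
    linear_combination this
  set z := g ^ 4
  have hz4 : (z : M3) = l • (1 : M3) := by
    simp only [z]
    rw [show (4 : ℕ) = 2 * 2 from rfl, pow_mul, Units.val_pow_eq_pow_val, Units.val_pow_eq_pow_val, hform]
    ext i j
    fin_cases i <;> fin_cases j <;> simp [sq, Matrix.mul_apply, Fin.sum_univ_three] <;>
      first
        | linear_combination l * hl3
        | (ring_nf; simp [show (4 : F) = 0 by linear_combination 2 * h2, show (6 : F) = 0 by linear_combination 3 * h2])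
  set u := z⁻¹ * g with hud
  set a := (g : M3) 0 1 / l
  set c := (g : M3) 0 2 / l
  have eu : (u : M3) = !![1, a, c; 0, 1, θ 2; 0, 0, 1] := by
    refine z.isUnit.mul_left_cancel ?_
    rw [← Units.val_mul, hud, mul_inv_cancel_left, hz4, hform, smul_mul, Matrix.one_mul]
    ext i j
    fin_cases i <;> fin_cases j <;> simp [a, c] <;> field_simp
  have huP : u ∈ P := mul_mem (inv_mem (pow_mem hg 4)) hg
  have hcs : s ∈ Subgroup.closure {s, t} := Subgroup.subset_closure (by simp)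
  have hct : t ∈ Subgroup.closure {s, t} := Subgroup.subset_closure (by simp)
  obtain ⟨ks, hks, hksP, eks⟩ : ∃ ks ∈ Subgroup.closure {s, t}, ks ∈ P ∧
      (ks : M3) = !![1, a, 0; 0, 1, 0; 0, 0, 1] := by
    rcases hw with e' | e'
    · exact ⟨1, one_mem _, one_mem _, by ext i j; fin_cases i <;> fin_cases j <;> simp [a, e']⟩
    · refine ⟨s, hcs, hs, ?_⟩
      rw [es]
      ext i j; fin_cases i <;> fin_cases j <;> simp [tv, vecMulVec, a, e', div_self hl]
  obtain ⟨kt, hkt, hktP, ekt⟩ : ∃ kt ∈ Subgroup.closure {s, t}, kt ∈ P ∧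
      (kt : M3) = !![1, 0, 0; 0, 1, θ 2; 0, 0, 1] := by
    rcases hb with e' | e'
    · exact ⟨1, one_mem _, one_mem _, by ext i j; fin_cases i <;> fin_cases j <;> simp [e']⟩
    · refine ⟨t, hct, ht, ?_⟩
      rw [et]
      ext i j; fin_cases i <;> fin_cases j <;> simp [tv, vecMulVec, e']
  have hm : ((u * ks * kt : G3) : M3) = tv ![1, 0, 0] ![0, 0, c] := by
    rw [Units.val_mul, Units.val_mul, eu, eks, ekt]
    ext i j
    fin_cases i <;> fin_cases j <;> simp [tv, vecMulVec, Matrix.mul_apply, Fin.sum_univ_three] <;>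
      first | linear_combination a * h2 | linear_combination (θ 2) * h2 | linear_combination (a * θ 2) * h2 | simp [CharTwo.add_self_eq_zero] | ring1
  obtain ⟨-, hc⟩ := h01 0 c ⟨u * ks * kt, mul_mem (mul_mem huP hksP) hktP, hm⟩
  have hd : u * ks * kt ∈ Subgroup.closure {s, t} := by
    rcases hc with e' | e'
    · rw [show u * ks * kt = 1 from Units.ext (by rw [hm, e', tv]; ext i j; fin_cases i <;> fin_cases j <;> simp)]
      exact one_mem _
    · rw [show u * ks * kt = x from Units.ext (by rw [hm, e', ex])]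
      exact hxm
  refine ⟨z, (mem_scalars_iff z).2 ⟨Units.mk0 l hl, hz4⟩, u, ?_, by rw [hud, mul_inv_cancel_left]⟩
  have := mul_mem (mul_mem hd (inv_mem hkt)) (inv_mem hks)
  simpa [mul_assoc] using this

/-- A transvection of both types: the data of a dihedral centraliser. -/
theorem dih_data (hG : Gen P) (hT : Thin P) {x : G3} (hc : SC P x) (ha : SA P x) :
    ∃ v φ s t, Tv P v φ ∧ (x : M3) = tv v φ ∧ s ∈ P ∧ t ∈ P ∧ s * s = 1 ∧ t * t = 1 ∧ (s * t) * (s * t) = x ∧
      ∀ g ∈ P, g * x * g⁻¹ * x⁻¹ ∈ scalars (Fin 3) F →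
        ∃ z ∈ scalars (Fin 3) F, ∃ k ∈ Subgroup.closure {s, t}, g = z * k := by
  have h2 := hG.two
  have hP := hG.le_sl
  obtain ⟨v, φ, φ', ex, h1, h1', hφ'⟩ := hc
  obtain ⟨v₁, φ₁, v₁', ex', -, h3, hv₁⟩ := ha
  obtain ⟨l, hl, rfl, eφ⟩ := tv_inj h1.1 h1.2.1 (ex.symm.trans ex')
  -- the second centre on the axis
  set v' := l⁻¹ • v₁' with hv'd
  have h3' : Tv P v' φ := by
    refine tv_smul_left.2 ⟨inv_ne_zero hl, ?_⟩
    rwa [eφ, smul_smul, inv_mul_cancel₀ hl, one_smul]
  have hv' : v' ≠ v := fun e => hv₁ (by rw [← e, hv'd, smul_smul, mul_inv_cancel₀ hl, one_smul])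
  have hind : ∀ r : F, v' ≠ r • v := fun r e => by
    have := h3'.2.2
    rw [e, mem_smul_iff] at this
    rcases hT.eq01 h1 this with e' | e'
    · exact h3'.1 (by rw [e, e', zero_smul])
    · exact hv' (by rw [e, e', one_smul])
  have hindφ : ∀ r : F, φ' ≠ r • φ := fun r e => by
    have := h1'.2.2
    rw [e] at this
    rcases hT.eq01 h1 this with e' | e'
    · exact h1'.2.1 (by rw [e, e', zero_smul])
    · exact hφ' (by rw [e, e', one_smul])
  have o1 := h1.2.2.orth hP
  have o2 := h1'.2.2.orth hP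
  have o3 := h3'.2.2.orth hP
  have ha0 : φ' ⬝ᵥ v' ≠ 0 := fun e => by
    obtain ⟨r, hr⟩ := axes_par h1.1 hind h1.2.1 e o2 o3 o1
    exact hindφ r hr
  have ha1 : φ' ⬝ᵥ v' = 1 := by
    have hm := h3'.2.2.conjTv h2 hP h1'.2.2
    rw [o1, zero_smul, add_zero] at hm
    have hz := hm.addLeft hP h3'.2.2
    rw [add_right_comm, add_self h2, zero_add, mem_smul_iff] at hz
    exact (hT.eq01 h1 hz).resolve_left ha0
  obtain ⟨s, hs, es⟩ := h1'.2.2
  obtain ⟨t, ht, et⟩ := h3'.2.2
  have hs2 := sq_one_of_tv h2 es o2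
  have ht2 := sq_one_of_tv h2 et o3
  have hst : (s * t) * (s * t) = x := by
    have hsi : s⁻¹ = s := inv_eq_of_mul_eq_one_right hs2
    rw [show (s * t) * (s * t) = (s * t * s⁻¹) * t by rw [hsi]; group]
    have e : ((s * t * s⁻¹ : G3) : M3) = tv (v' + v) φ := by
      rw [Units.val_mul, Units.val_mul, et, tv, tv, mul_add, mul_one, add_mul, Units.mul_inv, mul_vecMulVec,
        vecMulVec_mul, hsi, es, tv_mulVec, vecMul_tv, ha1, one_smul, o1, zero_smul, add_zero]
    refine Units.ext ?_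
    rw [Units.val_mul, e, et, ex, tv_mul, o3, zero_smul, add_zero, tv, add_assoc, ← add_vecMulVec, add_right_comm,
      add_self h2, zero_add]
  refine ⟨v, φ, s, t, h1, ex, hs, ht, hs2, ht2, hst, fun g hg hgs => ?_⟩
  have hxP : x ∈ P := hst ▸ mul_mem (mul_mem hs ht) (mul_mem hs ht)
  have hx2 := sq_one_of_tv h2 ex o1
  -- the scalar is trivial
  have hgx : g * x * g⁻¹ = x := by
    set z := g * x * g⁻¹ * x⁻¹ with hzd
    have hzP : z ∈ P := mul_mem (mul_mem (mul_mem hg hxP) (inv_mem hg)) (inv_mem hxP)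
    have hcube : z ^ 3 = 1 := by
      obtain ⟨c, hc⟩ := (mem_scalars_iff z).1 hgs
      have hd := det_one hP hzP
      rw [hc, det_smul, Matrix.det_one, mul_one, Fintype.card_fin] at hd
      refine Units.ext ?_
      rw [Units.val_pow_eq_pow_val, hc, smul_pow, one_pow, hd, one_smul, Units.val_one]
    have e : g * x * g⁻¹ = z * x := by rw [hzd]; group
    have hsq : z * z = 1 := by
      have h' : (g * x * g⁻¹) * (g * x * g⁻¹) = 1 := by
        calc _ = g * (x * x) * g⁻¹ := by group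
          _ = 1 := by rw [hx2]; group
      rw [e] at h'
      calc z * z = z * z * (x * x) := by rw [hx2, mul_one]
        _ = z * (z * x) * x := by group
        _ = z * (x * z) * x := by rw [Cfsg.Agent.Classical.scalars_commute hgs x]
        _ = z * x * (z * x) := by group
        _ = 1 := h'
    have hz1 : z = 1 := by rw [← hcube, pow_succ, sq, hsq, one_mul]
    rw [e, hz1, one_mul]
  -- the frame
  obtain ⟨j, hj⟩ := Function.ne_iff.1 h1.2.1
  set u0 : V3 := Pi.single j (φ j)⁻¹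
  set u3 : V3 := u0 - (φ' ⬝ᵥ u0) • v'
  have hu0 : φ ⬝ᵥ u0 = 1 := by rw [dotProduct_single, mul_inv_cancel₀ hj]
  have hu31 : φ ⬝ᵥ u3 = 1 := by rw [dotProduct_sub, dotProduct_smul, o3, smul_zero, sub_zero, hu0]
  have hu32 : φ' ⬝ᵥ u3 = 0 := by rw [dotProduct_sub, dotProduct_smul, ha1, smul_eq_mul, mul_one, sub_self]
  set M : M3 := (Matrix.of ![v, v', u3])ᵀ
  have hMv : ∀ d : V3, M *ᵥ d = d 0 • v + d 1 • v' + d 2 • u3 := fun d => by
    funext k; simp [M, mulVec, dotProduct, Fin.sum_univ_three]; ring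
  have hMu : IsUnit M := mulVec_injective_iff_isUnit.1 (fun d d' e => by
    rw [hMv, hMv] at e
    have e2 := congrArg (φ ⬝ᵥ ·) e
    have e1 := congrArg (φ' ⬝ᵥ ·) e
    simp only [dotProduct_add, dotProduct_smul, o1, o2, o3, hu31, hu32, ha1, smul_zero, smul_eq_mul,
      mul_zero, mul_one, zero_add, add_zero] at e1 e2
    rw [e1, e2] at e
    have e0 := smul_left_injective F h1.1 (add_right_cancel (add_right_cancel e))
    funext i; fin_cases i <;> assumption)
  set B : G3 := hMu.unit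
  have hB : (B : M3) = M := rfl
  have b0 : (B : M3) *ᵥ ![1, 0, 0] = v := by rw [hB, hMv]; simp
  have b1 : (B : M3) *ᵥ ![0, 1, 0] = v' := by rw [hB, hMv]; simp
  have bφ : φ ᵥ* (B : M3) = ![0, 0, 1] := by
    funext i; rw [hB]
    fin_cases i <;> simp [M, vecMul, transpose_apply]
    exacts [o1, o3, hu31]
  have bφ' : φ' ᵥ* (B : M3) = ![0, 1, 0] := by
    funext i; rw [hB]
    fin_cases i <;> simp [M, vecMul, transpose_apply]
    exacts [o2, ha1, hu32]
  have hconj : ∀ {y : G3} {w ψ : V3} (w' ψ' : V3), (y : M3) = tv w ψ → (B : M3) *ᵥ w' = w → ψ ᵥ* (B : M3) = ψ' →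
      ((B⁻¹ * y * B : G3) : M3) = tv w' ψ' := by
    intro y w ψ w' ψ' ey ew eψ
    rw [Units.val_mul, Units.val_mul, ey, tv, tv, mul_add, mul_one, add_mul, Units.inv_mul, mul_vecMulVec,
      vecMulVec_mul, eψ, ← ew, mulVec_mulVec, Units.inv_mul, one_mulVec]
  have hmem : ∀ {y : G3}, y ∈ P → B⁻¹ * y * B ∈ cj P B := fun hy => mem_cj.2 (by simpa [mul_assoc] using hy)
  have hT' : Thin (cj P B) := fun w ψ ⟨h, r, hr0, hr1, hr⟩ =>
    hT _ _ ⟨tv_cj.1 h, r, hr0, hr1, by rw [← smul_vecMul]; exact mem_cj_tv.1 hr⟩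
  set f : G3 →* G3 := (MulAut.conj B⁻¹).toMonoidHom
  have hf : ∀ y, f y = B⁻¹ * y * B := fun y => by simp [f]
  have hcl : Subgroup.closure {B⁻¹ * s * B, B⁻¹ * t * B} = (Subgroup.closure {s, t}).map f := by
    rw [MonoidHom.map_closure, Set.image_pair, hf, hf]
  have hxm : B⁻¹ * x * B ∈ Subgroup.closure {B⁻¹ * s * B, B⁻¹ * t * B} := by
    rw [hcl, ← hf]
    refine Subgroup.mem_map_of_mem f ?_
    rw [← hst]
    exact mul_mem (mul_mem (Subgroup.subset_closure (by simp)) (Subgroup.subset_closure (by simp)))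
      (mul_mem (Subgroup.subset_closure (by simp)) (Subgroup.subset_closure (by simp)))
  obtain ⟨z, hz, k, hk, e⟩ := frame_cent (hG.cj' B) hT' (hconj _ _ ex b0 bφ) (hconj _ _ es b0 bφ')
    (hconj _ _ et b1 bφ) (hmem hxP) (hmem hs) (hmem ht) hxm (g := B⁻¹ * g * B) (hmem hg)
    (by conv_rhs => rw [← hgx]
        group)
  rw [hcl] at hk
  obtain ⟨k', hk', rfl⟩ := hk
  refine ⟨z, hz, k', hk', ?_⟩
  rw [hf] at e
  calc g = B * (B⁻¹ * g * B) * B⁻¹ := by group
    _ = B * (z * (B⁻¹ * k' * B)) * B⁻¹ := by rw [e]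
    _ = (B * z) * B⁻¹ * k' := by group
    _ = z * k' := by rw [← Cfsg.Agent.Classical.scalars_commute hz B, mul_inv_cancel_right]

end Cfsg.Agent.PThree.TEven
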