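import Cfsg.Agent.Lib.Classical.PThree.TEven.BigTwo

/-!
# One axis at every centre: a unital
-/

set_option autoImplicit false
set_option linter.unusedSectionVars false

namespace Cfsg.Agent.PThree.TEven

open Matrix Cfsg Cfsg.Geo
open scoped MatrixGroups

variable {F : Type*} [Field F] [Fintype F]

local notation "G3" => GL (Fin 3) F
local notation "M3" => Matrix (Fin 3) (Fin 3) F
local notation "V3" => (Fin 3 → F)

/-- The transvections form a unital over `K`: each centre has one axis, two centres are opposite. -/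
structure Uni (P : Subgroup G3) (K : Subfield F) : Prop where
  four : ∃ k ∈ K, k ≠ 0 ∧ k ≠ 1
  exact' : ∀ {v φ : V3}, Tv P v φ → ∀ s : F, Mem P v (s • φ) ↔ s ∈ K
  axis : ∀ {v φ φ' : V3}, Tv P v φ → Mem P v φ' → ∃ s ∈ K, φ' = s • φ
  opp : ∀ {v φ w ψ : V3}, Tv P v φ → Tv P w ψ → (∀ s : F, w ≠ s • v) →
    φ ⬝ᵥ w ≠ 0 ∧ ψ ⬝ᵥ v ≠ 0 ∧ (φ ⬝ᵥ w) * (ψ ⬝ᵥ v) ∈ K

variable {P : Subgroup (GL (Fin 3) F)}

theorem Big.ofSmul {v φ : V3} {s : F} (h : Big P (s • v) φ) : Big P v (s • φ) := by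
  obtain ⟨⟨hv, hφ, hm⟩, t, ht0, ht1, ht⟩ := h
  have hs : s ≠ 0 := fun e => hv (by rw [e, zero_smul])
  refine ⟨⟨fun e => hv (by rw [e, smul_zero]), smul_ne_zero hs hφ, mem_smul_iff.1 hm⟩, t, ht0, ht1, ?_⟩
  rw [smul_comm]
  exact mem_smul_iff.1 ht

theorem big_dual (hG : Gen P) {v φ : V3} (h : Big P v φ) : Big (dual P) φ v := by
  obtain ⟨hT, s, hs0, hs1, hs⟩ := h
  exact ⟨hG.tv_dual.2 hT, s, hs0, hs1, hG.mem_dual.2 (mem_smul_iff.2 hs)⟩

/-- Opposition and the field of one big root group. -/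
theorem big_facts (hG : Gen P) (hA : ¬ BigA P) (hA' : ¬ BigA (dual P)) {v φ : V3} (h : Big P v φ) :
    ∃ K : Subfield F, (∃ k ∈ K, k ≠ 0 ∧ k ≠ 1) ∧
      (∀ φ', Mem P v φ' → ∃ s ∈ K, φ' = s • φ) ∧ (∀ s, Mem P v (s • φ) ↔ s ∈ K) ∧
      ∀ w ψ, Tv P w ψ → (∀ s : F, w ≠ s • v) →
        φ ⬝ᵥ w ≠ 0 ∧ ψ ⬝ᵥ v ≠ 0 ∧ (φ ⬝ᵥ w) * (ψ ⬝ᵥ v) ∈ K := by
  obtain ⟨⟨hv, hφ, hm⟩, s₀, hs0, hs1, hsm⟩ := h
  have hP := hG.le_sl
  have line : ∀ φ', Mem P v φ' → ∃ s : F, φ' = s • φ := fun φ' h' => by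
    by_contra hno
    push Not at hno
    exact hA ⟨v, φ, φ', ⟨⟨hv, hφ, hm⟩, s₀, hs0, hs1, hsm⟩, h', hno⟩
  have dline : ∀ u, Mem P u φ → ∃ s : F, u = s • v := fun u h' => by
    by_contra hno
    push Not at hno
    exact hA' ⟨φ, v, u, big_dual hG ⟨⟨hv, hφ, hm⟩, s₀, hs0, hs1, hsm⟩, hG.mem_dual.2 h', hno⟩
  have hopp : ∀ w ψ, Tv P w ψ → (∀ s : F, w ≠ s • v) → φ ⬝ᵥ w ≠ 0 ∧ ψ ⬝ᵥ v ≠ 0 := by
    intro w ψ hT hne
    by_cases hc : ψ ⬝ᵥ v = 0
    · exfalso
      by_cases ha : φ ⬝ᵥ w = 0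
      · obtain ⟨s, hs⟩ := axes_par hv hne hφ (hT.2.2.orth hP) hc ha (hm.orth hP)
        have hs' : s ≠ 0 := fun e => hT.2.1 (by rw [hs, e, zero_smul])
        have := hT.2.2
        rw [hs, ← mem_smul_iff] at this
        obtain ⟨t, ht⟩ := dline _ this
        exact hne (t / s) (by rw [← inv_smul_smul₀ hs' w, ht, smul_smul, mul_comm, div_eq_mul_inv])
      · have := hm.conjTv hG.two hP hT.2.2
        rw [hc, zero_smul, add_zero] at this
        obtain ⟨t, ht⟩ := line _ this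
        have e : (φ ⬝ᵥ w) • ψ = (t - 1) • φ := by
          rw [sub_smul, one_smul, ← ht, add_sub_cancel_left]
        have e' := congrArg (· ⬝ᵥ w) e
        simp only [smul_dotProduct, hT.2.2.orth hP, smul_eq_mul, mul_zero, zero_eq_mul] at e'
        rw [(e'.resolve_right ha), zero_smul] at e
        exact smul_ne_zero ha hT.2.1 e
    · refine ⟨fun ha => ?_, hc⟩
      have := hm.conjTv hG.two hP hT.2.2
      rw [ha, zero_smul, add_zero] at this
      obtain ⟨t, ht⟩ := dline _ this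
      exact hne ((t - 1) / (ψ ⬝ᵥ v)) (by
        rw [← inv_smul_smul₀ hc w, show (ψ ⬝ᵥ v) • w = (t - 1) • v by rw [sub_smul, one_smul, ← ht, add_sub_cancel_left],
          smul_smul, mul_comm, div_eq_mul_inv])
  -- the field, from any opposite transvection
  obtain ⟨w₀, ψ₀, hT₀, h₀⟩ := hG.moves v hv
  have hne₀ : ∀ s : F, w₀ ≠ s • v := fun s e => h₀ (by
    have hs : s ≠ 0 := fun e' => hT₀.1 (by rw [e, e', zero_smul])
    have := hT₀.2.2.orth hP
    rw [e, dotProduct_smul, smul_eq_mul] at this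
    exact (mul_eq_zero.1 this).resolve_left hs)
  have key : ∀ w ψ, Tv P w ψ → (∀ s : F, w ≠ s • v) → ∃ K : Subfield F, (∀ s, Mem P v (s • φ) ↔ s ∈ K) ∧
      (φ ⬝ᵥ w) * (ψ ⬝ᵥ v) ∈ K ∧ ∃ k ∈ K, k ≠ 0 ∧ k ≠ 1 := by
    intro w ψ hT hne
    obtain ⟨ha, hc⟩ := hopp w ψ hT hne
    obtain ⟨K, hK⟩ := plane hG hm hT.2.2 ha hc hsm (by rw [smul_dotProduct]; exact smul_ne_zero hs0 ha)
      (fun e => hs1 (by rw [smul_dotProduct, smul_eq_mul] at e; exact (mul_eq_right₀ ha).1 e))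
    refine ⟨K, fun s => ⟨fun hs => ?_, fun hs => ?_⟩, hK.mem, hK.four⟩
    · have := hK.shift _ hs
      rwa [smul_dotProduct, smul_eq_mul, mul_div_assoc, div_self ha, mul_one] at this
    · obtain ⟨φ', hφ', e⟩ := hK.lift s hs
      obtain ⟨t, rfl⟩ := line φ' hφ'
      rw [smul_dotProduct, smul_eq_mul] at e
      rwa [mul_right_cancel₀ ha e] at hφ'
  obtain ⟨K, hK, -, h4⟩ := key w₀ ψ₀ hT₀ hne₀
  refine ⟨K, h4, fun φ' h' => ?_, hK, fun w ψ hT hne => ⟨(hopp w ψ hT hne).1, (hopp w ψ hT hne).2, ?_⟩⟩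
  · obtain ⟨t, rfl⟩ := line φ' h'
    exact ⟨t, (hK t).1 h', rfl⟩
  · obtain ⟨K', hK', hmem, -⟩ := key w ψ hT hne
    exact (hK _).1 ((hK' _).2 hmem)

theorem exists_uni (hG : Gen P) (hA : ¬ BigA P) (hA' : ¬ BigA (dual P)) (hB : ∃ v φ, Big P v φ) :
    ∃ K : Subfield F, Uni P K := by
  obtain ⟨v₀, φ₀, hb⟩ := hB
  obtain ⟨K, h4, hax, hex, hop⟩ := big_facts hG hA hA' hb
  have hP := hG.le_sl
  have all : ∀ {w ψ : V3}, Tv P w ψ → Big P w ψ ∧ ∀ s, Mem P w (s • ψ) ↔ s ∈ K := by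
    intro w ψ hT
    have hw : ∃ φ', Big P w φ' ∧ (∀ s, Mem P w (s • φ') ↔ s ∈ K) ∧
        (∀ φ'', Mem P w φ'' → ∃ s ∈ K, φ'' = s • φ') := by
      suffices h' : ∃ φ', Big P w φ' ∧ (∀ s, Mem P w (s • φ') ↔ s ∈ K) by
        obtain ⟨φ', hb', he'⟩ := h'
        obtain ⟨K', -, hax', hex', -⟩ := big_facts hG hA hA' hb'
        refine ⟨φ', hb', he', fun φ'' h'' => ?_⟩
        obtain ⟨s, hs, e⟩ := hax' _ h''
        exact ⟨s, (he' s).1 ((hex' s).2 hs), e⟩
      obtain ⟨⟨hv₀, hφ₀, hm₀⟩, k, hk0, hk1, hk⟩ := hb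
      by_cases hne : ∃ t : F, w = t • v₀
      · obtain ⟨t, rfl⟩ := hne
        have ht : t ≠ 0 := fun e => hT.1 (by rw [e, zero_smul])
        refine ⟨t⁻¹ • φ₀, ⟨⟨hT.1, smul_ne_zero (inv_ne_zero ht) hφ₀, ?_⟩, k, hk0, hk1, ?_⟩, fun s => ?_⟩ <;>
          rw [mem_smul_iff, smul_smul]
        · rwa [mul_inv_cancel₀ ht, one_smul]
        · rw [smul_smul, show t * k * t⁻¹ = k by field_simp]; exact hk
        · rw [smul_smul, show t * s * t⁻¹ = s by field_simp]; exact hex s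
      · push Not at hne
        obtain ⟨ha, hc, hac⟩ := hop w ψ hT hne
        obtain ⟨x, hx, ex⟩ : Mem P v₀ ((1 / ((φ₀ ⬝ᵥ w) * (ψ ⬝ᵥ v₀))) • φ₀) :=
          (hex _).2 (by rw [one_div]; exact inv_mem hac)
        obtain ⟨y, hy, ey⟩ := hT.2.2
        set g := x * y with hgd
        have hg : g ∈ P := mul_mem hx hy
        have egv : (g : M3) *ᵥ v₀ = (ψ ⬝ᵥ v₀) • w := by
          have e : ((1 / ((φ₀ ⬝ᵥ w) * (ψ ⬝ᵥ v₀))) • φ₀) ⬝ᵥ (v₀ + (ψ ⬝ᵥ v₀) • w) = 1 := by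
            simp only [smul_dotProduct, dotProduct_add, dotProduct_smul, hm₀.orth hP, smul_eq_mul]
            field_simp
            ring
          rw [hgd, Units.val_mul, ← mulVec_mulVec, ex, ey, tv_mulVec, tv_mulVec, e, one_smul,
            add_right_comm, add_self hG.two, zero_add]
        have key : ∀ s : F, Mem P v₀ (s • φ₀) ↔
            Mem P w (s • (ψ ⬝ᵥ v₀) • (φ₀ ᵥ* ((g⁻¹ : G3) : M3))) := fun s => by
          rw [smul_comm s, ← mem_smul_iff (s := ψ ⬝ᵥ v₀) (v := w), ← egv, ← smul_vecMul]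
          refine ⟨fun h => h.conj hg, fun h => ?_⟩
          have := h.conj (inv_mem hg)
          rwa [inv_inv, mulVec_mulVec, Units.inv_mul, one_mulVec, vecMul_vecMul, Units.inv_mul,
            vecMul_one] at this
        refine ⟨(ψ ⬝ᵥ v₀) • (φ₀ ᵥ* ((g⁻¹ : G3) : M3)), ⟨⟨hT.1, smul_ne_zero hc fun e => hφ₀ ?_, ?_⟩,
          k, hk0, hk1, (key k).1 hk⟩, fun s => (key s).symm.trans (hex s)⟩
        · rw [← vecMul_one φ₀, ← Units.inv_mul g, ← vecMul_vecMul, e, zero_vecMul]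
        · have := (key 1).1 ((hex 1).2 (one_mem K))
          rwa [one_smul] at this
    obtain ⟨φ', hb', he', hax'⟩ := hw
    obtain ⟨t, ht, rfl⟩ := hax' ψ hT.2.2
    have ht0 : t ≠ 0 := fun e => hT.2.1 (by rw [e, zero_smul])
    have hiff : ∀ s, Mem P w (s • t • φ') ↔ s ∈ K := fun s => by
      rw [smul_smul, he']
      exact ⟨fun h => by simpa [ht0] using div_mem h ht, fun h => mul_mem h ht⟩
    obtain ⟨k, hk, hk0, hk1⟩ := h4
    exact ⟨⟨hT, k, hk0, hk1, (hiff k).2 hk⟩, hiff⟩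
  refine ⟨K, h4, fun {v φ} hT => (all hT).2, fun {v φ φ'} hT h' => ?_, fun {v φ w ψ} hT hT' hne => ?_⟩
  · obtain ⟨K', -, hax', hex', -⟩ := big_facts hG hA hA' (all hT).1
    obtain ⟨s, hs, e⟩ := hax' _ h'
    exact ⟨s, ((all hT).2 s).1 ((hex' s).2 hs), e⟩
  · obtain ⟨K', -, -, hex', hop'⟩ := big_facts hG hA hA' (all hT).1
    obtain ⟨h1, h2, h3⟩ := hop' w ψ hT' hne
    exact ⟨h1, h2, ((all hT).2 _).1 ((hex' _).2 h3)⟩

/-- The sesquilinear matrix of the unital. -/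
def hM (β γ : F) : M3 := !![0, 1, 1; 1, 0, γ; 1, β, 0]

/-- The axes at the three coordinate centres. -/
def hAx (β γ : F) : M3 := !![0, 1, 1; 1, 0, β; 1, γ, 0]

/-- A unital in standard position. -/
structure UFrame (P : Subgroup G3) (K : Subfield F) (β γ : F) : Prop where
  gen : Gen P
  uni : Uni P K
  m0 : Tv P ![1, 0, 0] ![0, 1, 1]
  m1 : Tv P ![0, 1, 0] ![1, 0, β]
  m2 : Tv P ![0, 0, 1] ![1, γ, 0]

theorem exists_uframe (hG : Gen P) {K : Subfield F} (hU : Uni P K) :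
    ∃ (B : G3) (β γ : F), UFrame (cj P B) K β γ := by
  have hP := hG.le_sl
  obtain ⟨v₁, φ₁, hT₁⟩ : ∃ v φ, Tv P v φ := by
    obtain ⟨w, ψ, h, -⟩ := hG.moves ![1, 0, 0] (by simp)
    exact ⟨w, ψ, h⟩
  obtain ⟨v₂, φ₂, hT₂, h21⟩ := hG.moves v₁ hT₁.1
  have hne : ∀ s : F, v₂ ≠ s • v₁ := fun s e => h21 (by
    have hs : s ≠ 0 := fun e' => hT₂.1 (by rw [e, e', zero_smul])
    have := hT₂.2.2.orth hP
    rw [e, dotProduct_smul, smul_eq_mul] at this
    exact (mul_eq_zero.1 this).resolve_left hs)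
  obtain ⟨v₃, φ₃, hT₃, h3⟩ := hG.spans (v₂ ⨯₃ v₁) (cross_ne hT₁.1 hne)
  have hne31 : ∀ s : F, v₃ ≠ s • v₁ := fun s e => h3 (by
    rw [e, dotProduct_smul, dotProduct_comm, dot_cross_self, smul_zero])
  have hne32 : ∀ s : F, v₃ ≠ s • v₂ := fun s e => h3 (by
    rw [e, dotProduct_smul, dotProduct_comm, dot_self_cross, smul_zero])
  obtain ⟨a12, a21, p12⟩ := hU.opp hT₁ hT₂ hne
  obtain ⟨a13, a31, p13⟩ := hU.opp hT₁ hT₃ hne31
  set M : M3 := (Matrix.of ![v₁, (φ₁ ⬝ᵥ v₂)⁻¹ • v₂, (φ₁ ⬝ᵥ v₃)⁻¹ • v₃])ᵀ with hM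
  have hMv : ∀ d : V3, M *ᵥ d = d 0 • v₁ + d 1 • ((φ₁ ⬝ᵥ v₂)⁻¹ • v₂) + d 2 • ((φ₁ ⬝ᵥ v₃)⁻¹ • v₃) := fun d => by
    funext k; simp [M, mulVec, dotProduct, Fin.sum_univ_three]; ring
  have hMu : IsUnit M := Matrix.mulVec_injective_iff_isUnit.1 fun p q hpq => sub_eq_zero.1 (by
    set d := p - q
    have e : d 0 • v₁ + d 1 • ((φ₁ ⬝ᵥ v₂)⁻¹ • v₂) + d 2 • ((φ₁ ⬝ᵥ v₃)⁻¹ • v₃) = 0 := by
      rw [← hMv, mulVec_sub]; exact sub_eq_zero.2 hpq
    have e1 := congrArg ((v₂ ⨯₃ v₁) ⬝ᵥ ·) e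
    simp [dotProduct_add, dotProduct_smul, dotProduct_comm _ v₁, dotProduct_comm _ v₂, dot_cross_self,
      dot_self_cross, h3, a13] at e1
    have e2 := congrArg (φ₁ ⬝ᵥ ·) e
    simp [dotProduct_add, dotProduct_smul, hT₁.2.2.orth hP, e1, a12] at e2
    have e3 : d 0 • v₁ = 0 := by simpa [e1, e2] using e
    funext k; fin_cases k
    · exact (smul_eq_zero.1 e3).resolve_right hT₁.1
    · exact e2
    · exact e1)
  obtain ⟨B, hB⟩ := hMu
  have row : ∀ (φ : V3) k, (φ ᵥ* (B : M3)) k = φ ⬝ᵥ ((B : M3) *ᵥ Pi.single k 1) := fun φ k => by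
    rw [dotProduct_mulVec, dotProduct_single, mul_one]
  set ψ₂ := (φ₂ ⬝ᵥ v₁)⁻¹ • φ₂ with hψ₂
  set ψ₃ := (φ₃ ⬝ᵥ v₁)⁻¹ • φ₃ with hψ₃
  set β := ψ₂ ⬝ᵥ ((φ₁ ⬝ᵥ v₃)⁻¹ • v₃)
  set γ := ψ₃ ⬝ᵥ ((φ₁ ⬝ᵥ v₂)⁻¹ • v₂)
  have mk : ∀ (u φ φ' : V3), Tv P u φ → (φ ᵥ* (B : M3)) = φ' → ∀ e : V3, (B : M3) *ᵥ e = u →
      Tv (cj P B) e φ' := by
    intro u φ φ' hT e' e he
    rw [tv_cj, he, ← e', vecMul_vecMul, Units.mul_inv, vecMul_one]
    exact hT
  have t2 : Tv P ((φ₁ ⬝ᵥ v₂)⁻¹ • v₂) ψ₂ := by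
    refine ⟨smul_ne_zero (inv_ne_zero a12) hT₂.1, smul_ne_zero (inv_ne_zero a21) hT₂.2.1, ?_⟩
    rw [mem_smul_iff, hψ₂, smul_smul, ← mul_inv]
    exact (hU.exact' hT₂ _).2 (inv_mem p12)
  have t3 : Tv P ((φ₁ ⬝ᵥ v₃)⁻¹ • v₃) ψ₃ := by
    refine ⟨smul_ne_zero (inv_ne_zero a13) hT₃.1, smul_ne_zero (inv_ne_zero a31) hT₃.2.1, ?_⟩
    rw [mem_smul_iff, hψ₃, smul_smul, ← mul_inv]
    exact (hU.exact' hT₃ _).2 (inv_mem p13)
  refine ⟨B, β, γ, hG.cj' B, ⟨hU.four, ?_, ?_, ?_⟩, ?_, ?_, ?_⟩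
  · intro v φ hT s
    rw [mem_cj_tv, smul_vecMul]
    exact hU.exact' (tv_cj.1 hT) s
  · intro v φ φ' hT h'
    obtain ⟨s, hs, e⟩ := hU.axis (tv_cj.1 hT) (mem_cj_tv.1 h')
    refine ⟨s, hs, ?_⟩
    have := congrArg (· ᵥ* (B : M3)) e
    simpa only [smul_vecMul, vecMul_vecMul, Units.inv_mul, vecMul_one] using this
  · intro v φ w ψ hT hT' hne'
    have := hU.opp (tv_cj.1 hT) (tv_cj.1 hT') (fun s e => hne' s (by
      rw [← Cfsg.Agent.Classical.gl_inv_mulVec_cancel B w, e, mulVec_smul,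
        Cfsg.Agent.Classical.gl_inv_mulVec_cancel]))
    simpa only [← dotProduct_mulVec, Cfsg.Agent.Classical.gl_inv_mulVec_cancel] using this
  · refine mk v₁ φ₁ _ hT₁ ?_ _ ?_
    · funext k; rw [row, hB, hMv]
      fin_cases k <;> simp [dotProduct_smul, hT₁.2.2.orth hP, a12, a13]
    · rw [hB, hMv]; simp
  · refine mk _ ψ₂ _ t2 ?_ _ ?_
    · funext k; rw [row, hB, hMv]
      fin_cases k <;> simp [hψ₂, smul_dotProduct, dotProduct_smul, hT₂.2.2.orth hP, a21, β]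
    · rw [hB, hMv]; simp
  · refine mk _ ψ₃ _ t3 ?_ _ ?_
    · funext k; rw [row, hB, hMv]
      fin_cases k <;> simp [hψ₃, smul_dotProduct, dotProduct_smul, hT₃.2.2.orth hP, a31, γ]
    · rw [hB, hMv]; simp

theorem tv_of {v φ : V3} {i j : Fin 3} (h1 : v i ≠ 0) (h2 : φ j ≠ 0) (h : Mem P v φ) : Tv P v φ :=
  ⟨fun e => h1 (by simp [e]), fun e => h2 (by simp [e]), h⟩

/-- What the frame determines: the field, the conjugation and the shape of all transvections. -/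
structure UData (P : Subgroup G3) (K : Subfield F) (β γ : F) (τ : F ≃+* F) : Prop where
  fix : ∀ x, τ x = x ↔ x ∈ K
  conjβ : τ β = γ
  conjγ : τ γ = β
  sum_mem : β + γ ∈ K
  sum_ne : β + γ ≠ 0
  gens : ∀ w ψ, Tv P w ψ → ∃ (k c : F) (w' ψ' : V3), k ∈ K ∧ c ≠ 0 ∧ w' = c • w ∧ ψ = c • ψ' ∧
    (∀ i, τ (τ (ψ' i)) = ψ' i) ∧ hAx β γ *ᵥ w' = k • (τ ∘ ψ')

theorem UFrame.data {K : Subfield F} {β γ : F} (h : UFrame P K β γ) : ∃ τ, UData P K β γ τ := by
  classical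
  have hU := h.uni
  have hP := h.gen.le_sl
  have h2 := h.gen.two
  haveI : CharP F 2 := CharTwo.of_one_ne_zero_of_two_eq_zero one_ne_zero h2
  have o12 := hU.opp h.m1 h.m2 (fun s e => by simpa using congrFun e 2)
  simp [dotProduct, Fin.sum_univ_three] at o12
  obtain ⟨hβ0, hγ0, hn⟩ := o12
  -- the conjugates of the third centre by the first root group
  have c3 : ∀ t ∈ K, Tv P ![t, 0, 1] ![1, γ + t, t] := fun t ht => by
    have := h.m2.2.2.conjTv h2 hP ((hU.exact' h.m0 t).2 ht)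
    refine tv_of (i := 2) (j := 0) (by simp) (by simp) ?_
    convert this using 1 <;> funext i <;> fin_cases i <;> simp [dotProduct, Fin.sum_univ_three]
  have c2 : ∀ t ∈ K, Tv P ![t, 1, 0] ![1, t, β + t] := fun t ht => by
    have := h.m1.2.2.conjTv h2 hP ((hU.exact' h.m0 t).2 ht)
    refine tv_of (i := 1) (j := 0) (by simp) (by simp) ?_
    convert this using 1 <;> funext i <;> fin_cases i <;> simp [dotProduct, Fin.sum_univ_three]
  have prod : ∀ t ∈ K, β + t ≠ 0 ∧ (β + t) * (γ + t) ∈ K := fun t ht => by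
    have := hU.opp h.m1 (c3 t ht) (fun s e => by simpa using congrFun e 2)
    simp [dotProduct, Fin.sum_univ_three] at this
    rw [add_comm β t]
    exact ⟨this.1, this.2.2⟩
  have he : β + γ ∈ K := by
    have := sub_mem (sub_mem (prod 1 (one_mem K)).2 hn) (one_mem K)
    rwa [show (β + 1) * (γ + 1) - β * γ - 1 = β + γ by ring] at this
  have hβ : β ∉ K := fun hb => (prod β hb).1 (CharTwo.add_self_eq_zero β)
  have hne : β + γ ≠ 0 := fun e => by
    rw [← CharTwo.add_eq_zero.1 e, ← sq] at hn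
    haveI : CharP K 2 := CharTwo.of_one_ne_zero_of_two_eq_zero one_ne_zero (Subtype.ext h2)
    obtain ⟨r, hr⟩ := FiniteField.isSquare_of_char_two (F := K) (ringChar.eq K 2) ⟨_, hn⟩
    have hr' : β ^ 2 = (r : F) ^ 2 := by rw [sq (r : F)]; exact congrArg Subtype.val hr
    exact hβ (CharTwo.sq_inj.1 hr' ▸ r.2)
  obtain ⟨τ, hτ⟩ := exists_aut K
  -- roots of quadratics over the fixed field
  have root : ∀ z : F, z ∉ K → ∀ y : F, z + y ∈ K → z * y ∈ K → τ z = y ∧ τ y = z := by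
    intro z hz y hs hp
    have hy : τ z + τ y = z + y := by rw [← map_add]; exact (hτ _).2 hs
    have hy' : τ z * τ y = z * y := by rw [← map_mul]; exact (hτ _).2 hp
    have h0 : (τ z - z) * (τ z - y) = 0 := by linear_combination τ z * hy - hy'
    rcases mul_eq_zero.1 h0 with e | e
    · exact absurd ((hτ z).1 (sub_eq_zero.1 e)) hz
    · refine ⟨sub_eq_zero.1 e, ?_⟩
      rw [sub_eq_zero.1 e] at hy
      linear_combination hy
  obtain ⟨hτβ, hτγ⟩ := root β hβ γ he hn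
  refine ⟨τ, hτ, hτβ, hτγ, he, hne, fun w ψ hT => ?_⟩
  by_cases hw : ∃ s : F, w = s • ![1, 0, 0]
  · obtain ⟨s, rfl⟩ := hw
    have hs : s ≠ 0 := fun e => hT.1 (by rw [e, zero_smul])
    obtain ⟨k, hk, e⟩ := hU.axis h.m0 (mem_smul_iff.1 hT.2.2)
    have hk0 : k ≠ 0 := fun e0 => smul_ne_zero hs hT.2.1 (by rw [e, e0, zero_smul])
    refine ⟨k⁻¹, s⁻¹, ![1, 0, 0], k • ![0, 1, 1], inv_mem hk, inv_ne_zero hs, ?_, ?_, ?_, ?_⟩
    · rw [smul_smul, inv_mul_cancel₀ hs, one_smul]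
    · rw [← e, smul_smul, inv_mul_cancel₀ hs, one_smul]
    · intro i; fin_cases i <;> simp [(hτ k).2 hk]
    · funext i; fin_cases i <;> simp [hAx, mulVec, dotProduct, Fin.sum_univ_three, (hτ k).2 hk, hk0]
  push Not at hw
  obtain ⟨hf, hψ0, -⟩ := hU.opp h.m0 hT hw
  simp [dotProduct, Fin.sum_univ_three] at hψ0
  set c := ψ 0 with hc
  set w' := c • w
  set ψ' := c⁻¹ • ψ
  have hψ'0 : ψ' 0 = 1 := by simp [ψ', c, hψ0]
  have hT' : Tv P w' ψ' := ⟨smul_ne_zero hψ0 hT.1, smul_ne_zero (inv_ne_zero hψ0) hT.2.1, by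
    rw [mem_smul_iff, smul_smul, mul_inv_cancel₀ hψ0, one_smul]; exact hT.2.2⟩
  set f := hAx β γ *ᵥ w' with hfd
  -- products with a conjugate of a coordinate centre
  have test : ∀ {u θ : V3}, Tv P u θ →
      (ψ' ⬝ᵥ u) * (θ ⬝ᵥ w') ∈ K ∧ (ψ' ⬝ᵥ u = 0 ↔ θ ⬝ᵥ w' = 0) := by
    intro u θ hu
    by_cases hp : ∃ s : F, w' = s • u
    · obtain ⟨s, hs⟩ := hp
      have hs0 : s ≠ 0 := fun e => hT'.1 (by rw [hs, e, zero_smul])
      have e1 : θ ⬝ᵥ w' = 0 := by rw [hs, dotProduct_smul, hu.2.2.orth hP, smul_zero]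
      have e2 : ψ' ⬝ᵥ u = 0 := by
        have := hT'.2.2.orth hP
        rw [hs, dotProduct_smul, smul_eq_mul] at this
        exact (mul_eq_zero.1 this).resolve_left hs0
      simp [e1, e2]
    · push Not at hp
      obtain ⟨h1, h2', h3⟩ := hU.opp hu hT' hp
      exact ⟨by rwa [mul_comm], iff_of_false h2' h1⟩
  have hk : f 0 ∈ K := by
    have := (test h.m0).1
    simpa [hfd, hAx, mulVec, dotProduct, Fin.sum_univ_three, hψ'0] using this
  have hk0 : f 0 ≠ 0 := by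
    have : (ψ' ⬝ᵥ (![1, 0, 0] : V3)) ≠ 0 := by simp [dotProduct, Fin.sum_univ_three, hψ'0]
    have := (test h.m0).2.not.1 this
    simpa [hfd, hAx, mulVec, dotProduct, Fin.sum_univ_three] using this
  have key : ∀ (x y : F), (∀ t ∈ K, (x + t) * (y + t * f 0) ∈ K ∧ (x + t = 0 ↔ y + t * f 0 = 0)) →
      y = f 0 * τ x ∧ τ (τ x) = x := by
    intro x y hxy
    by_cases hx : x ∈ K
    · have := (hxy x hx).2.1 (CharTwo.add_self_eq_zero x)
      rw [(hτ x).2 hx, (hτ x).2 hx]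
      refine ⟨?_, rfl⟩
      rw [mul_comm]; exact CharTwo.add_eq_zero.1 this
    · have p0 := (hxy 0 (zero_mem K)).1
      have p1 := (hxy 1 (one_mem K)).1
      simp only [zero_mul, add_zero, one_mul] at p0 p1
      have hs : x + y / f 0 ∈ K := by
        have := div_mem (sub_mem (sub_mem p1 p0) hk) hk
        rwa [show ((x + 1) * (y + f 0) - x * y - f 0) / f 0 = x + y / f 0 by field_simp; ring] at this
      have hp : x * (y / f 0) ∈ K := by rw [← mul_div_assoc]; exact div_mem p0 hk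
      obtain ⟨e1, e2⟩ := root x hx _ hs hp
      rw [e1, e2]
      exact ⟨by field_simp, rfl⟩
  have k1 := key (ψ' 1) (f 1) (fun t ht => by
    have := test (c2 t ht)
    simp [dotProduct, Fin.sum_univ_three, hψ'0] at this
    rw [add_comm (ψ' 1) t, show f 1 + t * f 0 = w' 0 + t * w' 1 + (β + t) * w' 2 by
      simp [hfd, hAx, mulVec, dotProduct, Fin.sum_univ_three]; ring]
    exact this)
  have k2 := key (ψ' 2) (f 2) (fun t ht => by
    have := test (c3 t ht)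
    simp [dotProduct, Fin.sum_univ_three, hψ'0] at this
    rw [add_comm (ψ' 2) t, show f 2 + t * f 0 = w' 0 + (γ + t) * w' 1 + t * w' 2 by
      simp [hfd, hAx, mulVec, dotProduct, Fin.sum_univ_three]; ring]
    exact this)
  refine ⟨f 0, c, w', ψ', hk, hψ0, rfl, by simp [ψ', smul_smul, mul_inv_cancel₀ hψ0], ?_, ?_⟩
  · intro i; fin_cases i
    · simp [hψ'0]
    · exact k1.2
    · exact k2.2
  · funext i; fin_cases i
    · simp [hψ'0]
      rfl
    · exact k1.1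
    · exact k2.1

section Data

variable {K : Subfield F} {β γ : F} {τ : F ≃+* F}

theorem map_fix {τ : F ≃+* F} (M : M3) (v : V3) : τ ∘ (M *ᵥ v) = M.map τ *ᵥ (τ ∘ v) :=
  (map_mulVec' τ M v).symm

theorem UData.hAx_det (hD : UData P K β γ τ) : IsUnit (hAx β γ).det := by
  have : (hAx β γ).det = β + γ := by simp [hAx, det_fin_three]
  rw [this]
  exact isUnit_iff_ne_zero.2 hD.sum_ne

theorem UData.hAx_map (hD : UData P K β γ τ) : (hAx β γ).map τ = hM β γ := by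
  ext i j; fin_cases i <;> fin_cases j <;> simp [hAx, hM, hD.conjβ, hD.conjγ]

theorem UData.gen_facts (hG : Gen P) (hD : UData P K β γ τ) {g : G3} (hg : g ∈ P) :
    ((g : M3).map τ).map τ = (g : M3) ∧ (g : M3)ᵀ * hM β γ * (g : M3).map τ = hM β γ := by
  have mm : ∀ A C : M3, (A * C).map τ = A.map τ * C.map τ := fun A C => Matrix.map_mul (f := (τ : F →+* F))
  suffices H : ((g : M3).map τ).map τ = (g : M3) ∧ (g : M3)ᵀ * hM β γ * (g : M3).map τ = hM β γ ∧
      (((g⁻¹ : G3) : M3).map τ).map τ = ((g⁻¹ : G3) : M3) ∧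
      ((g⁻¹ : G3) : M3)ᵀ * hM β γ * ((g⁻¹ : G3) : M3).map τ = hM β γ from ⟨H.1, H.2.1⟩
  refine Subgroup.closure_induction (p := fun (g : G3) _ => ((g : M3).map τ).map τ = (g : M3) ∧
      (g : M3)ᵀ * hM β γ * (g : M3).map τ = hM β γ ∧
      (((g⁻¹ : G3) : M3).map τ).map τ = ((g⁻¹ : G3) : M3) ∧
      ((g⁻¹ : G3) : M3)ᵀ * hM β γ * ((g⁻¹ : G3) : M3).map τ = hM β γ) ?_ ?_ ?_ ?_ (hG.gen hg)
  · rintro t ⟨w, ψ, hT, et⟩
    rw [inv_eq_self hG.two et (hT.2.2.orth hG.le_sl), et]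
    obtain ⟨k, c, w', ψ', hk, hc, hw', hψ', hψfix, hAw⟩ := hD.gens w ψ hT
    have e : tv w ψ = tv w' ψ' := by rw [hψ', hw', tv_smul]
    have ho : ψ' ⬝ᵥ w' = 0 := by
      rw [hw', dotProduct_smul, ← smul_dotProduct, ← hψ']
      exact hT.2.2.orth hG.le_sl
    rw [e]
    have hfixψ : τ ∘ (τ ∘ ψ') = ψ' := funext hψfix
    have hk' : τ k = k := (hD.fix k).2 hk
    have hsm : ∀ v : V3, τ ∘ (k • v) = k • (τ ∘ v) := fun v => funext fun i => by simp [hk']
    have hMw : hM β γ *ᵥ (τ ∘ w') = k • ψ' := by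
      rw [← hD.hAx_map, ← map_fix, hAw, hsm, hfixψ]
    have hwfix : τ ∘ (τ ∘ w') = w' := by
      refine Matrix.mulVec_injective_iff_isUnit.2 ((Matrix.isUnit_iff_isUnit_det _).2 hD.hAx_det) ?_
      show hAx β γ *ᵥ (τ ∘ (τ ∘ w')) = hAx β γ *ᵥ w'
      have : hAx β γ = (hM β γ).map τ := by
        ext i j; fin_cases i <;> fin_cases j <;> simp [hAx, hM, hD.conjβ, hD.conjγ]
      conv_lhs => rw [this, ← map_fix, hMw, hsm]
      exact hAw.symm
    have em : (tv w' ψ').map τ = tv (τ ∘ w') (τ ∘ ψ') := by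
      ext i j; simp [tv, vecMulVec, Matrix.one_apply, map_add, map_mul, apply_ite τ]
    refine ⟨?_, ?_, ?_, ?_⟩ <;> rw [em]
    · ext i j
      simp [tv, vecMulVec, Matrix.one_apply, map_add, map_mul, apply_ite τ, hψfix,
        show ∀ i, τ (τ (w' i)) = w' i from fun i => congrFun hwfix i]
    swap
    · ext i j
      simp [tv, vecMulVec, Matrix.one_apply, map_add, map_mul, apply_ite τ, hψfix,
        show ∀ i, τ (τ (w' i)) = w' i from fun i => congrFun hwfix i]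
    all_goals
      have e3 : w' ᵥ* hM β γ = k • (τ ∘ ψ') := by
        rw [← hAw, ← mulVec_transpose]
        congr 1
        ext i j; fin_cases i <;> fin_cases j <;> simp [hAx, hM]
      have e4 : (k • (τ ∘ ψ')) ⬝ᵥ (τ ∘ w') = 0 := by
        rw [smul_dotProduct, show (τ ∘ ψ') ⬝ᵥ (τ ∘ w') = τ (ψ' ⬝ᵥ w') by simp [dotProduct, map_sum, map_mul],
          ho, map_zero, smul_zero]
      rw [show (tv w' ψ')ᵀ = tv ψ' w' by rw [tv, tv, transpose_add, transpose_one, transpose_vecMulVec],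
        show tv ψ' w' * hM β γ = hM β γ + vecMulVec ψ' (k • (τ ∘ ψ')) by
          rw [tv, add_mul, one_mul, vecMulVec_mul, e3],
        show (hM β γ + vecMulVec ψ' (k • (τ ∘ ψ'))) * tv (τ ∘ w') (τ ∘ ψ') =
          hM β γ + vecMulVec ψ' (k • (τ ∘ ψ')) +
            vecMulVec ((hM β γ + vecMulVec ψ' (k • (τ ∘ ψ'))) *ᵥ (τ ∘ w')) (τ ∘ ψ') by
          rw [tv, mul_add, mul_one, mul_vecMulVec],
        add_mulVec, hMw, vecMulVec_mulVec, e4, add_assoc]
      simp [smul_vecMulVec, vecMulVec_smul, add_self hG.two]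
  · simp
  · intro a b _ _ ha hb
    obtain ⟨a1, a2, a3, a4⟩ := ha
    obtain ⟨b1, b2, b3, b4⟩ := hb
    refine ⟨by rw [Units.val_mul, mm, mm, a1, b1], ?_, by rw [_root_.mul_inv_rev, Units.val_mul, mm, mm, a3, b3], ?_⟩
    · rw [Units.val_mul, mm, transpose_mul,
        show (b : M3)ᵀ * (a : M3)ᵀ * hM β γ * ((a : M3).map τ * (b : M3).map τ) =
          (b : M3)ᵀ * ((a : M3)ᵀ * hM β γ * (a : M3).map τ) * (b : M3).map τ by simp [Matrix.mul_assoc], a2, b2]
    · rw [_root_.mul_inv_rev, Units.val_mul, mm, transpose_mul,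
        show ((a⁻¹ : G3) : M3)ᵀ * ((b⁻¹ : G3) : M3)ᵀ * hM β γ * (((b⁻¹ : G3) : M3).map τ * ((a⁻¹ : G3) : M3).map τ) =
          ((a⁻¹ : G3) : M3)ᵀ * (((b⁻¹ : G3) : M3)ᵀ * hM β γ * ((b⁻¹ : G3) : M3).map τ) * ((a⁻¹ : G3) : M3).map τ by
          simp [Matrix.mul_assoc], b4, a4]
  · intro a _ ha
    rw [inv_inv]
    exact ⟨ha.2.2.1, ha.2.2.2, ha.1, ha.2.1⟩

/-- The form of the unital. -/
def herm (β γ : F) (τ : F ≃+* F) (u v : V3) : F := (hAx β γ *ᵥ u) ⬝ᵥ (τ ∘ v)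

theorem herm_eq_matrix (u v : V3) : herm β γ τ u v = u ⬝ᵥ hM β γ *ᵥ (τ ∘ v) := by
  simp [herm, hAx, hM, mulVec, dotProduct, Fin.sum_univ_three]; ring

theorem herm_iff {g : M3} :
    gᵀ * hM β γ * g.map τ = hM β γ ↔ ∀ u v, herm β γ τ (g *ᵥ u) (g *ᵥ v) = herm β γ τ u v := by
  have key : ∀ u v, herm β γ τ (g *ᵥ u) (g *ᵥ v) = u ⬝ᵥ (gᵀ * hM β γ * g.map τ) *ᵥ (τ ∘ v) := fun u v => by
    rw [herm_eq_matrix, map_fix, ← mulVec_mulVec, ← mulVec_mulVec, dotProduct_mulVec u gᵀ, vecMul_transpose]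
  refine ⟨fun h u v => by rw [key, h, herm_eq_matrix], fun h => ?_⟩
  ext i j
  have := (key (Pi.single i 1) (Pi.single j 1)).symm.trans ((h _ _).trans (herm_eq_matrix _ _))
  have e : (τ ∘ (Pi.single j 1 : V3)) = Pi.single j 1 := by
    funext k; simp [Pi.single_apply, apply_ite τ]
  rw [e] at this
  simpa [mulVec_single, single_dotProduct] using this

/-- Membership of all special isometries. -/
theorem full_of_data (hF : UFrame P K β γ) (hD : UData P K β γ τ) (hinv : ∀ x, τ (τ x) = x)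
    {g : G3} (hdet : (g : M3).det = 1) (hg : ∀ u v, herm β γ τ ((g : M3) *ᵥ u) ((g : M3) *ᵥ v) = herm β γ τ u v) :
    g ∈ P := by
  have hG := hF.gen
  have hU := hF.uni
  have hP := hG.le_sl
  have h2 := hG.two
  haveI : CharP F 2 := CharTwo.of_one_ne_zero_of_two_eq_zero one_ne_zero h2
  haveI : CharP K 2 := CharTwo.of_one_ne_zero_of_two_eq_zero one_ne_zero (Subtype.ext h2)
  have hfix := hD.fix
  have iso : ∀ p ∈ P, ∀ u v, herm β γ τ ((p : M3) *ᵥ u) ((p : M3) *ᵥ v) = herm β γ τ u v := fun p hp =>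
    herm_iff.1 (hD.gen_facts hG hp).2
  set e0 : V3 := ![1, 0, 0] with he0
  set e1 : V3 := ![0, 1, 0] with he1
  set r : V3 → F := fun u => u 1 + u 2 with hr
  have hr0 : ∀ u, herm β γ τ u e0 = r u := fun u => by
    simp [herm, hAx, e0, r, mulVec, dotProduct, Fin.sum_univ_three]
  have hswap : ∀ u v, herm β γ τ u v = τ (herm β γ τ v u) := fun u v => by
    simp [herm, hAx, mulVec, dotProduct, Fin.sum_univ_three, hinv, hD.conjβ, hD.conjγ]; ring
  have hsm : ∀ (c : F) u v, herm β γ τ (c • u) v = c * herm β γ τ u v := fun c u v => by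
    rw [herm, herm, mulVec_smul, smul_dotProduct, smul_eq_mul]
  have hsmr : ∀ (c : F) u v, herm β γ τ u (c • v) = τ c * herm β γ τ u v := fun c u v => by
    rw [hswap, hsm, map_mul, ← hswap]
  have hadd : ∀ u u' v, herm β γ τ (u + u') v = herm β γ τ u v + herm β γ τ u' v := fun u u' v => by
    rw [herm, herm, herm, mulVec_add, add_dotProduct]
  have haddr : ∀ u v v', herm β γ τ u (v + v') = herm β γ τ u v + herm β γ τ u v' := fun u v v' => by
    rw [hswap, hadd, map_add, ← hswap, ← hswap]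
  have he00 : herm β γ τ e0 e0 = 0 := by simp [hr0, e0, r]
  have he11 : herm β γ τ e1 e1 = 0 := by
    simp [herm, hAx, e1, mulVec, dotProduct, Fin.sum_univ_three]
  have he01 : herm β γ τ e0 e1 = 1 := by
    simp [herm, hAx, e0, e1, mulVec, dotProduct, Fin.sum_univ_three]
  have he10 : herm β γ τ e1 e0 = 1 := by rw [hswap, he01, map_one]
  -- translations along the secants at the first centre
  have torus : ∀ {v φ z θ : V3}, Tv P v φ → Tv P z θ → φ ⬝ᵥ z = 1 → θ ⬝ᵥ v = 1 → ∀ l ∈ K, l ≠ 0 →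
      ∃ p ∈ P, ∀ u : V3, (p : M3) *ᵥ u = u + ((l + 1) * (θ ⬝ᵥ u)) • v + ((l⁻¹ + 1) * (φ ⬝ᵥ u)) • z := by
    intro v φ z θ hv hz h1 h1' l hl hl0
    obtain ⟨x, hx, ex⟩ := (hU.exact' hv l).2 hl
    obtain ⟨x1, hx1, ex1⟩ := hv.2.2
    obtain ⟨y, hy, ey⟩ := (hU.exact' hz l⁻¹).2 (inv_mem hl)
    obtain ⟨y1, hy1, ey1⟩ := hz.2.2
    refine ⟨x * y * x * (x1 * y1 * x1), mul_mem (mul_mem (mul_mem hx hy) hx) (mul_mem (mul_mem hx1 hy1) hx1),
      fun u => ?_⟩
    simp only [Units.val_mul, ← mulVec_mulVec, ex, ex1, ey, ey1, tv_mulVec, dotProduct_add, dotProduct_smul,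
      smul_dotProduct, hv.2.2.orth hP, hz.2.2.orth hP, h1, h1', smul_eq_mul, mul_zero, mul_one, add_zero]
    funext i
    simp only [Pi.add_apply, Pi.smul_apply, smul_eq_mul]
    field_simp
    ring_nf
    simp only [show (6 : F) = 0 by linear_combination 3 * h2, show (3 : F) = 1 by linear_combination h2, h2, mul_zero, add_zero, zero_add, mul_one]
    try ring
  obtain ⟨l0, hl0, hl00, hl01⟩ := hU.four
  let Tr : F → Prop := fun d => ∃ p ∈ P, (∃ s : F, (p : M3) *ᵥ e0 = s • e0) ∧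
      ∀ u, r ((p : M3) *ᵥ u) = r u ∧ ((p : M3) *ᵥ u) 2 = u 2 + d * r u
  have Tr_add : ∀ {d d'}, Tr d → Tr d' → Tr (d + d') := by
    rintro d d' ⟨p, hp, ⟨s, hs⟩, hpu⟩ ⟨p', hp', ⟨s', hs'⟩, hpu'⟩
    refine ⟨p * p', mul_mem hp hp', ⟨s' * s, ?_⟩, fun u => ?_⟩
    · rw [Units.val_mul, ← mulVec_mulVec, hs', mulVec_smul, hs, smul_smul]
    · rw [Units.val_mul, ← mulVec_mulVec, (hpu _).1, (hpu _).2, (hpu' u).1, (hpu' u).2]
      exact ⟨rfl, by ring⟩
  have Tr_z : ∀ {z θ : V3}, Tv P z θ → r z = 1 → θ ⬝ᵥ e0 = 1 → ∀ k ∈ K, Tr (k * z 2) := by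
    intro z θ hz hrz hθ
    have hφz : (![0, 1, 1] : V3) ⬝ᵥ z = 1 := by
      have : (![0, 1, 1] : V3) ⬝ᵥ z = r z := by simp [dotProduct, Fin.sum_univ_three, r]
      rw [this, hrz]
    have hθ0 : θ 0 = 1 := by simpa [dotProduct, Fin.sum_univ_three, e0] using hθ
    have one : ∀ l ∈ K, l ≠ 0 → Tr ((l + 1) * z 2) := by
      intro l hl hl0
      obtain ⟨p, hp, hpu⟩ := torus hF.m0 hz hφz hθ l hl hl0
      obtain ⟨q, hq, hqu⟩ := torus hF.m0 hF.m1 (by simp [dotProduct, Fin.sum_univ_three])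
        (by simp [dotProduct, Fin.sum_univ_three]) l⁻¹ (inv_mem hl) (inv_ne_zero hl0)
      have hr' : ∀ u, r u = (![0, 1, 1] : V3) ⬝ᵥ u := fun u => by simp [dotProduct, Fin.sum_univ_three, r]
      have q_r : ∀ u, r ((q : M3) *ᵥ u) = l * r u := fun u => by
        rw [hqu, inv_inv, hr', hr', dotProduct_add, dotProduct_add, dotProduct_smul, dotProduct_smul]
        simp only [dotProduct, Fin.sum_univ_three]
        simp
        linear_combination (u 1 + u 2) * h2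
      refine ⟨p * q, mul_mem hp hq, ⟨1, ?_⟩, fun u => ⟨?_, ?_⟩⟩
      · rw [Units.val_mul, ← mulVec_mulVec, hqu, hpu, one_smul, inv_inv, he0]
        funext i
        simp only [Pi.add_apply, Pi.smul_apply, dotProduct, Fin.sum_univ_three]
        fin_cases i <;> simp [hθ0]
        field_simp
        linear_combination (1 + 2 * l + l ^ 2) * h2
      · rw [Units.val_mul, ← mulVec_mulVec, hpu]
        rw [hr', dotProduct_add, dotProduct_add, dotProduct_smul, dotProduct_smul, hφz, ← hr', q_r]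
        simp [dotProduct, Fin.sum_univ_three]
        field_simp
        linear_combination (r u) * l * h2
      · rw [Units.val_mul, ← mulVec_mulVec, hpu, ← hr', q_r]
        have q2 : ((q : M3) *ᵥ u) 2 = u 2 := by
          rw [hqu]; simp only [Pi.add_apply, Pi.smul_apply]; simp
        simp only [Pi.add_apply, Pi.smul_apply, q2]
        simp [q2]
        field_simp
        ring
    intro k hk
    by_cases hk1 : k = 1
    · subst hk1
      have hl01' : l0 + 1 ≠ 0 := fun e => hl01 (CharTwo.add_eq_zero.1 e)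
      have := Tr_add (one l0 hl0 hl00) (one (l0 + 1) (add_mem hl0 (one_mem K)) hl01')
      rwa [show (l0 + 1) * z 2 + (l0 + 1 + 1) * z 2 = 1 * z 2 by linear_combination (l0 * z 2 + z 2) * h2] at this
    · have := one (k + 1) (add_mem hk (one_mem K)) (fun e => hk1 (CharTwo.add_eq_zero.1 e))
      rwa [show (k + 1 + 1) * z 2 = k * z 2 by linear_combination z 2 * h2] at this
  have hβ1 : β + 1 ≠ 0 := fun e => hD.sum_ne (by
    rw [← hD.conjβ, CharTwo.add_eq_zero.1 e, map_one, CharTwo.add_self_eq_zero])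
  set ζ := (β + 1)⁻¹ with hζ
  have TrK : ∀ k ∈ K, Tr k := fun k hk => by
    simpa using Tr_z hF.m2 (by simp [r]) (by simp [e0, dotProduct, Fin.sum_univ_three]) k hk
  have Trζ : ∀ k ∈ K, Tr (k * ζ) := by
    have hm : Mem P ![0, β, 1] (![1, γ, 0] + γ • ![1, 0, β]) := by
      have := hF.m2.2.2.conjTv h2 hP hF.m1.2.2
      convert this using 1 <;> funext i <;> fin_cases i <;> simp [dotProduct, Fin.sum_univ_three]
    have hN : (β + 1) * (1 + γ) ∈ K := by
      refine (hfix _).1 ?_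
      rw [map_mul, map_add, map_add, map_one, hD.conjβ, hD.conjγ]; ring
    have hγ1 : 1 + γ ≠ 0 := fun e => hD.sum_ne (by
      rw [← hD.conjγ, CharTwo.add_eq_zero.1 (show γ + 1 = 0 by rwa [add_comm]), map_one, CharTwo.add_self_eq_zero])
    have hz0 : Tv P ![0, β, 1] (![1, γ, 0] + γ • ![1, 0, β]) :=
      tv_of (i := 2) (j := 0) (by simp) (by simpa using hγ1) hm
    have hz : Tv P (ζ • ![0, β, 1]) (((1 + γ)⁻¹) • (![1, γ, 0] + γ • ![1, 0, β])) := by
      refine ⟨smul_ne_zero (inv_ne_zero hβ1) hz0.1, smul_ne_zero (inv_ne_zero hγ1) hz0.2.1, ?_⟩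
      rw [mem_smul_iff, smul_smul, hζ, ← mul_inv]
      exact (hU.exact' hz0 _).2 (inv_mem hN)
    intro k hk
    have := Tr_z hz (by simp [r, hζ]; field_simp) (by
      simp [e0, dotProduct, Fin.sum_univ_three]; field_simp) k hk
    simpa using this
  have trans : ∀ d : F, Tr d := by
    intro d
    have hs : ζ + τ ζ ∈ K := (hfix _).1 (by rw [map_add, hinv]; ring)
    have hs0 : ζ + τ ζ ≠ 0 := fun e => by
      have e1 : τ ζ = ζ := (CharTwo.add_eq_zero.1 e).symm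
      rw [hζ, map_inv₀, _root_.inv_inj, map_add, map_one, hD.conjβ, add_left_inj] at e1
      exact hD.sum_ne (by rw [e1, CharTwo.add_self_eq_zero])
    set q := (d + τ d) / (ζ + τ ζ) with hq
    have hqK : q ∈ K := div_mem ((hfix _).1 (by rw [map_add, hinv]; ring)) hs
    have hpK : d + q * ζ ∈ K := by
      refine (hfix _).1 ?_
      have : q * (ζ + τ ζ) = d + τ d := div_mul_cancel₀ _ hs0
      rw [map_add, map_mul, (hfix q).2 hqK]
      linear_combination this + (τ d - q * ζ) * h2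
    have := Tr_add (TrK _ hpK) (Trζ q hqK)
    rwa [show d + q * ζ + q * ζ = d by linear_combination q * ζ * h2] at this
  -- every isotropic point off the first secant class
  have move : ∀ u : V3, herm β γ τ u u = 0 → r u = 1 → ∃ p ∈ P, (p : M3) *ᵥ e0 = e0 ∧ (p : M3) *ᵥ e1 = u := by
    intro u hu hru
    obtain ⟨p, hp, ⟨s, hs⟩, hpu⟩ := trans (u 2)
    have h1 := (hpu e1).1
    have h2' := (hpu e1).2
    simp [r, e1] at h1 h2'
    set p1 := (p : M3) *ᵥ e1 with hp1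
    set c := p1 0 + u 0
    have hp1u : p1 = u + c • e0 := by
      simp only [r] at hru
      funext i; fin_cases i
      · simp [c, e0]; linear_combination -(u 0) * h2
      · simp [e0]; linear_combination h1 - hru - h2'
      · simp [e0]; exact h2'
    have hc : τ c = c := by
      have := iso p hp e1 e1
      rw [he11, ← hp1, hp1u] at this
      simp only [hadd, haddr, hsm, hsmr, hu, he00, hr0, hru, hswap e0 u, map_one, mul_zero, mul_one,
        add_zero, zero_add] at this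
      linear_combination this - c * h2
    obtain ⟨x, hx, ex⟩ := (hU.exact' hF.m0 c).2 ((hfix c).1 hc)
    have hp0 : (p : M3) *ᵥ e0 = e0 := by
      have := iso p hp e1 e0
      rw [he10, hs, ← hp1, hp1u, hsmr] at this
      simp only [hadd, hsm, he00, hr0, hru, mul_zero, add_zero, mul_one] at this
      have hs1 : s = 1 := τ.injective (by rw [this, map_one])
      rw [hs, hs1, one_smul]
    have hφ : ∀ u : V3, (c • (![0, 1, 1] : V3)) ⬝ᵥ u = c * r u := fun u => by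
      simp [dotProduct, Fin.sum_univ_three, r]; ring
    refine ⟨x * p, mul_mem hx hp, ?_, ?_⟩
    · rw [Units.val_mul, ← mulVec_mulVec, hp0, ex, tv_mulVec, hφ]
      simp [e0, r]
    · rw [Units.val_mul, ← mulVec_mulVec, ← hp1, ex, tv_mulVec, hφ, hp1u]
      have : r (u + c • e0) = 1 := by simp only [r] at hru ⊢; simp [e0, hru]
      rw [this, mul_one, ← he0, add_assoc, add_self h2, add_zero]
  obtain ⟨x0, hx0, ex0⟩ := hF.m0.2.2
  obtain ⟨x1, hx1, ex1⟩ := hF.m1.2.2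
  set w0 := x0 * x1 * x0 with hw0d
  have hw0 : w0 ∈ P := mul_mem (mul_mem hx0 hx1) hx0
  have w00 : (w0 : M3) *ᵥ e0 = e1 := by
    simp only [hw0d, Units.val_mul, ← mulVec_mulVec, ex0, ex1, tv_mulVec, e0, e1]
    funext i; fin_cases i <;> simp [dotProduct, Fin.sum_univ_three, CharTwo.add_self_eq_zero]
  have w01 : (w0 : M3) *ᵥ e1 = e0 := by
    simp only [hw0d, Units.val_mul, ← mulVec_mulVec, ex0, ex1, tv_mulVec, e0, e1]
    funext i; fin_cases i <;> simp [dotProduct, Fin.sum_univ_three, CharTwo.add_self_eq_zero]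
  have rzero : ∀ u : V3, herm β γ τ u u = 0 → r u = 0 → ∃ a : F, u = a • e0 := by
    intro u hu hru
    have h12 : u 1 = u 2 := CharTwo.add_eq_zero.1 hru
    simp [herm, hAx, mulVec, dotProduct, Fin.sum_univ_three, h12] at hu
    have : (β + γ) * (u 2 * τ (u 2)) = 0 := by
      linear_combination hu - (u 0 * τ (u 2) + u 2 * τ (u 0)) * h2
    simp [hD.sum_ne] at this
    refine ⟨u 0, ?_⟩
    funext i; fin_cases i <;> simp [e0, h12, this]
  have toE0 : ∀ u : V3, u ≠ 0 → herm β γ τ u u = 0 → ∃ p ∈ P, ∃ a : F, (p : M3) *ᵥ u = a • e0 := by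
    intro u hu hiso
    by_cases hru : r u = 0
    · obtain ⟨a, ha⟩ := rzero u hiso hru
      exact ⟨1, one_mem P, a, by simpa using ha⟩
    · obtain ⟨p, hp, -, hpe⟩ := move ((r u)⁻¹ • u) (by rw [hsm, hsmr, hiso, mul_zero, mul_zero])
        (by simp only [r] at hru ⊢; simp [← mul_add, hru])
      refine ⟨w0 * p⁻¹, mul_mem hw0 (inv_mem hp), r u, ?_⟩
      have e : u = r u • ((r u)⁻¹ • u) := by rw [smul_smul, mul_inv_cancel₀ hru, one_smul]
      conv_lhs => rw [e]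
      rw [← hpe, mulVec_smul, Units.val_mul, ← mulVec_mulVec, Cfsg.Agent.Classical.gl_inv_mulVec_cancel, w01]
  -- the torus
  have he : ∀ a : F, a + τ a ∈ K := fun a => (hfix _).1 (by rw [map_add, hinv]; ring)
  have tor : ∀ a : F, a ≠ 0 → ∃ p ∈ P, ∃ μ : F, (p : M3) *ᵥ e0 = a • e0 ∧ (p : M3) *ᵥ e1 = μ • e1 := by
    intro a ha
    obtain ⟨b, hb⟩ := FiniteField.isSquare_of_char_two (F := K) (ringChar.eq K 2)
      ⟨_, div_mem (he a) hD.sum_mem⟩
    have hb' : (a + τ a) / (β + γ) = (b : F) * (b : F) := congrArg Subtype.val hb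
    rw [div_eq_iff hD.sum_ne] at hb'
    set p : V3 := ![a + b * β, 1 + b, b] with hpd
    have hpr : r p = 1 := by simp [r, p]; linear_combination (b : F) * h2
    have hpiso : herm β γ τ p p = 0 := by
      simp [herm, hAx, p, mulVec, dotProduct, Fin.sum_univ_three, hD.conjβ, (hfix _).2 b.2]
      linear_combination hb' + (2 * (b : F) ^ 2 * β + 2 * (b : F) ^ 2 * γ + (b:F) * β + (b:F)*γ + b * a + b * τ a) * h2
    have hpe1 : herm β γ τ e1 p = τ a := by
      simp [herm, hAx, p, e1, mulVec, dotProduct, Fin.sum_univ_three, hD.conjβ, (hfix _).2 b.2]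
      linear_combination (b : F) * γ * h2
    obtain ⟨u1, hu1, u10, u11⟩ := move p hpiso hpr
    set p' := (w0 : M3) *ᵥ p
    have hp'r : r p' = a := by
      rw [← hr0, hswap, ← w01, iso w0 hw0, hpe1, hinv]
    obtain ⟨g', hg', g'0, g'1⟩ := move (a⁻¹ • p') (by rw [hsm, hsmr, iso w0 hw0, hpiso, mul_zero, mul_zero])
      (by
        have : r p' = a := hp'r
        simp only [r] at this ⊢; simp [← mul_add, this, ha])
    set u2 := w0 * g'⁻¹ * w0 with hu2d
    have hu2 : u2 ∈ P := mul_mem (mul_mem hw0 (inv_mem hg')) hw0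
    have u21 : (u2 : M3) *ᵥ e1 = e1 := by
      rw [hu2d, Units.val_mul, Units.val_mul, ← mulVec_mulVec, ← mulVec_mulVec, w01]
      conv_lhs => rw [← g'0, Cfsg.Agent.Classical.gl_inv_mulVec_cancel, w00]
    have u2p : (u2 : M3) *ᵥ p = a • e0 := by
      rw [hu2d, Units.val_mul, Units.val_mul, ← mulVec_mulVec, ← mulVec_mulVec,
        show (w0 : M3) *ᵥ p = a • (a⁻¹ • p') by rw [smul_smul, mul_inv_cancel₀ ha, one_smul],
        mulVec_smul, ← g'1, Cfsg.Agent.Classical.gl_inv_mulVec_cancel, mulVec_smul, w01]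
    set q := (u2 : M3) *ᵥ e0
    have hqiso : herm β γ τ q q = 0 := by rw [iso u2 hu2, he00]
    have hq1 : herm β γ τ q e1 = 1 := by rw [← u21, iso u2 hu2, he01]
    have hqr : r q ≠ 0 := fun e => by
      obtain ⟨s, hs⟩ := rzero q hqiso e
      have e' : (u2 : M3) *ᵥ (a • e0) = (u2 : M3) *ᵥ (s • p) := by
        rw [mulVec_smul, mulVec_smul, u2p, smul_smul, mul_comm, ← smul_smul, ← hs]
      have := Cfsg.Agent.Classical.gl_mulVec_injective u2 e'
      have h' := congrArg r this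
      simp only [r] at hpr
      simp [r, e0, ← mul_add, hpr] at h'
      rw [← h', zero_smul] at this
      exact smul_ne_zero ha (by simp [e0]) this
    obtain ⟨g'', hg'', g''0, g''1⟩ := move ((r q)⁻¹ • q) (by rw [hsm, hsmr, hqiso, mul_zero, mul_zero])
      (by simp only [r] at hqr ⊢; simp [← mul_add, hqr])
    set M := g''⁻¹ * u2 * u1 with hMd
    have M1 : (M : M3) *ᵥ e1 = a • e0 := by
      rw [hMd, Units.val_mul, Units.val_mul, ← mulVec_mulVec, ← mulVec_mulVec, u11, u2p, mulVec_smul]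
      congr 1
      conv_lhs => rw [← g''0, Cfsg.Agent.Classical.gl_inv_mulVec_cancel]
    have M0 : (M : M3) *ᵥ e0 = r q • e1 := by
      rw [hMd, Units.val_mul, Units.val_mul, ← mulVec_mulVec, ← mulVec_mulVec, u10]
      show ((g''⁻¹ : G3) : M3) *ᵥ q = _
      conv_lhs => rw [show q = r q • ((r q)⁻¹ • q) by rw [smul_smul, mul_inv_cancel₀ hqr, one_smul], mulVec_smul,
        ← g''1, Cfsg.Agent.Classical.gl_inv_mulVec_cancel]
    refine ⟨M * w0, mul_mem (mul_mem (mul_mem (inv_mem hg'') hu2) hu1) hw0, r q, ?_, ?_⟩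
    · rw [Units.val_mul, ← mulVec_mulVec, w00, M1]
    · rw [Units.val_mul, ← mulVec_mulVec, w01, M0]
  -- reduce `g` to the torus
  have hne0 : ∀ (x : G3) (u : V3), u ≠ 0 → (x : M3) *ᵥ u ≠ 0 := fun x u hu e => hu (by
    rw [← Cfsg.Agent.Classical.gl_inv_mulVec_cancel x u, e, mulVec_zero])
  obtain ⟨p1, hp1, l, hl⟩ := toE0 _ (hne0 g e0 (by simp [e0])) (by rw [hg, he00])
  have g1iso : ∀ u v, herm β γ τ (((p1 * g : G3) : M3) *ᵥ u) (((p1 * g : G3) : M3) *ᵥ v) = herm β γ τ u v := by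
    intro u v; rw [Units.val_mul, ← mulVec_mulVec, ← mulVec_mulVec, iso p1 hp1, hg]
  set g1 := p1 * g
  have hg10 : (g1 : M3) *ᵥ e0 = l • e0 := by rw [Units.val_mul, ← mulVec_mulVec, hl]
  set q := (g1 : M3) *ᵥ e1
  have hq0 : r q * τ l = 1 := by
    have := g1iso e1 e0
    rw [he10, hg10, hsmr, hr0] at this
    rw [mul_comm]; exact this
  have hl0 : l ≠ 0 := fun e => hne0 g1 e0 (by simp [e0]) (by rw [hg10, e, zero_smul])
  have hrq : r q ≠ 0 := left_ne_zero_of_mul_eq_one hq0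
  obtain ⟨p2, hp2, p20, p21⟩ := move ((r q)⁻¹ • q) (by rw [hsm, hsmr, g1iso, he11, mul_zero, mul_zero])
    (by simp only [r] at hrq ⊢; simp [← mul_add, hrq])
  have hl1 : l⁻¹ ≠ 0 := inv_ne_zero hl0
  obtain ⟨p3, hp3, μ, p30, p31⟩ := tor l⁻¹ hl1
  set g3 := p3 * (p2⁻¹ * g1) with hg3d
  have g3iso : ∀ u v, herm β γ τ ((g3 : M3) *ᵥ u) ((g3 : M3) *ᵥ v) = herm β γ τ u v := by
    intro u v
    rw [hg3d, Units.val_mul, Units.val_mul, ← mulVec_mulVec, ← mulVec_mulVec, ← mulVec_mulVec, ← mulVec_mulVec,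
      iso p3 hp3, iso _ (inv_mem hp2), g1iso]
  have g30 : (g3 : M3) *ᵥ e0 = e0 := by
    rw [hg3d, Units.val_mul, Units.val_mul, ← mulVec_mulVec, ← mulVec_mulVec, hg10, mulVec_smul]
    conv_lhs => rw [← p20, Cfsg.Agent.Classical.gl_inv_mulVec_cancel, mulVec_smul, p30, smul_smul,
      mul_inv_cancel₀ hl0, one_smul]
  have g31 : (g3 : M3) *ᵥ e1 = (r q * μ) • e1 := by
    rw [hg3d, Units.val_mul, Units.val_mul, ← mulVec_mulVec, ← mulVec_mulVec]
    show (p3 : M3) *ᵥ (((p2⁻¹ : G3) : M3) *ᵥ q) = _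
    rw [show q = r q • ((r q)⁻¹ • q) by rw [smul_smul, mul_inv_cancel₀ hrq, one_smul], ← p21, mulVec_smul,
      Cfsg.Agent.Classical.gl_inv_mulVec_cancel, mulVec_smul, p31, smul_smul, p21, smul_smul,
      mul_inv_cancel₀ hrq, one_smul]
  have g31' : (g3 : M3) *ᵥ e1 = e1 := by
    have := g3iso e1 e0
    rw [g30, g31, hsm, he10, mul_one] at this
    rw [g31, this, one_smul]
  set u0 : V3 := ![β, 1, 1] with hu0
  obtain ⟨ν, hν⟩ : ∃ ν : F, (g3 : M3) *ᵥ u0 = ν • u0 := by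
    have a1 := g3iso u0 e0
    have a2 := g3iso u0 e1
    rw [g30] at a1
    rw [g31'] at a2
    set z := (g3 : M3) *ᵥ u0
    simp [herm, hAx, u0, e0, e1, mulVec, dotProduct, Fin.sum_univ_three, CharTwo.add_self_eq_zero] at a1 a2
    have z12 : z 1 = z 2 := CharTwo.add_eq_zero.1 a1
    refine ⟨z 2, ?_⟩
    funext i; fin_cases i <;> simp [hu0, z12]
    linear_combination a2 - z 2 * β * h2
  have hν1 : ν = 1 := by
    set Q : M3 := (Matrix.of ![e0, e1, u0])ᵀ with hQ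
    have hQdet : Q.det ≠ 0 := by
      have : Q.det = 1 := by simp [hQ, e0, e1, u0, det_fin_three]
      rw [this]; exact one_ne_zero
    have e : (g3 : M3) * Q = Q * Matrix.diagonal ![1, 1, ν] := by
      ext i j
      have hc : ∀ j, ((g3 : M3) * Q) i j = ((g3 : M3) *ᵥ (![e0, e1, u0] j)) i := fun j => rfl
      rw [hc, Matrix.mul_diagonal]
      fin_cases j
      · show ((g3 : M3) *ᵥ e0) i = e0 i * 1
        rw [g30, mul_one]
      · show ((g3 : M3) *ᵥ e1) i = e1 i * 1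
        rw [g31', mul_one]
      · show ((g3 : M3) *ᵥ u0) i = u0 i * ν
        rw [hν, Pi.smul_apply, smul_eq_mul, mul_comm]
    have e' := congrArg Matrix.det e
    have d3 : (g3 : M3).det = 1 := by
      simp only [hg3d, g1, Units.val_mul, det_mul, det_one hP hp3, det_one hP (inv_mem hp2), det_one hP hp1, hdet,
        mul_one]
    rw [det_mul, det_mul, d3, det_diagonal, one_mul] at e'
    simp [Fin.prod_univ_three] at e'
    exact mul_left_cancel₀ hQdet (by rw [mul_one]; exact e'.symm)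
  have hg3 : g3 = 1 := by
    refine Cfsg.Agent.Classical.gl_ext_mulVec fun u => ?_
    rw [Units.val_one, one_mulVec]
    have e : u = (u 0 + u 2 * β) • e0 + (u 1 + u 2) • e1 + u 2 • u0 := by
      funext i; fin_cases i <;> simp [e0, e1, u0] <;>
        first | linear_combination -(u 2 * β) * h2 | linear_combination -(u 2) * h2
    conv_lhs => rw [e]
    rw [mulVec_add, mulVec_add, mulVec_smul, mulVec_smul, mulVec_smul, g30, g31', hν, hν1, one_smul]
    exact e.symm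
  have : g = p1⁻¹ * (p2 * (p3⁻¹ * g3)) := by
    simp only [hg3d, g1]
    group
  rw [this, hg3, mul_one]
  exact mul_mem (inv_mem hp1) (mul_mem hp2 (inv_mem hp3))

end Data

/-- A unital: a twist, or the special unitary group. -/
theorem su_or_twist_of_uni (hG : Gen P) {K : Subfield F} (hU : Uni P K) :
    (∃ τ : F ≃+* F, τ ≠ RingEquiv.refl F ∧ Twist P τ) ∨
      ∃ (s : F ≃+* F) (f : V3 → V3 → F), IsUnitaryForm s f ∧ FixesForm (matrixSet P) f ∧
        ∀ g ∈ specialLinear (Fin 3) F, FixesForm {(g : M3)} f → g ∈ P := by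
  classical
  obtain ⟨B, β, γ, hF⟩ := exists_uframe hG hU
  obtain ⟨τ, hD⟩ := hF.data
  have hconj : ∀ x ∈ P, B⁻¹ * x * B ∈ cj P B := fun x hx => mem_cj.2 (by simpa [mul_assoc] using hx)
  by_cases hinv : ∀ x, τ (τ x) = x
  · right
    set f : V3 → V3 → F := fun u v =>
      herm β γ τ (((B⁻¹ : G3) : M3) *ᵥ u) (((B⁻¹ : G3) : M3) *ᵥ v) with hf
    have hne : τ ≠ RingEquiv.refl F := fun e => hD.sum_ne (by
      rw [← hD.conjβ, e]; exact add_self hG.two β)
    have hswap : ∀ u v, herm β γ τ u v = τ (herm β γ τ v u) := fun u v => by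
      simp [herm, hAx, mulVec, dotProduct, Fin.sum_univ_three, hinv, hD.conjβ, hD.conjγ]; ring
    have hnd : ∀ u : V3, u ≠ 0 → ∃ v, f v u ≠ 0 := fun u hu => by
      set u' := ((B⁻¹ : G3) : M3) *ᵥ u
      have hu' : u' ≠ 0 := fun e => hu (by
        rw [← Cfsg.Agent.Classical.gl_mulVec_inv_cancel B u]
        show (B : M3) *ᵥ u' = 0
        rw [e, mulVec_zero])
      obtain ⟨k, hk⟩ := Function.ne_iff.1 hu'
      obtain ⟨v', hv'⟩ := (Matrix.mulVec_surjective_iff_isUnit.2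
        ((Matrix.isUnit_iff_isUnit_det _).2 hD.hAx_det)) (Pi.single k 1)
      refine ⟨(B : M3) *ᵥ v', ?_⟩
      rw [hf]
      show herm β γ τ _ u' ≠ 0
      rw [Cfsg.Agent.Classical.gl_inv_mulVec_cancel, herm, hv', single_dotProduct, one_mul]
      simpa using hk
    refine ⟨τ, f, ⟨hne, hinv, fun x y v => ?_, fun c x v => ?_, fun u v => hswap _ _, fun u hu => ?_⟩, ?_, ?_⟩
    · simp only [hf, mulVec_add, herm, add_dotProduct]
    · simp only [hf, mulVec_smul, herm, smul_dotProduct, smul_eq_mul]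
    · obtain ⟨v, hv⟩ := hnd u hu
      refine ⟨⟨v, hv⟩, v, fun e => hv ?_⟩
      show herm β γ τ _ _ = 0
      rw [hswap]
      exact (congrArg τ e).trans (map_zero τ)
    · rintro _ ⟨x, hx, rfl⟩ u v
      have := herm_iff.1 (hD.gen_facts hF.gen (hconj x hx)).2 (((B⁻¹ : G3) : M3) *ᵥ u) (((B⁻¹ : G3) : M3) *ᵥ v)
      simpa only [hf, Units.val_mul, ← mulVec_mulVec, Cfsg.Agent.Classical.gl_mulVec_inv_cancel] using this
    · intro g hg hgf
      have h' : B⁻¹ * g * B ∈ cj P B := by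
        refine full_of_data hF hD hinv ?_ fun u v => ?_
        · rw [Units.val_mul, Units.val_mul, det_mul, det_mul, det_one le_rfl hg, mul_one, ← det_mul,
            Units.inv_mul, Matrix.det_one]
        · have := hgf (g : M3) rfl ((B : M3) *ᵥ u) ((B : M3) *ᵥ v)
          simpa only [hf, Units.val_mul, ← mulVec_mulVec, Cfsg.Agent.Classical.gl_inv_mulVec_cancel] using this
      simpa [mul_assoc] using mem_cj.1 h'
  · left
    refine ⟨τ.trans τ, fun e => hinv fun x => RingEquiv.congr_fun e x, ?_⟩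
    set t := τ.trans τ
    have hBτ : IsUnit ((((B⁻¹ : G3)) : M3).map t) := B⁻¹.isUnit.map (RingHom.mapMatrix (t : F →+* F))
    refine ⟨(B : M3) * ((((B⁻¹ : G3)) : M3).map t), B.isUnit.mul hBτ, fun x hx => ?_⟩
    have e : (((B⁻¹ * x * B : G3)) : M3).map t = ((B⁻¹ * x * B : G3) : M3) := by
      conv_rhs => rw [← (hD.gen_facts hF.gen (hconj x hx)).1]
      ext i j; rfl
    have mm : ∀ A C : M3, (A * C).map t = A.map t * C.map t := fun A C =>
      Matrix.map_mul (f := (t : F →+* F))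
    calc (B : M3) * (((B⁻¹ : G3) : M3).map t) * (x : M3).map t
        = (B : M3) * ((((B⁻¹ * x * B : G3)) : M3) * ((B⁻¹ : G3) : M3)).map t := by
          rw [Matrix.mul_assoc, ← mm]
          congr 2
          rw [Units.val_mul, Units.val_mul, Matrix.mul_assoc, Units.mul_inv, Matrix.mul_one]
      _ = (B : M3) * (((B⁻¹ * x * B : G3)) : M3) * ((B⁻¹ : G3) : M3).map t := by
          rw [mm, e, Matrix.mul_assoc]
      _ = (x : M3) * ((B : M3) * ((B⁻¹ : G3) : M3).map t) := by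
          rw [← Units.val_mul, ← mul_assoc, mul_inv_cancel_left, Units.val_mul, Matrix.mul_assoc]

end Cfsg.Agent.PThree.TEven
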