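import Cfsg.Agent.Lib.Classical.Subfield
import Cfsg.Agent.Lib.Classical.PThree.TEven.Plane

/-!
# A root group of order at least four and a second axis at its centre
-/

set_option autoImplicit false
set_option linter.unusedSectionVars false

namespace Cfsg.Agent.PThree.TEven

open Matrix Cfsg Cfsg.Geo
open scoped MatrixGroups

variable {F : Type*} [Field F] [Fintype F]

local notation "G3" => GL (Fin 3) F
local notation "M3" => Matrix (Fin 3) (Fin 3) F
local notation "V3" => (Fin 3 → F)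

/-- An automorphism with a given fixed field. -/
theorem exists_aut (K : Subfield F) : ∃ τ : F ≃+* F, ∀ x, τ x = x ↔ x ∈ K := by
  obtain ⟨p, hchar⟩ := CharP.exists F
  obtain ⟨⟨e, he⟩, hp, hce⟩ := FiniteField.card F p
  obtain ⟨b, hb, hbe, hb1, hiff⟩ := Cfsg.Agent.Classical.subfield_card_eq hp hce K
  haveI : ExpChar F p := ExpChar.prime hp
  exact ⟨iterateFrobeniusEquiv F p b, fun x => by rw [hiff, iterateFrobeniusEquiv_def]⟩

/-- A centre with an axis carrying at least four elements and a second axis. -/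
def BigA (P : Subgroup G3) : Prop :=
  ∃ v φ₁ φ₂, Big P v φ₁ ∧ Mem P v φ₂ ∧ ∀ s : F, φ₂ ≠ s • φ₁

variable {P : Subgroup (GL (Fin 3) F)}

/-- An opposite centre off a given line through a centre. -/
theorem Gen.out (hG : Gen P) {v θ : V3} (hv : v ≠ 0) (hθ : θ ≠ 0) (hθv : θ ⬝ᵥ v = 0) :
    ∃ w ψ, Tv P w ψ ∧ ψ ⬝ᵥ v ≠ 0 ∧ θ ⬝ᵥ w ≠ 0 := by
  obtain ⟨w₀, ψ₀, hT₀, h₀⟩ := hG.moves v hv
  by_cases hw₀ : θ ⬝ᵥ w₀ = 0
  · obtain ⟨w, ψ, hT, hw⟩ := hG.spans θ hθ
    by_cases h : ψ ⬝ᵥ v = 0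
    · have hne : ψ ⬝ᵥ w₀ ≠ 0 := fun e => by
        have hind : ∀ s : F, v ≠ s • w₀ := fun s es => h₀ (by
          rw [es, dotProduct_smul, hT₀.2.2.orth hG.le_sl, smul_zero])
        obtain ⟨t, ht⟩ := axes_par hT₀.1 hind hθ h e hθv hw₀
        have : ψ ⬝ᵥ w = 0 := hT.2.2.orth hG.le_sl
        rw [ht, smul_dotProduct, smul_eq_mul, mul_eq_zero] at this
        rcases this with rfl | e'
        · exact hT.2.1 (by rw [ht, zero_smul])
        · exact hw e'
      have hm := hT₀.2.2.conjTv hG.two hG.le_sl hT.2.2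
      have h1 : θ ⬝ᵥ (w₀ + (ψ ⬝ᵥ w₀) • w) ≠ 0 := by
        rw [dotProduct_add, dotProduct_smul, hw₀, zero_add]
        exact smul_ne_zero hne hw
      have h2 : (ψ₀ + (ψ₀ ⬝ᵥ w) • ψ) ⬝ᵥ v ≠ 0 := by
        rwa [add_dotProduct, smul_dotProduct, h, smul_zero, add_zero]
      exact ⟨_, _, ⟨fun e => h1 (by rw [e, dotProduct_zero]), fun e => h2 (by rw [e, zero_dotProduct]), hm⟩,
        h2, h1⟩
    · exact ⟨w, ψ, hT, h, hw⟩
  · exact ⟨w₀, ψ₀, hT₀, h₀, hw₀⟩

/-- All transvections with centre `v` form the `K`-plane spanned by `η₁` and `η₂`. -/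
structure Std (P : Subgroup G3) (K : Subfield F) (v η₁ η₂ : V3) : Prop where
  mem : ∀ k ∈ K, ∀ l ∈ K, Mem P v (k • η₁ + l • η₂)
  full : ∀ φ, Mem P v φ → ∃ k ∈ K, ∃ l ∈ K, φ = k • η₁ + l • η₂
  indep : ∀ a b : F, a • η₁ + b • η₂ = 0 → a = 0 ∧ b = 0
  ne : v ≠ 0
  four : ∃ k ∈ K, k ≠ 0 ∧ k ≠ 1

variable {K : Subfield F} {v η₁ η₂ : Fin 3 → F}

theorem Std.swap (h : Std P K v η₁ η₂) : Std P K v η₂ η₁ where
  mem k hk l hl := by rw [add_comm]; exact h.mem l hl k hk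
  full φ hφ := by
    obtain ⟨k, hk, l, hl, e⟩ := h.full φ hφ
    exact ⟨l, hl, k, hk, by rw [e, add_comm]⟩
  indep a b e := (h.indep b a (by rwa [add_comm])).symm
  ne := h.ne
  four := h.four

theorem Std.conj (h : Std P K v η₁ η₂) {g : G3} (hg : g ∈ P) :
    Std P K ((g : M3) *ᵥ v) (η₁ ᵥ* ((g⁻¹ : G3) : M3)) (η₂ ᵥ* ((g⁻¹ : G3) : M3)) where
  mem k hk l hl := by
    rw [← smul_vecMul, ← smul_vecMul, ← add_vecMul]
    exact (h.mem k hk l hl).conj hg
  full φ hφ := by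
    have h' := hφ.conj (inv_mem hg)
    rw [mulVec_mulVec, Units.inv_mul, one_mulVec, inv_inv] at h'
    obtain ⟨k, hk, l, hl, e⟩ := h.full _ h'
    refine ⟨k, hk, l, hl, ?_⟩
    rw [← smul_vecMul, ← smul_vecMul, ← add_vecMul, ← e, vecMul_vecMul, Units.mul_inv, vecMul_one]
  indep a b e := by
    rw [← smul_vecMul, ← smul_vecMul, ← add_vecMul] at e
    refine h.indep a b ?_
    rw [← vecMul_one (a • η₁ + b • η₂), ← Units.inv_mul g, ← vecMul_vecMul, e, zero_vecMul]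
  ne e := h.ne (by rw [← Cfsg.Agent.Classical.gl_inv_mulVec_cancel g v, e, mulVec_zero])
  four := h.four

/-- Rescaling the centre and the two axes by elements of `K`. -/
theorem Std.rescale (h : Std P K v η₁ η₂) {c a b : F} (hc : c ∈ K) (hc0 : c ≠ 0) (ha : a ∈ K) (ha0 : a ≠ 0)
    (hb : b ∈ K) (hb0 : b ≠ 0) : Std P K (c • v) (a • η₁) (b • η₂) where
  mem k hk l hl := by
    rw [mem_smul_iff, smul_add, smul_smul, smul_smul, smul_smul, smul_smul]
    rw [mul_assoc c k a, mul_assoc c l b]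
    exact h.mem _ (mul_mem hc (mul_mem hk ha)) _ (mul_mem hc (mul_mem hl hb))
  full φ hφ := by
    rw [mem_smul_iff] at hφ
    obtain ⟨k, hk, l, hl, e⟩ := h.full _ hφ
    refine ⟨k / (c * a), div_mem hk (mul_mem hc ha), l / (c * b), div_mem hl (mul_mem hc hb), ?_⟩
    have e' := congrArg (fun x : V3 => c⁻¹ • x) e
    simp only [smul_smul, inv_mul_cancel₀ hc0, one_smul, smul_add] at e'
    rw [e', smul_smul, smul_smul]
    congr 2 <;> field_simp
  indep x y e := by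
    rw [smul_smul, smul_smul] at e
    obtain ⟨e1, e2⟩ := h.indep _ _ e
    exact ⟨(mul_eq_zero.1 e1).resolve_right ha0, (mul_eq_zero.1 e2).resolve_right hb0⟩
  ne e := h.ne ((smul_eq_zero.1 e).resolve_left hc0)
  four := h.four

/-- Every opposite transvection is rational with respect to a standard centre. -/
theorem Std.test (hG : Gen P) (h : Std P K v η₁ η₂) {w ψ : V3} (hw : Mem P w ψ) (hψ : ψ ⬝ᵥ v ≠ 0) :
    (ψ ⬝ᵥ v) * (η₁ ⬝ᵥ w) ∈ K ∧ (ψ ⬝ᵥ v) * (η₂ ⬝ᵥ w) ∈ K := by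
  suffices key : ∀ {η₁ η₂ : V3}, Std P K v η₁ η₂ → η₁ ⬝ᵥ w ≠ 0 →
      (ψ ⬝ᵥ v) * (η₁ ⬝ᵥ w) ∈ K ∧ (ψ ⬝ᵥ v) * (η₂ ⬝ᵥ w) ∈ K by
    by_cases h1 : η₁ ⬝ᵥ w = 0
    · by_cases h2 : η₂ ⬝ᵥ w = 0
      · simp [h1, h2]
      · exact (key h.swap h2).symm
    · exact key h h1
  intro η₁ η₂ h h1
  obtain ⟨k, hk, hk0, hk1⟩ := h.four
  have m1 : Mem P v η₁ := by simpa using h.mem 1 (one_mem K) 0 (zero_mem K)
  have m2 : Mem P v η₂ := by simpa using h.mem 0 (zero_mem K) 1 (one_mem K)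
  have mk : Mem P v (k • η₁) := by simpa using h.mem k hk 0 (zero_mem K)
  have hne : (k • η₁) ⬝ᵥ w ≠ η₁ ⬝ᵥ w := fun e => hk1 (by
    rw [smul_dotProduct, smul_eq_mul] at e
    exact (mul_eq_right₀ h1).1 e)
  obtain ⟨K', hK'⟩ := plane hG m1 hw h1 hψ mk (by rw [smul_dotProduct]; exact smul_ne_zero hk0 h1) hne
  have hη₁ : η₁ ≠ 0 := fun e => h1 (by rw [e, zero_dotProduct])
  obtain ⟨η, hη, hηw, hη0⟩ : ∃ η, Mem P v η ∧ η ⬝ᵥ w = 0 ∧ η ≠ 0 := by
    by_contra hno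
    push Not at hno
    obtain ⟨s, hs⟩ := hK'.line hno η₁ ⟨⟨h.ne, hη₁, m1⟩, k, hk0, hk1, mk⟩ η₂ m2
    have := h.indep (-s) 1 (by rw [hs]; module)
    exact one_ne_zero this.2
  have hle : ∀ l ∈ K', l ∈ K := by
    intro l hl
    obtain ⟨a, ha, b, hb, e⟩ := h.full η hη
    obtain ⟨a', ha', b', hb', e'⟩ := h.full _ (hK'.ker η hη hηw l hl)
    have e0 : (a' - l * a) • η₁ + (b' - l * b) • η₂ = 0 := by
      rw [sub_smul, sub_smul, ← smul_smul, ← smul_smul]
      linear_combination (norm := module) -e' + l • e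
    obtain ⟨e1, e2⟩ := h.indep _ _ e0
    by_cases ha0 : a = 0
    · have hb0 : b ≠ 0 := fun e3 => hη0 (by rw [e, ha0, e3]; simp)
      rw [show l = b' / b by field_simp; linear_combination -e2]
      exact div_mem hb' hb
    · rw [show l = a' / a by field_simp; linear_combination -e1]
      exact div_mem ha' ha
  have hc := hle _ hK'.mem
  have h2' := hle _ (hK'.shift η₂ m2)
  refine ⟨by rwa [mul_comm], ?_⟩
  have := mul_mem hc h2'
  rwa [show η₁ ⬝ᵥ w * ψ ⬝ᵥ v * (η₂ ⬝ᵥ w / η₁ ⬝ᵥ w) = ψ ⬝ᵥ v * η₂ ⬝ᵥ w by field_simp] at this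

/-- Standard position exists. -/
theorem exists_std (hG : Gen P) (hA : BigA P) :
    ∃ (K : Subfield F) (v η₁ η₂ w₁ ψ₁ w₂ ψ₂ : V3), Std P K v η₁ η₂ ∧ Mem P w₁ ψ₁ ∧ Mem P w₂ ψ₂ ∧
      ψ₁ ⬝ᵥ v ≠ 0 ∧ ψ₂ ⬝ᵥ v ≠ 0 ∧ η₁ ⬝ᵥ w₁ = 1 ∧ η₁ ⬝ᵥ w₂ = 0 ∧ η₂ ⬝ᵥ w₁ = 0 ∧ η₂ ⬝ᵥ w₂ = 1 := by
  obtain ⟨v, φ₁, φ₂, hφ₁, hφ₂, hind⟩ := hA
  obtain ⟨⟨hv, hφ₁0, hm₁⟩, s, hs0, hs1, hsm⟩ := hφ₁
  have hP := hG.le_sl
  obtain ⟨w, ψ, hT, hψ, ha⟩ := hG.out hv hφ₁0 (hm₁.orth hP)
  obtain ⟨K, hK⟩ := plane hG hm₁ hT.2.2 ha hψ hsm (by rw [smul_dotProduct]; exact smul_ne_zero hs0 ha)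
    (fun e => hs1 (by rw [smul_dotProduct, smul_eq_mul] at e; exact (mul_eq_right₀ ha).1 e))
  obtain ⟨η, hη, hηw, hη0⟩ : ∃ η, Mem P v η ∧ η ⬝ᵥ w = 0 ∧ η ≠ 0 := by
    by_contra hno
    push Not at hno
    obtain ⟨t, ht⟩ := hK.line hno φ₁ ⟨⟨hv, hφ₁0, hm₁⟩, s, hs0, hs1, hsm⟩ φ₂ hφ₂
    exact hind t ht
  obtain ⟨w', ψ', hT', hψ', ha'⟩ := hG.out hv hη0 (hη.orth hP)
  obtain ⟨k, hk, hk0, hk1⟩ := hK.four
  have hkη := hK.ker η hη hηw k hk
  obtain ⟨K', hK'⟩ := plane hG hη hT'.2.2 ha' hψ' hkη (by rw [smul_dotProduct]; exact smul_ne_zero hk0 ha')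
    (fun e => hk1 (by rw [smul_dotProduct, smul_eq_mul] at e; exact (mul_eq_right₀ ha').1 e))
  obtain ⟨η', hη', hη'w', hη'0⟩ : ∃ η', Mem P v η' ∧ η' ⬝ᵥ w' = 0 ∧ η' ≠ 0 := by
    by_contra hno
    push Not at hno
    obtain ⟨t, ht⟩ := hK'.line hno η ⟨⟨hv, hη0, hη⟩, k, hk0, hk1, hkη⟩ φ₁ hm₁
    exact ha (by rw [ht, smul_dotProduct, hηw, smul_zero])
  have hind2 : ∀ t : F, v ≠ t • w := fun t e => hψ (by
    rw [e, dotProduct_smul, hT.2.2.orth hP, smul_zero])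
  have hb : η' ⬝ᵥ w ≠ 0 := fun e => by
    obtain ⟨t, ht⟩ := axes_par hT.1 hind2 hη0 (hη'.orth hP) e (hη.orth hP) hηw
    rw [ht, smul_dotProduct, smul_eq_mul, mul_eq_zero] at hη'w'
    rcases hη'w' with rfl | e'
    · exact hη'0 (by rw [ht, zero_smul])
    · exact ha' e'
  set a := φ₁ ⬝ᵥ w with had
  set a' := η ⬝ᵥ w' with had'
  have hKK' : ∀ l ∈ K, l ∈ K' := fun l hl => by
    have := hK'.shift _ (hK.ker η hη hηw l hl)
    rwa [smul_dotProduct, smul_eq_mul, mul_div_assoc, div_self ha', mul_one] at this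
  have hb' : η' ⬝ᵥ w / a ∈ K := hK.shift _ hη'
  have hK'K : ∀ l ∈ K', l ∈ K := fun l hl => by
    have h1 := hK.shift _ (hK'.ker η' hη' hη'w' l hl)
    rw [smul_dotProduct, smul_eq_mul, mul_div_assoc] at h1
    have := div_mem h1 hb'
    rwa [mul_div_assoc, div_self (div_ne_zero hb ha), mul_one] at this
  set t := a / η' ⬝ᵥ w with htd
  have ht : t ∈ K := by rw [htd, ← inv_div]; exact inv_mem hb'
  have ht0 : t ≠ 0 := div_ne_zero ha hb
  refine ⟨K, v, t • η', η, a⁻¹ • w, a • ψ, a'⁻¹ • w', a' • ψ', ⟨?_, ?_, ?_, hv, k, hk, hk0, hk1⟩,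
    ?_, ?_, ?_, ?_, ?_, ?_, ?_, ?_⟩
  · intro x hx y hy
    rw [smul_smul]
    exact (hK'.ker η' hη' hη'w' _ (hKK' _ (mul_mem hx ht))).add hP (hK.ker η hη hηw y hy)
  · intro φ hφ
    refine ⟨φ ⬝ᵥ w / a, hK.shift φ hφ, φ ⬝ᵥ w' / a', hK'K _ (hK'.shift φ hφ), ?_⟩
    set d := φ - ((φ ⬝ᵥ w / a) • t • η' + (φ ⬝ᵥ w' / a') • η)
    have d1 : d ⬝ᵥ v = 0 := by
      simp [d, sub_dotProduct, add_dotProduct, smul_dotProduct, hφ.orth hP, hη.orth hP, hη'.orth hP]
    have d2 : d ⬝ᵥ w = 0 := by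
      simp [d, sub_dotProduct, add_dotProduct, smul_dotProduct, hηw, htd]
      field_simp
      ring
    have d3 : d ⬝ᵥ w' = 0 := by
      simp [d, sub_dotProduct, add_dotProduct, smul_dotProduct, hη'w', ← had']
      field_simp
      ring
    obtain ⟨z, hz⟩ := axes_par hT.1 hind2 hη0 d1 d2 (hη.orth hP) hηw
    rw [hz, smul_dotProduct, smul_eq_mul, mul_eq_zero] at d3
    rw [d3.resolve_right ha', zero_smul] at hz
    exact sub_eq_zero.1 hz
  · intro x y e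
    have e1 := congrArg (· ⬝ᵥ w) e
    have e2 := congrArg (· ⬝ᵥ w') e
    simp [add_dotProduct, smul_dotProduct, hηw, hη'w', ht0, hb, ha'] at e1 e2
    exact ⟨e1, e2.resolve_right ha'⟩
  · rw [mem_smul_iff, smul_smul, inv_mul_cancel₀ ha, one_smul]
    exact hT.2.2
  · rw [mem_smul_iff, smul_smul, inv_mul_cancel₀ ha', one_smul]
    exact hT'.2.2
  · rw [smul_dotProduct]; exact smul_ne_zero ha hψ
  · rw [smul_dotProduct]; exact smul_ne_zero ha' hψ'
  · simp [smul_dotProduct, dotProduct_smul, htd]; field_simp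
  · simp [smul_dotProduct, dotProduct_smul, hη'w']
  · simp [dotProduct_smul, hηw]
  · simp [dotProduct_smul, ← had', ha']

section Frame

/-- The transvections of a group in standard position are rational. -/
theorem rational_of_frame (hG : Gen P) {K : Subfield F} {c d c' d' : F}
    (h0 : Std P K ![1, 0, 0] ![0, 1, 0] ![0, 0, 1]) (hy : Mem P ![0, 1, 0] ![c, 0, d])
    (hy' : Mem P ![0, 0, 1] ![c', d', 0]) (hc : c ≠ 0) (hc' : c' ≠ 0) :
    (∀ g ∈ P, ∀ i j, (g : M3) i j ∈ K) ∧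
      ∀ i j : Fin 3, i ≠ j → ∀ k ∈ K, Mem P (Pi.single i 1) (Pi.single j k) := by
  have hP := hG.le_sl
  have h2 := hG.two
  haveI : CharP F 2 := CharTwo.of_one_ne_zero_of_two_eq_zero one_ne_zero h2
  have t1 := h0.test hG hy (by simp [dotProduct, Fin.sum_univ_three, hc])
  have t2 := h0.test hG hy' (by simp [dotProduct, Fin.sum_univ_three, hc'])
  simp [dotProduct, Fin.sum_univ_three] at t1 t2
  have hcK := t1
  have hc'K := t2
  -- the element carrying the first centre to the second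
  have hmove : ∀ (u ψ₀ φ₀ : V3) (e : F), e ∈ K → e ≠ 0 → Mem P u ψ₀ → ψ₀ ⬝ᵥ ![1, 0, 0] = e →
      φ₀ ⬝ᵥ u = e⁻¹ → Mem P ![1, 0, 0] φ₀ →
      Std P K (e • u)
        (![0, 1, 0] + ((![0, 1, 0] : V3) ⬝ᵥ u) • ψ₀ + ((![0, 1, 0] + ((![0, 1, 0] : V3) ⬝ᵥ u) • ψ₀) ⬝ᵥ ![1, 0, 0]) • φ₀)
        (![0, 0, 1] + ((![0, 0, 1] : V3) ⬝ᵥ u) • ψ₀ + ((![0, 0, 1] + ((![0, 0, 1] : V3) ⬝ᵥ u) • ψ₀) ⬝ᵥ ![1, 0, 0]) • φ₀) := by
    intro u ψ₀ φ₀ e he he0 hu hψ₀ hφ₀ hx
    have ho1 := hu.orth hP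
    have ho2 := hx.orth hP
    obtain ⟨g, hg, eg⟩ := hu
    obtain ⟨x, hxP, ex⟩ := hx
    have := h0.conj (mul_mem hxP hg)
    rwa [_root_.mul_inv_rev, inv_eq_self h2 eg ho1, inv_eq_self h2 ex ho2, Units.val_mul, Units.val_mul,
      ← mulVec_mulVec, eg, ex, tv_mulVec, tv_mulVec, ← vecMul_vecMul, ← vecMul_vecMul, vecMul_tv,
      vecMul_tv, vecMul_tv, vecMul_tv, hψ₀, dotProduct_add, ho2, dotProduct_smul, hφ₀, smul_eq_mul,
      zero_add, mul_inv_cancel₀ he0, one_smul,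
      show (![1, 0, 0] : V3) + e • u + ![1, 0, 0] = e • u by
        rw [add_right_comm, add_self h2, zero_add]] at this
  have hx1 : Mem P ![1, 0, 0] ![0, c⁻¹, 0] := by
    simpa using h0.mem _ (inv_mem hcK) 0 (zero_mem K)
  have hx2 : Mem P ![1, 0, 0] ![0, 0, c'⁻¹] := by
    simpa using h0.mem 0 (zero_mem K) _ (inv_mem hc'K)
  have s1 := (hmove ![0, 1, 0] ![c, 0, d] ![0, c⁻¹, 0] c hcK hc hy (by simp [dotProduct, Fin.sum_univ_three])
    (by simp [dotProduct, Fin.sum_univ_three]) hx1).rescale (inv_mem hcK) (inv_ne_zero hc) (inv_mem hcK)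
    (inv_ne_zero hc) (one_mem K) one_ne_zero
  have s2 := (hmove ![0, 0, 1] ![c', d', 0] ![0, 0, c'⁻¹] c' hc'K hc' hy' (by simp [dotProduct, Fin.sum_univ_three])
    (by simp [dotProduct, Fin.sum_univ_three]) hx2).rescale (inv_mem hc'K) (inv_ne_zero hc') (one_mem K)
    one_ne_zero (inv_mem hc'K) (inv_ne_zero hc')
  replace s1 : Std P K ![0, 1, 0] ![1, 0, c⁻¹ * d] ![0, 0, 1] := by
    convert s1 using 2 <;> funext i <;> fin_cases i <;>
      simp [dotProduct, Fin.sum_univ_three, hc, CharTwo.add_self_eq_zero]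
  replace s2 : Std P K ![0, 0, 1] ![0, 1, 0] ![1, c'⁻¹ * d', 0] := by
    convert s2 using 2 <;> funext i <;> fin_cases i <;>
      simp [dotProduct, Fin.sum_univ_three, hc', CharTwo.add_self_eq_zero]
  have hd : d ∈ K := by
    by_cases hd' : d' = 0
    · have hy'' := hy'.conjTv h2 hP hy
      have := h0.test hG hy'' (by simp [dotProduct, Fin.sum_univ_three, hc', hd'])
      simp [dotProduct, Fin.sum_univ_three, hd'] at this
      have h' := div_mem this.1 hc'K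
      rwa [mul_div_cancel_left₀ _ hc'] at h'
    · have := s1.test hG hy' (by simp [dotProduct, Fin.sum_univ_three, hd'])
      simp [dotProduct, Fin.sum_univ_three] at this
      have h' := mul_mem hcK (div_mem this.1 this.2)
      rwa [show c * (d' * (c⁻¹ * d) / d') = d by field_simp] at h'
  have hd' : d' ∈ K := by
    by_cases hd0 : d = 0
    · have hy'' := hy.conjTv h2 hP hy'
      have := h0.test hG hy'' (by simp [dotProduct, Fin.sum_univ_three, hc, hd0])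
      simp [dotProduct, Fin.sum_univ_three, hd0] at this
      have h' := div_mem this.2 hcK
      rwa [mul_div_cancel_left₀ _ hc] at h'
    · have := s2.test hG hy (by simp [dotProduct, Fin.sum_univ_three, hd0])
      simp [dotProduct, Fin.sum_univ_three] at this
      have h' := mul_mem hc'K (div_mem this.2 this.1)
      rwa [show c' * (d * (c'⁻¹ * d') / d) = d' by field_simp] at h'
  have hq : c⁻¹ * d ∈ K := mul_mem (inv_mem hcK) hd
  have hq' : c'⁻¹ * d' ∈ K := mul_mem (inv_mem hc'K) hd'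
  -- the standard position at all three coordinate centres
  have m1 : ∀ k ∈ K, ∀ l ∈ K, Mem P ![0, 1, 0] ![k, 0, l] := fun k hk l hl => by
    have := s1.mem k hk (l - k * (c⁻¹ * d)) (sub_mem hl (mul_mem hk hq))
    convert this using 1
    funext i; fin_cases i <;> simp
  have m2 : ∀ k ∈ K, ∀ l ∈ K, Mem P ![0, 0, 1] ![l, k, 0] := fun k hk l hl => by
    have := s2.mem (k - l * (c'⁻¹ * d')) (sub_mem hk (mul_mem hl hq')) l hl
    convert this using 1
    funext i; fin_cases i <;> simp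
  have hx21 := m1 1 (one_mem K) 0 (zero_mem K)
  have s3 : Std P K ![1, 1, 0] ![1, 1, 0] ![0, 0, 1] := by
    have ho := hx21.orth hP
    obtain ⟨g, hg, eg⟩ := hx21
    have := h0.conj hg
    rw [inv_eq_self h2 eg ho, eg, tv_mulVec, vecMul_tv, vecMul_tv] at this
    simpa [dotProduct, Fin.sum_univ_three] using this
  have hgen : ∀ w ψ, Mem P w ψ → ∀ i j, w i * ψ j ∈ K := by
    intro w ψ hm
    have ho := hm.orth hP
    simp [dotProduct, Fin.sum_univ_three] at ho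
    have e0 : ψ 0 * w 1 ∈ K ∧ ψ 0 * w 2 ∈ K := by
      by_cases h : ψ 0 = 0
      · simp [h]
      · simpa [dotProduct, Fin.sum_univ_three] using h0.test hG hm (by simpa [dotProduct, Fin.sum_univ_three] using h)
    have e1 : ψ 1 * (w 0 + c⁻¹ * d * w 2) ∈ K ∧ ψ 1 * w 2 ∈ K := by
      by_cases h : ψ 1 = 0
      · simp [h]
      · simpa [dotProduct, Fin.sum_univ_three] using s1.test hG hm (by simpa [dotProduct, Fin.sum_univ_three] using h)
    have e2 : ψ 2 * w 1 ∈ K ∧ ψ 2 * (w 0 + c'⁻¹ * d' * w 1) ∈ K := by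
      by_cases h : ψ 2 = 0
      · simp [h]
      · simpa [dotProduct, Fin.sum_univ_three] using s2.test hG hm (by simpa [dotProduct, Fin.sum_univ_three] using h)
    have e10 : w 0 * ψ 1 ∈ K := by
      rw [show w 0 * ψ 1 = ψ 1 * (w 0 + c⁻¹ * d * w 2) - c⁻¹ * d * (ψ 1 * w 2) by ring]
      exact sub_mem e1.1 (mul_mem hq e1.2)
    have e20 : w 0 * ψ 2 ∈ K := by
      rw [show w 0 * ψ 2 = ψ 2 * (w 0 + c'⁻¹ * d' * w 1) - c'⁻¹ * d' * (ψ 2 * w 1) by ring]
      exact sub_mem e2.2 (mul_mem hq' e2.1)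
    have e01 : w 1 * ψ 0 ∈ K := by rw [mul_comm]; exact e0.1
    have e33 : w 2 * ψ 2 ∈ K := by
      have hs : (ψ 0 + ψ 1) * (w 0 + w 1) ∈ K := by
        by_cases h : ψ 0 + ψ 1 = 0
        · simp [h]
        · have := (s3.test hG hm (by simpa [dotProduct, Fin.sum_univ_three] using h)).1
          simpa [dotProduct, Fin.sum_univ_three] using this
      rw [show w 2 * ψ 2 = w 0 * ψ 1 + w 1 * ψ 0 - (ψ 0 + ψ 1) * (w 0 + w 1) by linear_combination ho]
      exact sub_mem (add_mem e10 e01) hs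
    have e00 : w 0 * ψ 0 + w 1 * ψ 1 ∈ K := by
      rw [show w 0 * ψ 0 + w 1 * ψ 1 = -(w 2 * ψ 2) by linear_combination ho]
      exact neg_mem e33
    obtain ⟨e11, e22⟩ : w 1 * ψ 1 ∈ K ∧ w 0 * ψ 0 ∈ K := by
      suffices w 1 * ψ 1 ∈ K by
        refine ⟨this, ?_⟩
        have := sub_mem e00 this
        rwa [add_sub_cancel_right] at this
      by_cases h : ψ 1 = 0
      · simp [h]
      by_cases h' : w 2 = 0
      · by_cases h'' : ψ 0 = 0
        · have := e00; rwa [h'', mul_zero, zero_add] at this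
        by_cases hw : w 0 = 0
        · have := e00; rwa [hw, zero_mul, zero_add] at this
        -- all of `w 0, ψ 0, ψ 1` are nonzero
        have e := mul_mem e01 e10
        have e' : (w 0 * ψ 0) * (w 1 * ψ 1) ∈ K := by
          rwa [show (w 0 * ψ 0) * (w 1 * ψ 1) = w 1 * ψ 0 * (w 0 * ψ 1) by ring]
        have e'' : w 1 * ψ 1 = w 0 * ψ 0 := by
          rw [h'] at ho
          linear_combination ho - w 0 * ψ 0 * h2
        rw [← e'', ← sq] at e'
        haveI : CharP K 2 := CharTwo.of_one_ne_zero_of_two_eq_zero one_ne_zero (Subtype.ext h2)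
        obtain ⟨r, hr⟩ := FiniteField.isSquare_of_char_two (F := K) (ringChar.eq K 2) ⟨_, e'⟩
        have hr' : (w 1 * ψ 1) ^ 2 = (r : F) ^ 2 := by rw [sq (r : F)]; exact congrArg Subtype.val hr
        rw [CharTwo.sq_inj.1 hr']
        exact r.2
      · have := div_mem (mul_mem e0.1 e1.2) (show ψ 0 * w 2 ∈ K from e0.2)
        by_cases h'' : ψ 0 = 0
        · have := e00; rwa [h'', mul_zero, zero_add] at this
        rwa [show ψ 0 * w 1 * (ψ 1 * w 2) / (ψ 0 * w 2) = w 1 * ψ 1 by field_simp] at this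
    intro i j
    fin_cases i <;> fin_cases j
    · exact e22
    · exact e10
    · exact e20
    · exact e01
    · exact e11
    · show w 1 * ψ 2 ∈ K
      rw [mul_comm]; exact e2.1
    · show w 2 * ψ 0 ∈ K
      rw [mul_comm]; exact e0.2
    · show w 2 * ψ 1 ∈ K
      rw [mul_comm]; exact e1.2
    · exact e33
  refine ⟨fun g hg => ?_, ?_⟩
  · suffices H : ∀ i j, (g : M3) i j ∈ K ∧ ((g⁻¹ : G3) : M3) i j ∈ K from fun i j => (H i j).1
    refine Subgroup.closure_induction (p := fun (g : G3) _ =>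
      ∀ i j, (g : M3) i j ∈ K ∧ ((g⁻¹ : G3) : M3) i j ∈ K) ?_ ?_ ?_ ?_ (hG.gen hg)
    · rintro t ⟨w, ψ, hT, et⟩ i j
      rw [inv_eq_self h2 et (hT.2.2.orth hP), et, tv]
      refine ⟨?_, ?_⟩ <;> simp only [Matrix.add_apply, vecMulVec_apply] <;>
        refine add_mem ?_ (hgen w ψ hT.2.2 i j) <;> rw [Matrix.one_apply] <;> split <;>
        first | exact one_mem K | exact zero_mem K
    · intro i j
      simp only [inv_one, Units.val_one, Matrix.one_apply]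
      constructor <;> split <;> first | exact one_mem K | exact zero_mem K
    · intro a b _ _ ha hb i j
      rw [_root_.mul_inv_rev, Units.val_mul, Units.val_mul, Matrix.mul_apply, Matrix.mul_apply]
      exact ⟨sum_mem fun k _ => mul_mem (ha i k).1 (hb k j).1, sum_mem fun k _ => mul_mem (hb i k).2 (ha k j).2⟩
    · intro a _ ha i j
      rw [inv_inv]
      exact (ha i j).symm
  · intro i j hij k hk
    have e : ∀ (i : Fin 3) (x : F), Pi.single i x = (fun m => if m = i then x else 0 : V3) := fun i x => by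
      funext m; simp [Pi.single_apply]
    fin_cases i <;> fin_cases j <;> first | exact absurd rfl hij | skip
    · convert h0.mem k hk 0 (zero_mem K) using 1 <;> funext m <;> fin_cases m <;> simp [e]
    · convert h0.mem 0 (zero_mem K) k hk using 1 <;> funext m <;> fin_cases m <;> simp [e]
    · convert m1 k hk 0 (zero_mem K) using 1 <;> funext m <;> fin_cases m <;> simp [e]
    · convert m1 0 (zero_mem K) k hk using 1 <;> funext m <;> fin_cases m <;> simp [e]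
    · convert m2 0 (zero_mem K) k hk using 1 <;> funext m <;> fin_cases m <;> simp [e]
    · convert m2 k hk 0 (zero_mem K) using 1 <;> funext m <;> fin_cases m <;> simp [e]

end Frame

/-- Two axes at a centre, one of them big: the special linear group, or a twist. -/
theorem sl_or_twist_of_bigA (hG : Gen P) (hA : BigA P) :
    P = specialLinear (Fin 3) F ∨ ∃ τ : F ≃+* F, τ ≠ RingEquiv.refl F ∧ Twist P τ := by
  classical
  obtain ⟨K, v, η₁, η₂, w₁, ψ₁, w₂, ψ₂, hS, hm₁, hm₂, hψ₁, hψ₂, e11, e12, e21, e22⟩ := exists_std hG hA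
  set M : M3 := (Matrix.of ![v, w₁, w₂])ᵀ with hM
  have hMv : ∀ d : V3, M *ᵥ d = d 0 • v + d 1 • w₁ + d 2 • w₂ := fun d => by
    funext k; simp [M, mulVec, dotProduct, Fin.sum_univ_three]; ring
  have ho₁ : η₁ ⬝ᵥ v = 0 := (by simpa using hS.mem 1 (one_mem K) 0 (zero_mem K) : Mem P v η₁).orth hG.le_sl
  have ho₂ : η₂ ⬝ᵥ v = 0 := (by simpa using hS.mem 0 (zero_mem K) 1 (one_mem K) : Mem P v η₂).orth hG.le_sl
  have hMu : IsUnit M := Matrix.mulVec_injective_iff_isUnit.1 fun p q hpq => sub_eq_zero.1 (by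
    set d := p - q
    have e : d 0 • v + d 1 • w₁ + d 2 • w₂ = 0 := by rw [← hMv, mulVec_sub]; exact sub_eq_zero.2 hpq
    have e1 := congrArg (η₁ ⬝ᵥ ·) e
    have e2 := congrArg (η₂ ⬝ᵥ ·) e
    simp [dotProduct_add, dotProduct_smul, ho₁, ho₂, e11, e12, e21, e22] at e1 e2
    have e3 : d 0 • v = 0 := by simpa [e1, e2] using e
    funext k; fin_cases k
    · exact (smul_eq_zero.1 e3).resolve_right hS.ne
    · exact e1
    · exact e2)
  obtain ⟨B, hB⟩ := hMu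
  have row : ∀ (φ : V3) k, (φ ᵥ* (B : M3)) k = φ ⬝ᵥ ((B : M3) *ᵥ Pi.single k 1) := fun φ k => by
    rw [dotProduct_mulVec, dotProduct_single, mul_one]
  have b0 : (B : M3) *ᵥ ![1, 0, 0] = v := by rw [hB, hMv]; simp
  have b1 : (B : M3) *ᵥ ![0, 1, 0] = w₁ := by rw [hB, hMv]; simp
  have b2 : (B : M3) *ᵥ ![0, 0, 1] = w₂ := by rw [hB, hMv]; simp
  have r1 : η₁ ᵥ* (B : M3) = ![0, 1, 0] := by
    funext k; rw [row, hB, hMv]; fin_cases k <;> simp [ho₁, e11, e12]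
  have r2 : η₂ ᵥ* (B : M3) = ![0, 0, 1] := by
    funext k; rw [row, hB, hMv]; fin_cases k <;> simp [ho₂, e21, e22]
  have hmem : ∀ u φ, Mem P ((B : M3) *ᵥ u) φ ↔ Mem (cj P B) u (φ ᵥ* (B : M3)) := fun u φ => by
    rw [mem_cj_tv, vecMul_vecMul, Units.mul_inv, vecMul_one]
  have h0 : Std (cj P B) K ![1, 0, 0] ![0, 1, 0] ![0, 0, 1] := by
    refine ⟨fun k hk l hl => ?_, fun φ hφ => ?_, fun a b e => ?_, by simp, hS.four⟩
    · rw [← r1, ← r2, ← smul_vecMul, ← smul_vecMul, ← add_vecMul, ← hmem, b0]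
      exact hS.mem k hk l hl
    · rw [mem_cj_tv, b0] at hφ
      obtain ⟨k, hk, l, hl, e⟩ := hS.full _ hφ
      refine ⟨k, hk, l, hl, ?_⟩
      rw [← r1, ← r2, ← smul_vecMul, ← smul_vecMul, ← add_vecMul, ← e, vecMul_vecMul, Units.inv_mul,
        vecMul_one]
    · exact ⟨by simpa using congrFun e 1, by simpa using congrFun e 2⟩
  have hy : Mem (cj P B) ![0, 1, 0] ![ψ₁ ⬝ᵥ v, 0, ψ₁ ⬝ᵥ w₂] := by
    have := (hmem ![0, 1, 0] ψ₁).1 (b1.symm ▸ hm₁)
    convert this using 1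
    funext k; rw [row, hB, hMv]; fin_cases k <;> simp [hm₁.orth hG.le_sl]
  have hy' : Mem (cj P B) ![0, 0, 1] ![ψ₂ ⬝ᵥ v, ψ₂ ⬝ᵥ w₁, 0] := by
    have := (hmem ![0, 0, 1] ψ₂).1 (b2.symm ▸ hm₂)
    convert this using 1
    funext k; rw [row, hB, hMv]; fin_cases k <;> simp [hm₂.orth hG.le_sl]
  obtain ⟨hrat, hroots⟩ := rational_of_frame (hG.cj' B) h0 hy hy' hψ₁ hψ₂
  by_cases hK : ∀ x, x ∈ K
  · left
    refine le_antisymm hG.le_sl fun g hg => ?_
    have hle : specialLinear (Fin 3) F ≤ cj P B := by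
      rw [Cfsg.Agent.Classical.specialLinear_le_iff]
      intro i j hij k
      obtain ⟨t, ht, et⟩ := hroots i j hij k (hK k)
      convert ht using 1
      refine Units.ext ?_
      rw [Cfsg.Agent.Classical.transGL_coe, et]
      ext a b
      simp [tv, Matrix.transvection, vecMulVec, Matrix.single_apply, Matrix.one_apply, Pi.single_apply]
      grind
    have h' := mem_cj.1 (hle (show B⁻¹ * g * B ∈ specialLinear (Fin 3) F by
      rw [specialLinear, MonoidHom.mem_ker] at hg ⊢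
      rw [map_mul, map_mul, map_inv, hg, mul_one, inv_mul_cancel]))
    simpa [mul_assoc] using h'
  · right
    obtain ⟨τ, hτ⟩ := exists_aut K
    refine ⟨τ, fun e => hK fun x => (hτ x).1 (by rw [e]; rfl), ?_⟩
    have hBτ : IsUnit ((((B⁻¹ : G3)) : M3).map τ) := B⁻¹.isUnit.map (RingHom.mapMatrix (τ : F →+* F))
    refine ⟨(B : M3) * ((((B⁻¹ : G3)) : M3).map τ), B.isUnit.mul hBτ, fun x hx => ?_⟩
    have hx' : B⁻¹ * x * B ∈ cj P B := mem_cj.2 (by simpa [mul_assoc] using hx)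
    have e : (((B⁻¹ * x * B : G3)) : M3).map τ = ((B⁻¹ * x * B : G3) : M3) := by
      ext i j; exact (hτ _).2 (hrat _ hx' i j)
    have mm : ∀ A C : M3, (A * C).map τ = A.map τ * C.map τ := fun A C =>
      Matrix.map_mul (f := (τ : F →+* F))
    calc (B : M3) * (((B⁻¹ : G3) : M3).map τ) * (x : M3).map τ
        = (B : M3) * ((((B⁻¹ * x * B : G3)) : M3) * ((B⁻¹ : G3) : M3)).map τ := by
          rw [Matrix.mul_assoc, ← mm]
          congr 2
          rw [Units.val_mul, Units.val_mul, Matrix.mul_assoc, Units.mul_inv, Matrix.mul_one]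
      _ = (B : M3) * (((B⁻¹ * x * B : G3)) : M3) * ((B⁻¹ : G3) : M3).map τ := by
          rw [mm, e, Matrix.mul_assoc]
      _ = (x : M3) * ((B : M3) * ((B⁻¹ : G3) : M3).map τ) := by
          rw [← Units.val_mul, ← mul_assoc, mul_inv_cancel_left, Units.val_mul, Matrix.mul_assoc]

/-- The same for the dual group. -/
theorem sl_or_twist_of_bigA_dual (hG : Gen P) (hA : BigA (dual P)) :
    P = specialLinear (Fin 3) F ∨ ∃ τ : F ≃+* F, τ ≠ RingEquiv.refl F ∧ Twist P τ := by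
  rcases sl_or_twist_of_bigA hG.dual' hA with h | ⟨τ, hne, C, hC, hCx⟩
  · left
    refine le_antisymm hG.le_sl fun g hg => ?_
    rw [← dual_dual P, h]
    refine ⟨dualHom g, dual_le_sl le_rfl ⟨g, hg, rfl⟩, dualHom_dualHom g⟩
  · right
    have hCt : IsUnit Cᵀ := (Matrix.isUnit_iff_isUnit_det _).mpr (by
      rw [det_transpose]; exact (Matrix.isUnit_iff_isUnit_det _).mp hC)
    obtain ⟨u, hu⟩ := hCt
    refine ⟨τ, hne, ((u⁻¹ : G3) : M3), u⁻¹.isUnit, fun x hx => ?_⟩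
    have e := congrArg Matrix.transpose (hCx _ ⟨x⁻¹, inv_mem hx, rfl⟩)
    rw [show ((dualHom x⁻¹ : G3) : M3) = (x : M3)ᵀ by show (((x⁻¹)⁻¹ : G3) : M3)ᵀ = _; rw [inv_inv],
      transpose_mul, transpose_mul, ← Matrix.transpose_map, transpose_transpose, ← hu] at e
    calc ((u⁻¹ : G3) : M3) * (x : M3).map τ
        = ((u⁻¹ : G3) : M3) * ((x : M3).map τ * (u : M3)) * ((u⁻¹ : G3) : M3) := by
          rw [← Matrix.mul_assoc, Matrix.mul_assoc _ (u : M3), Units.mul_inv, Matrix.mul_one]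
      _ = (x : M3) * ((u⁻¹ : G3) : M3) := by
          rw [e, ← Matrix.mul_assoc, Units.inv_mul, Matrix.one_mul]

end Cfsg.Agent.PThree.TEven
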